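import Cfsg.Agent.Lib.AltEightSyl.Factors

/-!
# The two configurations of the fusion of the central involution

Either the central involution is conjugate to 1 and not to 10, and 2 is conjugate to 10 (the first case),
or it is conjugate to 2 and to none of 1, 10, 11 (the second case).
-/

set_option autoImplicit false
set_option linter.style.haveILetI false
set_option linter.unusedSectionVars false
set_option maxRecDepth 100000

namespace Cfsg.Lib.AltEightSyl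

open Cfsg Cfsg.Lib Subgroup Syl34

universe u

/-- An automorphism exchanging the classes of 1 and 10. -/
def aeAlpha (i : Fin 64) : Fin 64 :=
  [0, 10, 2, 8, 15, 5, 13, 7, 3, 9, 1, 11, 12, 6, 14, 4, 32, 42, 34, 40, 47, 37, 45, 39, 35, 41, 33,
  43, 44, 38, 46, 36, 16, 26, 18, 24, 31, 21, 29, 23, 19, 25, 17, 27, 28, 22, 30, 20, 48, 58, 50, 56,
  63, 53, 61, 55, 51, 57, 49, 59, 60, 54, 62, 52].getD i.val 0

/-- An automorphism exchanging the classes of 1 and 11. -/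
def aEAlpha (i : Fin 64) : Fin 64 :=
  [0, 14, 2, 12, 11, 5, 9, 7, 8, 6, 10, 4, 3, 13, 1, 15, 48, 62, 50, 60, 59, 53, 57, 55, 56, 54, 58,
  52, 51, 61, 49, 63, 32, 46, 34, 44, 43, 37, 41, 39, 40, 38, 42, 36, 35, 45, 33, 47, 16, 30, 18, 28,
  27, 21, 25, 23, 24, 22, 26, 20, 19, 29, 17, 31].getD i.val 0

/-- An automorphism exchanging the classes of 10 and 11. -/
def eEAlpha (i : Fin 64) : Fin 64 :=
  [0, 1, 2, 3, 4, 5, 6, 7, 12, 13, 14, 15, 8, 9, 10, 11, 16, 17, 18, 19, 20, 21, 22, 23, 28, 29, 30,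
  31, 24, 25, 26, 27, 48, 49, 50, 51, 52, 53, 54, 55, 60, 61, 62, 63, 56, 57, 58, 59, 32, 33, 34, 35,
  36, 37, 38, 39, 44, 45, 46, 47, 40, 41, 42, 43].getD i.val 0

theorem alpha_facts :
    ((∀ i j, aeAlpha (aMul i j) = aMul (aeAlpha i) (aeAlpha j)) ∧ (∀ i, aeAlpha (aeAlpha i) = i) ∧
      aeAlpha 5 = 5 ∧ aeAlpha 1 = 10) ∧
    ((∀ i j, aEAlpha (aMul i j) = aMul (aEAlpha i) (aEAlpha j)) ∧ (∀ i, aEAlpha (aEAlpha i) = i) ∧
      aEAlpha 5 = 5 ∧ aCl (aEAlpha 1) = 11) ∧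
    ((∀ i j, eEAlpha (aMul i j) = aMul (eEAlpha i) (eEAlpha j)) ∧ (∀ i, eEAlpha (eEAlpha i) = i) ∧
      eEAlpha 5 = 5 ∧ eEAlpha 1 = 1 ∧ aCl (eEAlpha 10) = 11 ∧ aCl (eEAlpha 11) = 10) := by
  refine ⟨⟨?_, ?_, ?_, ?_⟩, ⟨?_, ?_, ?_, ?_⟩, ?_, ?_, ?_, ?_, ?_, ?_⟩ <;> decide +kernel

namespace Frame

variable {G : Type u} [Group G] (F : Frame G)

/-- The central involution is conjugate to 1 and not to 10, and 2 is conjugate to 10. -/
def CaseOne : Prop := F.Cj 5 1 ∧ ¬ F.Cj 5 10 ∧ F.Cj 2 10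

/-- The central involution is conjugate to 2 and to none of 1, 10, 11. -/
def CaseTwo : Prop := F.Cj 5 2 ∧ ¬ F.Cj 5 1 ∧ ¬ F.Cj 5 10 ∧ ¬ F.Cj 5 11

variable [Finite G]

theorem cj_of_cls {i j : Fin 64} {r : Fin 64} (hi : aCl i = r) (hr : r ≠ 0) (h : F.Cj j r) : F.Cj j i :=
  IsConj.trans h (hi ▸ F.cj_cl (hi ▸ hr))

/-- A frame in the same subgroup in one of the two configurations. -/
theorem exists_case (hG : Good F) :
    ∃ F' : Frame G, F'.P = F.P ∧ Good F' ∧ (F'.CaseOne ∨ F'.CaseTwo) := by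
  obtain ⟨⟨am, ai, a5, a1⟩, ⟨bm, bi, b5, b1⟩, em, ei, e5, e1, e10, e11⟩ := alpha_facts
  obtain ⟨dm, di, -, d5, d1, d2, -, -, -, d10, d11⟩ := bdAlpha_facts
  have hcls : ∀ (F : Frame G), Good F → ∀ i : Fin 64, i ≠ 5 → F.Cj 5 i →
      F.Cj 5 1 ∨ F.Cj 5 10 ∨ F.Cj 5 11 ∨ F.Cj 5 2 ∨ F.Cj 5 6 := by
    intro F hG i hi h
    have h0 := F.z_conj_zero h
    have hc : F.Cj 5 (aCl i) := IsConj.trans h (F.cj_rep h0)
    have hout : ∀ u : Fin 64, u = 16 ∨ u = 32 ∨ u = 48 → F.Cj 5 u → F.Cj 5 1 ∨ F.Cj 5 10 ∨ F.Cj 5 11 := by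
      intro u hu hu5
      obtain ⟨x, -, w, hw, hx⟩ := F.fused_x hG hu (F.all_fused hG u hu)
      have := IsConj.trans hu5 (isConj_iff.2 ⟨x, hx⟩)
      rcases hw with rfl | rfl | rfl
      exacts [Or.inl this, Or.inr (Or.inl this), Or.inr (Or.inr this)]
    rcases ((aCl_facts i).2 h0).1 with e | e | e | e | e | e | e | e | e
    · exact absurd ((aCl_list i).1.1 e) hi
    · exact Or.inl (e ▸ hc)
    · exact Or.inr (Or.inr (Or.inr (Or.inl (e ▸ hc))))
    · exact Or.inr (Or.inr (Or.inr (Or.inr (e ▸ hc))))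
    · exact Or.inr (Or.inl (e ▸ hc))
    · exact Or.inr (Or.inr (Or.inl (e ▸ hc)))
    all_goals
      rcases hout (aCl i) (by rw [e]; decide) hc with h' | h' | h'
      exacts [Or.inl h', Or.inr (Or.inl h'), Or.inr (Or.inr (Or.inl h'))]
  -- the central involution conjugate to 1
  have hone : ∀ F : Frame G, Good F → F.Cj 5 1 → ∃ F' : Frame G, F'.P = F.P ∧ Good F' ∧ F'.CaseOne := by
    have step : ∀ F : Frame G, Good F → F.Cj 5 1 → ¬ F.Cj 5 10 →
        ∃ F' : Frame G, F'.P = F.P ∧ Good F' ∧ F'.CaseOne := by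
      intro F hG h1 h10
      rcases F.bd_of_za h1 with ⟨h, -⟩ | ⟨h, -⟩
      · exact ⟨F, rfl, hG, h1, h10, h⟩
      · refine ⟨F.precomp bdAlpha dm (Function.Involutive.injective di), rfl, F.good_precomp hG _ _ _ d5, ?_, ?_, ?_⟩
        · show F.Cj (bdAlpha 5) (bdAlpha 1)
          rw [d5, d1]; exact h1
        · show ¬ F.Cj (bdAlpha 5) (bdAlpha 10)
          rw [d5]
          exact fun hh => h10 (IsConj.trans hh (d10 ▸ F.cj_rep (d10 ▸ by decide +kernel)))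
        · show F.Cj (bdAlpha 2) (bdAlpha 10)
          rw [d2]
          exact F.cj_of_cls d10 (by decide +kernel) h
    intro F hG h1
    by_cases h10 : F.Cj 5 10
    · obtain ⟨F', hP, hG', hc⟩ := step (F.precomp eEAlpha em (Function.Involutive.injective ei))
        (F.good_precomp hG _ _ _ e5) (show F.Cj (eEAlpha 5) (eEAlpha 1) by rw [e5, e1]; exact h1)
        (show ¬ F.Cj (eEAlpha 5) (eEAlpha 10) by
          rw [e5]
          exact fun hh => F.not_all_three h1 h10 (IsConj.trans hh (e10 ▸ F.cj_rep (e10 ▸ by decide +kernel))))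
      exact ⟨F', hP, hG', hc⟩
    · exact step F hG h1 h10
  obtain ⟨i, hi, h⟩ := F.exists_z_conj hG
  by_cases h1 : F.Cj 5 1
  · obtain ⟨F', hP, hG', hc⟩ := hone F hG h1
    exact ⟨F', hP, hG', Or.inl hc⟩
  by_cases h10 : F.Cj 5 10
  · obtain ⟨F', hP, hG', hc⟩ := hone (F.precomp aeAlpha am (Function.Involutive.injective ai))
      (F.good_precomp hG _ _ _ a5) (show F.Cj (aeAlpha 5) (aeAlpha 1) by rw [a5, a1]; exact h10)
    exact ⟨F', hP, hG', Or.inl hc⟩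
  by_cases h11 : F.Cj 5 11
  · obtain ⟨F', hP, hG', hc⟩ := hone (F.precomp aEAlpha bm (Function.Involutive.injective bi))
      (F.good_precomp hG _ _ _ b5)
      (show F.Cj (aEAlpha 5) (aEAlpha 1) by rw [b5]; exact F.cj_of_cls b1 (by decide +kernel) h11)
    exact ⟨F', hP, hG', Or.inl hc⟩
  rcases hcls F hG i hi h with h' | h' | h' | h' | h'
  · exact absurd h' h1
  · exact absurd h' h10
  · exact absurd h' h11
  · exact ⟨F, rfl, hG, Or.inr ⟨h', h1, h10, h11⟩⟩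
  · refine ⟨F.precomp bdAlpha dm (Function.Involutive.injective di), rfl, F.good_precomp hG _ _ _ d5,
      Or.inr ⟨?_, ?_, ?_, ?_⟩⟩
    · show F.Cj (bdAlpha 5) (bdAlpha 2)
      rw [d5, d2]; exact h'
    · show ¬ F.Cj (bdAlpha 5) (bdAlpha 1)
      rw [d5, d1]; exact h1
    · show ¬ F.Cj (bdAlpha 5) (bdAlpha 10)
      rw [d5]
      exact fun hh => h10 (IsConj.trans hh (d10 ▸ F.cj_rep (d10 ▸ by decide +kernel)))
    · show ¬ F.Cj (bdAlpha 5) (bdAlpha 11)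
      rw [d5]
      exact fun hh => h11 (IsConj.trans hh (d11 ▸ F.cj_rep (d11 ▸ by decide +kernel)))

/-- An element of the centraliser of the central involution sends 1, 10, 11 to the classes of 16, 32, 48. -/
theorem exists_anti (hG : Good F) : ∃ n : G, F.Acts n ∧ ∀ r : Fin 64, r = 1 ∨ r = 10 ∨ r = 11 →
    ∃ l, n * F.f r * n⁻¹ = F.f l ∧ aCl l = rotCls (1, 2) r := by
  obtain ⟨n, hn⟩ := F.rot_anti hG
  refine ⟨n, F.mem_nq.1 n.2, ?_⟩
  intro r hr
  have hcl : aCl r = r := by rcases hr with rfl | rfl | rfl <;> decide +kernel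
  obtain ⟨l, e, hl⟩ := F.rot_class hn (i := r) (by rw [hcl]; exact hr)
  exact ⟨l, e, hcl ▸ hl⟩

theorem cj_anti (hG : Good F) : F.Cj 1 16 ∧ F.Cj 10 32 ∧ F.Cj 11 48 := by
  obtain ⟨n, -, hn⟩ := F.exists_anti hG
  have key : ∀ r t : Fin 64, r = 1 ∨ r = 10 ∨ r = 11 → rotCls (1, 2) r = t → t ≠ 0 → F.Cj r t := by
    intro r t hr ht ht0
    obtain ⟨l, e, hl⟩ := hn r hr
    rw [ht] at hl
    exact IsConj.trans (isConj_iff.2 ⟨n, e⟩) (hl ▸ F.cj_rep (hl ▸ ht0))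
  exact ⟨key 1 16 (by tauto) antidiag_facts.1 (by decide), key 10 32 (by tauto) antidiag_facts.2.1 (by decide),
    key 11 48 (by tauto) antidiag_facts.2.2.1 (by decide)⟩

/-- A rotation by a step in the same sense joins the classes of 1 and 10. -/
theorem cj_diag (h : F.Rot (1, 1)) : F.Cj 1 10 := by
  obtain ⟨n, hn⟩ := h
  obtain ⟨l, e, hl⟩ := F.rot_class hn (i := 1) (by decide +kernel)
  rw [show rotCls (1, 1) (aCl 1) = 10 by decide +kernel] at hl
  exact IsConj.trans (isConj_iff.2 ⟨(n : G), e⟩) (hl ▸ F.cj_rep (hl ▸ by decide))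

namespace CaseOne

variable {F}

theorem not_Ee (h : F.CaseOne) : ¬ F.Cj 10 11 := by
  intro hh
  by_cases hE : F.Cj 5 11
  · exact h.2.1 (IsConj.trans hE hh.symm)
  · exact F.not_eE h.1 h.2.1 hE hh

theorem not_de (h : F.CaseOne) : ¬ F.Cj 6 10 := by
  intro hh
  rcases F.bd_of_za h.1 with ⟨-, h6⟩ | ⟨-, h2⟩
  · exact h.not_Ee (IsConj.trans hh.symm h6)
  · exact h.not_Ee (IsConj.trans h.2.2.symm h2)

theorem cj_six (h : F.CaseOne) : F.Cj 6 11 := by
  rcases F.bd_of_za h.1 with ⟨-, h6⟩ | ⟨h6, -⟩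
  · exact h6
  · exact absurd h6 h.not_de

/-- The rotations realised are those in opposite senses. -/
theorem rot_zero (h : F.CaseOne) (hG : Good F) (k : Fin 3 × Fin 3) (hk : F.Rot k) : k.1 + k.2 = 0 := by
  by_contra hne
  have h12 := F.rot_anti hG
  have h21 := F.rot_swap h12
  have g1 := F.rot_mul hk h12
  have g2 := F.rot_mul hk h21
  have d0 := F.rot_mul hk hk
  have d1 := F.rot_mul g1 g1
  have d2 := F.rot_mul g2 g2
  refine h.2.1 (IsConj.trans h.1 (F.cj_diag ?_))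
  rcases diag_combos k hne with e | e | e | e | e | e
  exacts [e ▸ hk, e ▸ g1, e ▸ g2, e ▸ d0, e ▸ d1, e ▸ d2]
where
  diag_combos : ∀ k : Fin 3 × Fin 3, k.1 + k.2 ≠ 0 → k = (1, 1) ∨ (k.1 + 1, k.2 + 2) = (1, 1) ∨
      (k.1 + 2, k.2 + 1) = (1, 1) ∨ (k.1 + k.1, k.2 + k.2) = (1, 1) ∨
      (k.1 + 1 + (k.1 + 1), k.2 + 2 + (k.2 + 2)) = (1, 1) ∨
      (k.1 + 2 + (k.1 + 2), k.2 + 1 + (k.2 + 1)) = (1, 1) := by decide +kernel

end CaseOne

namespace CaseTwo

variable {F}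

/-- An element centralising the central involution, normalising the subgroup of order sixteen and moving
the classes of 1 and 10 to those of 10 and 11. -/
theorem exists_diag (h : F.CaseTwo) : ∃ n ∈ normalizer (F.aGrp : Set G), Commute n F.z ∧
    ∃ j j' : Fin 64, n * F.f 1 * n⁻¹ = F.f j ∧ aCl j = 10 ∧ n * F.f 10 * n⁻¹ = F.f j' ∧ aCl j' = 11 := by
  obtain ⟨⟨m, ⟨n, hn, hnv⟩, h5, h1, h10⟩, -, -⟩ := F.zb_facts h.1 h.2.1 h.2.2.1 h.2.2.2
  refine ⟨n, hn, ?_, iA (app m 1), iA (app m 10), hnv 1, ?_, hnv 10, ?_⟩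
  · have := hnv 5
    rw [h5, mul_inv_eq_iff_eq_mul] at this
    exact this
  · rcases h1 with e | e <;> rw [e] <;> decide +kernel
  · rcases h10 with e | e <;> rw [e] <;> decide +kernel

theorem cj_six (h : F.CaseTwo) : F.Cj 6 1 := (F.zb_facts h.1 h.2.1 h.2.2.1 h.2.2.2).2.1

theorem not_d (h : F.CaseTwo) : ¬ F.Cj 5 6 := (F.zb_facts h.1 h.2.1 h.2.2.1 h.2.2.2).2.2

/-- The conjugates of the central involution in the Sylow subgroup. -/
theorem z_class (h : F.CaseTwo) (hG : Good F) {j : Fin 64} (hj : F.Cj 5 j) : j = 5 ∨ aCl j = 2 := by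
  have h0 := F.z_conj_zero hj
  have hc : F.Cj 5 (aCl j) := IsConj.trans hj (F.cj_rep h0)
  obtain ⟨c1, c10, c11⟩ := F.cj_anti hG
  rcases ((aCl_facts j).2 h0).1 with e | e | e | e | e | e | e | e | e <;> rw [e] at hc
  · exact Or.inl ((aCl_list j).1.1 e)
  · exact absurd hc h.2.1
  · exact Or.inr e
  · exact absurd hc h.not_d
  · exact absurd hc h.2.2.1
  · exact absurd hc h.2.2.2
  · exact absurd (IsConj.trans hc c1.symm) h.2.1
  · exact absurd (IsConj.trans hc c10.symm) h.2.2.1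
  · exact absurd (IsConj.trans hc c11.symm) h.2.2.2

/-- The diagonal rotation is realised. -/
theorem rot_diag (h : F.CaseTwo) (hG : Good F) : ∃ n : F.nq, F.perm n = rot (1, 1) ∧
    ∀ H : Subgroup G, th F.z ≤ H → normalizer (F.aGrp : Set G) ≤ H → (n : G) ∈ H := by
  obtain ⟨g, hgA, hgz, j, -, e1, hj, -, -⟩ := h.exists_diag
  obtain ⟨o, ho, n, hn, hgon⟩ := F.exists_acts hG hgz
  obtain ⟨l, -, el⟩ := F.acts_idx hn (i := 1) (by decide +kernel)
  have hlj : l = j := by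
    refine F.md_eq (F.md_symm ?_)
    rw [← e1, hgon, show o * n * F.f 1 * (o * n)⁻¹ = o * (n * F.f 1 * n⁻¹) * o⁻¹ by group, el]
    exact F.md_of_th ho (F.comm_z l).symm
  subst hlj
  have hnH : ∀ H : Subgroup G, th F.z ≤ H → normalizer (F.aGrp : Set G) ≤ H → n ∈ H := fun H h1 h2 => by
    have := mul_mem (inv_mem (h1 ho)) (h2 hgA)
    rwa [hgon, inv_mul_cancel_left] at this
  have key : ∀ (m : F.nq) (k : Fin 3 × Fin 3) (i : Fin 64), F.perm m = rot k →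
      (m : G) * F.f 1 * (m : G)⁻¹ = F.f i → aCl i = 10 → F.perm m = rot (1, 1) := by
    intro m k i hm he hi
    obtain ⟨l', e', hl'⟩ := F.rot_class hm (i := 1) (by decide +kernel)
    rw [F.inj _ _ (he.symm.trans e')] at hi
    rw [hm, antidiag_facts.2.2.2.2.2.2.1 k]
    rw [← hi, hl']
    rfl
  rcases F.perm_cases ⟨n, F.mem_nq.2 hn⟩ with ⟨k, hk⟩ | ⟨k, hk⟩
  · exact ⟨⟨n, F.mem_nq.2 hn⟩, key _ k l hk el hj, hnH⟩
  · have hk' : F.perm (⟨F.f 2, F.nq_f 2⟩ * ⟨n, F.mem_nq.2 hn⟩) = rot k := by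
      rw [map_mul, F.perm_f, if_neg (by decide +kernel), hk]
    refine ⟨⟨F.f 2, F.nq_f 2⟩ * ⟨n, F.mem_nq.2 hn⟩, key _ k (aConj 2 l) hk' ?_ (by rw [conj_two, hj]),
      fun H h1 h2 => mul_mem (h2 (F.P_le_normalizer (F.f_mem 2))) (hnH H h1 h2)⟩
    rw [F.fconj, ← el]
    simp [mul_assoc]
where
  conj_two : ∀ l : Fin 64, aCl (aConj 2 l) = aCl l := by decide +kernel

end CaseTwo

end Frame

end Cfsg.Lib.AltEightSyl
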