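import Cfsg.Agent.Lib.AltEightSyl.Fusion
import Cfsg.Agent.Lib.EightThree.Pairs
import Cfsg.Agent.Lib.Syl34.Th

/-!
# All involutions outside the subgroup of order sixteen fuse into it

Otherwise there would be three classes of involutions and the normaliser of that subgroup would act as
`A₅` on the five conjugates of the central involution, so that it would be normal.
-/

set_option autoImplicit false
set_option linter.style.haveILetI false
set_option linter.unusedSectionVars false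
set_option maxRecDepth 100000

namespace Cfsg.Lib.AltEightSyl

open Cfsg Cfsg.Lib Subgroup

universe u

/-- The automorphism exchanging the classes of 2 and 6. -/
def bdAlpha (i : Fin 64) : Fin 64 :=
  [0, 1, 6, 7, 4, 5, 2, 3, 9, 8, 15, 14, 13, 12, 11, 10, 16, 17, 22, 23, 20, 21, 18, 19, 25, 24, 31, 30, 29, 28,
    27, 26, 32, 33, 38, 39, 36, 37, 34, 35, 41, 40, 47, 46, 45, 44, 43, 42, 48, 49, 54, 55, 52, 53, 50, 51, 57, 56,
    63, 62, 61, 60, 59, 58].getD i.val 0

theorem bdAlpha_facts : (∀ i j, bdAlpha (aMul i j) = aMul (bdAlpha i) (bdAlpha j)) ∧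
    (∀ i, bdAlpha (bdAlpha i) = i) ∧ (∀ i, inA (bdAlpha i) = inA i) ∧
    bdAlpha 5 = 5 ∧ bdAlpha 1 = 1 ∧ bdAlpha 2 = 6 ∧ bdAlpha 16 = 16 ∧ bdAlpha 32 = 32 ∧ bdAlpha 48 = 48 ∧
    aCl (bdAlpha 10) = 10 ∧ aCl (bdAlpha 11) = 11 := by
  refine ⟨?_, ?_, ?_, ?_, ?_, ?_, ?_, ?_, ?_, ?_, ?_⟩ <;> decide +kernel

/-- The five conjugates of the central involution in the subgroup of order sixteen. -/
def pt : Fin 5 → Fin 64 := ![5, 2, 3, 8, 12]

theorem pt_facts : (∀ k, inA (pt k) = true) ∧ (∀ k l, pt k = pt l → k = l) ∧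
    (∀ i : Fin 64, aCl i = 5 ∨ aCl i = 2 → ∃ k, pt k = i) ∧ (∀ k, aCl (pt k) = 5 ∨ aCl (pt k) = 2) := by
  refine ⟨?_, ?_, ?_, ?_⟩ <;> decide +kernel

theorem sylow_perm : ∀ i : Fin 64, ∀ σ : Equiv.Perm (Fin 5), (∀ k, aConj i (pt k) = pt (σ k)) →
    Equiv.Perm.sign σ = 1 := by
  decide +kernel

/-- The two double transpositions given by the generators of the complement, and the identity. -/
def kleinPts : List (Equiv.Perm (Fin 5)) :=
  [1, Equiv.swap 1 2 * Equiv.swap 3 4, Equiv.swap 1 3 * Equiv.swap 2 4, Equiv.swap 1 4 * Equiv.swap 2 3]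

theorem klein_facts : (∀ k, aConj 16 (pt k) = pt ((Equiv.swap 1 2 * Equiv.swap 3 4 : Equiv.Perm (Fin 5)) k)) ∧
    (∀ k, aConj 32 (pt k) = pt ((Equiv.swap 1 3 * Equiv.swap 2 4 : Equiv.Perm (Fin 5)) k)) ∧
    (Equiv.swap 1 2 * Equiv.swap 3 4 : Equiv.Perm (Fin 5)) * (Equiv.swap 1 3 * Equiv.swap 2 4) =
      Equiv.swap 1 4 * Equiv.swap 2 3 := by
  refine ⟨?_, ?_, ?_⟩ <;> decide +kernel

theorem a5_cert : ∀ σ : Equiv.Perm (Fin 5), Equiv.Perm.sign σ = 1 → σ 0 = 0 →
    kleinPts.contains σ = false →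
    ∀ g : Equiv.Perm (Fin 5), Equiv.Perm.sign g = 1 → g 0 = 0 →
      (kleinPts.any fun v => g == v || g == v * σ || g == v * (σ * σ)) = true := by
  set_option synthInstance.maxSize 4096 in decide +kernel

theorem klein_trans : ∀ k l : Fin 5, k ≠ 0 → l ≠ 0 → kleinPts.any (fun v => v k == l) = true := by
  decide +kernel

/-- A group of even permutations with the double transpositions, a further permutation fixing the first
point and one moving it contains every even permutation. -/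
theorem a5_of {H : Subgroup (Equiv.Perm (Fin 5))} (hV : ∀ v ∈ kleinPts, v ∈ H)
    (hH : ∀ h ∈ H, Equiv.Perm.sign h = 1) {σ τ : Equiv.Perm (Fin 5)} (hσ : σ ∈ H) (hσ0 : σ 0 = 0)
    (hσV : σ ∉ kleinPts) (hτ : τ ∈ H) (hτ0 : τ 0 ≠ 0) {g : Equiv.Perm (Fin 5)}
    (hg : Equiv.Perm.sign g = 1) : g ∈ H := by
  have stab : ∀ g' : Equiv.Perm (Fin 5), Equiv.Perm.sign g' = 1 → g' 0 = 0 → g' ∈ H := by
    intro g' h1 h2
    obtain ⟨v, hv, e⟩ := List.any_eq_true.1 (a5_cert σ (hH σ hσ) hσ0 (by simpa using hσV) g' h1 h2)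
    simp only [Bool.or_eq_true, beq_iff_eq] at e
    rcases e with (rfl | rfl) | rfl
    exacts [hV _ hv, mul_mem (hV v hv) hσ, mul_mem (hV v hv) (mul_mem hσ hσ)]
  by_cases h0 : g 0 = 0
  · exact stab g hg h0
  obtain ⟨v, hv, e⟩ := List.any_eq_true.1 (klein_trans (τ 0) (g 0) hτ0 h0)
  simp only [beq_iff_eq] at e
  have hh : v * τ ∈ H := mul_mem (hV v hv) hτ
  have := mul_mem hh (stab ((v * τ)⁻¹ * g) (by rw [map_mul, map_inv, hH _ hh, hg, inv_one, one_mul])
    (by rw [Equiv.Perm.mul_apply, Equiv.Perm.inv_eq_iff_eq, Equiv.Perm.mul_apply]; exact e.symm))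
  rwa [mul_inv_cancel_left] at this

namespace Frame

variable {G : Type u} [Group G] [Finite G] (F : Frame G)

/-- None of 16, 32, 48 is conjugate into the subgroup of order sixteen. -/
def Unfused : Prop :=
  ∀ u : Fin 64, u = 16 ∨ u = 32 ∨ u = 48 → ¬ ∃ i, inA i = true ∧ F.Cj u i

theorem centre_conj (hun : F.Unfused) {u e : Fin 64} (hu : u = 32 ∨ u = 48) (h : F.Cj u 16)
    (he : inA e = true) (hue : aCm u e = true) (he2 : e ≠ 5) (he0 : aCl e ≠ 0) :
    ∃ n ∈ normalizer (F.aGrp : Set G), Commute n F.z ∧ ∃ k, aCl k = 1 ∧ n * F.f e * n⁻¹ = F.f k := by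
  haveI : Fact (Nat.Prime 2) := ⟨Nat.prime_two⟩
  obtain ⟨g, hg⟩ := isConj_iff.1 h
  have hu' : aCl u ≠ 0 ∧ (aCl u = 16 ∨ aCl u = 32 ∨ aCl u = 48) := by rcases hu with rfl | rfl <;> decide +kernel
  have hcls : ∀ j, F.Cj 16 j → aCl j = 16 ∨ aCl j = 32 ∨ aCl j = 48 := by
    intro j hj
    have hj0 := F.cl_of_cj hj (by decide +kernel)
    obtain ⟨hcl, hA, -⟩ := (aCl_facts j).2 hj0
    by_contra hc
    push Not at hc
    exact hun 16 (Or.inl rfl) ⟨j, hA.2 hc, hj⟩
  have hRC : (F.centS u).map (MulAut.conj g).toMonoidHom ≤ centralizer ({F.f 16} : Set G) := by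
    rintro _ ⟨x, hx, rfl⟩
    have hcm : Commute x (F.f u) := mem_centralizer_singleton_iff.1 (mem_inf.1 hx).2
    refine mem_centralizer_singleton_iff.2 ?_
    rw [← hg]
    exact (hcm.map (MulAut.conj g).toMonoidHom).eq
  have h16 : Nat.card (F.centS 16) = 16 := by rw [F.card_centS]; decide +kernel
  obtain ⟨c, hc, hcS⟩ := EightThree.exists_conj_le (C := centralizer ({F.f 16} : Set G)) (P := F.centS 16)
    inf_le_right (F.P.isPGroup'.to_le inf_le_left)
    (fun R hRC hR hle => (eq_of_le_of_card_ge hle (by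
      rw [h16]
      refine F.exists_cent_max (fun j hj => F.card_centS_le (F.cl_of_cj hj (by decide +kernel)) ?_) hR hRC
      rcases hcls j hj with e | e | e <;> rw [e] <;> decide)).ge)
    hRC ((F.P.isPGroup'.to_le inf_le_left).map _)
  have him : ∀ l, aCm u l = true → ∃ l', aCm 16 l' = true ∧ c * g * F.f l * (c * g)⁻¹ = F.f l' := by
    intro l hl
    obtain ⟨l', hl', e⟩ := (F.mem_centS 16 _).1 (hcS _ ⟨F.f l, (F.mem_centS u _).2 ⟨l, hl, rfl⟩, rfl⟩)
    refine ⟨l', hl', ?_⟩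
    rw [e]
    simp [mul_assoc]
  obtain ⟨p, hp, hq'⟩ := List.any_eq_true.1 (cent_nonab u hu'.2)
  obtain ⟨q, hq, ez⟩ := List.any_eq_true.1 hq'
  obtain ⟨p', hp16, hp'⟩ := him p (List.mem_filter.1 hp).2
  obtain ⟨q', hq16, hq''⟩ := him q (List.mem_filter.1 hq).2
  have hz : c * g * F.z * (c * g)⁻¹ = F.z := by
    have h1 : c * g * F.z * (c * g)⁻¹ = F.f (aComm p' q') := by
      show c * g * F.f 5 * (c * g)⁻¹ = _
      rw [← beq_iff_eq.1 ez, F.fcomm, F.fcomm, ← hp', ← hq'']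
      group
    rcases ((card_cent 16 (by decide +kernel)).2.2.2 (by decide +kernel)).2 p' q' hp16 hq16 with e' | e'
    · rw [e', F.fone] at h1
      exact absurd (show F.z = 1 from mul_left_cancel (mul_right_cancel (h1.trans (by group)) :
        c * g * F.z = c * g * 1)) (Invol.ne_one F.orderOf_z)
    · exact h1.trans (by rw [e']; rfl)
  obtain ⟨k, hk16, hk⟩ := him e hue
  have hek : F.Cj e k := F.cj_of_conj hk
  have hk0 := F.cl_of_cj hek he0
  have hkA : inA k = true := by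
    obtain ⟨-, hA, -⟩ := (aCl_facts k).2 hk0
    by_contra hc
    have : aCl k = 16 ∨ aCl k = 32 ∨ aCl k = 48 := by
      by_contra h'; push Not at h'; exact hc (hA.2 h')
    exact hun (aCl k) this ⟨e, he, (IsConj.trans hek (F.cj_rep hk0)).symm⟩
  have hk1 : aCl k = 1 := by
    rcases unfused_facts.2.2.1 k hk16 hkA with rfl | rfl | e'
    · exact absurd hk0 (by decide +kernel)
    · exact absurd (F.inj _ _ (mul_left_cancel (mul_right_cancel (hk.trans hz.symm)))) he2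
    · exact e'
  obtain ⟨n, hn, hne⟩ := F.fusion (g := c * g) ({F.z, F.f e} : Set G)
    (Set.insert_subset F.z_mem_aGrp (Set.singleton_subset_iff.2 (F.f_mem_aGrp he)))
    (by
      rintro x (rfl | rfl)
      · rw [hz]; exact F.z_mem_aGrp
      · rw [hk]; exact F.f_mem_aGrp hkA)
  refine ⟨n, hn, ?_, k, hk1, (hne _ (Or.inr rfl)).trans hk⟩
  exact mul_inv_eq_iff_eq_mul.1 ((hne _ (Or.inl rfl)).trans hz)

theorem class_count (hb : F.Cj 5 2) (h6 : F.Cj 6 1) (he : F.Cj 10 1) (hE : F.Cj 11 1) (hf : F.Cj 32 16)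
    (hF : F.Cj 48 16) (h51 : ¬ F.Cj 5 1) (hun : F.Unfused) :
    Nat.card {c : ConjClasses G // ∃ x ∈ c.carrier, orderOf x = 2} = 3 := by
  have n1 : ¬ F.Cj 5 16 := fun h => hun 16 (Or.inl rfl) ⟨5, by decide +kernel, h.symm⟩
  have n2 : ¬ F.Cj 1 16 := fun h => hun 16 (Or.inl rfl) ⟨1, by decide +kernel, h.symm⟩
  let r : Fin 3 → Fin 64 := ![5, 1, 16]
  have hr : ∀ m, aCl (r m) ≠ 0 := by decide +kernel
  let φ : Fin 3 → {c : ConjClasses G // ∃ x ∈ c.carrier, orderOf x = 2} := fun m =>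
    ⟨ConjClasses.mk (F.f (r m)), F.f (r m), ConjClasses.mem_carrier_mk, (F.order_two_iff _).2 (hr m)⟩
  have hφ : Function.Bijective φ := by
    refine ⟨fun a b h => ?_, fun ⟨c, x, hx, hx2⟩ => ?_⟩
    · have hc : F.Cj (r a) (r b) := ConjClasses.mk_eq_mk_iff_isConj.1 (congrArg Subtype.val h)
      fin_cases a <;> fin_cases b <;> first
        | rfl
        | exact absurd hc h51
        | exact absurd hc.symm h51
        | exact absurd hc n1
        | exact absurd hc.symm n1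
        | exact absurd hc n2
        | exact absurd hc.symm n2
    · haveI : Fact (Nat.Prime 2) := ⟨Nat.prime_two⟩
      obtain ⟨g, hg⟩ := Invol.exists_conj_mem_sylow F.P
        (IsPGroup.of_card (n := 1) (by rw [Nat.card_zpowers, hx2, pow_one]) : IsPGroup 2 (zpowers x))
      obtain ⟨i, hi, hi0⟩ := F.exists_idx (hg x (mem_zpowers x)) (by rw [Invol.orderOf_conj_eq, hx2])
      have key : ∃ m, F.Cj (r m) i := by
        have h := F.cj_cl hi0
        rcases ((aCl_facts i).2 hi0).1 with e | e | e | e | e | e | e | e | e <;> rw [e] at h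
        · exact ⟨0, h⟩
        · exact ⟨1, h⟩
        · exact ⟨0, IsConj.trans hb h⟩
        · exact ⟨1, IsConj.trans h6.symm h⟩
        · exact ⟨1, IsConj.trans he.symm h⟩
        · exact ⟨1, IsConj.trans hE.symm h⟩
        · exact ⟨2, h⟩
        · exact ⟨2, IsConj.trans hf.symm h⟩
        · exact ⟨2, IsConj.trans hF.symm h⟩
      obtain ⟨m, hm⟩ := key
      refine ⟨m, Subtype.ext ?_⟩
      rw [ConjClasses.mem_carrier_iff_mk_eq] at hx
      show ConjClasses.mk (F.f (r m)) = c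
      rw [← hx]
      exact ConjClasses.mk_eq_mk_iff_isConj.2 (IsConj.trans hm (isConj_iff.2 ⟨g, hi.symm⟩).symm)
  rw [← Nat.card_eq_of_bijective φ hφ, Nat.card_fin]

theorem core_commute {N : Subgroup G} (hN : N = normalizer (F.aGrp : Set G)) {o : N}
    (ho : o ∈ Cfsg.oddCore N) {a : G} (ha : a ∈ F.aGrp) : Commute (o : G) a := by
  subst hN
  set a' : normalizer (F.aGrp : Set G) := ⟨a, Subgroup.le_normalizer ha⟩
  haveI := pPrimeCore_normal 2 (normalizer (F.aGrp : Set G))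
  have h1 : o * a' * o⁻¹ * a'⁻¹ ∈ Cfsg.oddCore _ := by
    rw [show o * a' * o⁻¹ * a'⁻¹ = o * (a' * o⁻¹ * a'⁻¹) by group]
    exact mul_mem ho ((pPrimeCore_normal 2 _).conj_mem _ (inv_mem ho) a')
  have h2 : (o : G) * a * (o : G)⁻¹ * a⁻¹ ∈ F.aGrp :=
    mul_mem ((mem_normalizer_iff.1 o.2 a).1 ha) (inv_mem ha)
  have h3 : o * a' * o⁻¹ * a'⁻¹ = 1 :=
    Syl34.eq_one_of_odd_of_sq (ZStar.odd_orderOf_oddCore h1) (Subtype.ext (F.aGrp_sq h2))
  exact mul_inv_eq_iff_eq_mul.1 (mul_inv_eq_one.1 (congrArg Subtype.val h3))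

theorem mem_sup_of_cent {N : Subgroup G} (hN : N = normalizer (F.aGrp : Set G)) {n : N}
    (hc : ∀ a ∈ F.aGrp, Commute (n : G) a) : n ∈ F.aGrp.subgroupOf N ⊔ Cfsg.oddCore N := by
  subst hN
  haveI : Fact (Nat.Prime 2) := ⟨Nat.prime_two⟩
  set C := centralizer (F.aGrp : Set G)
  have hAC : F.aGrp ≤ C := fun a ha => mem_centralizer_iff.2 fun b hb => (F.aGrp_comm hb ha).eq
  have hmax : ∀ R : Subgroup G, R ≤ C → IsPGroup 2 R → F.aGrp ≤ R → R ≤ F.aGrp := by
    intro R hRC hR hle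
    obtain ⟨c, hc⟩ := Invol.exists_conj_mem_sylow F.P hR
    have hcn : c ∈ normalizer (F.aGrp : Set G) := F.mem_normalizer_of_le fun a ha => hc a (hle ha)
    intro r hr
    obtain ⟨j, hj⟩ := (F.mem_iff _).1 (hc r hr)
    have hc2 : c⁻¹ * F.f 2 * c ∈ F.aGrp := by
      have := (mem_normalizer_iff.1 (inv_mem hcn) _).1 (F.f_mem_aGrp (i := 2) (by decide +kernel))
      rwa [inv_inv] at this
    have hcm : Commute (F.f 2) (F.f j) := by
      have h1 := (show Commute (c⁻¹ * F.f 2 * c) r from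
        mem_centralizer_iff.1 (hRC hr) _ hc2).map (MulAut.conj c).toMonoidHom
      rw [hj]
      simpa [mul_assoc] using h1
    have hjA : inA j = true := by
      rw [← (card_cent 2 (by decide +kernel)).2.2.1 (Or.inl (by decide +kernel)) j]
      exact (F.comm_iff 2 j).1 hcm
    have := (mem_normalizer_iff.1 hcn r).2 (hj ▸ F.f_mem_aGrp hjA)
    exact this
  obtain ⟨o, ho, a, ha, e⟩ := EightThree.covers_of_central hAC (F.P.isPGroup'.to_le F.aGrp_le) hmax
    (fun m hm _ p hp => (mem_centralizer_iff.1 hm p hp).symm) (n : G)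
    (mem_centralizer_iff.2 fun b hb => (hc b hb).eq.symm)
  have hCN : C ≤ normalizer (F.aGrp : Set G) := centralizer_le_normalizer _
  have hoN : o ∈ normalizer (F.aGrp : Set G) := hCN (PNil.coreOf_le C ho)
  haveI hn : ((PNil.coreOf C).subgroupOf (normalizer (F.aGrp : Set G))).Normal := by
    refine (normal_subgroupOf_iff_le_normalizer ((PNil.coreOf_le C).trans hCN)).2 ?_
    refine le_trans (fun g hg => ?_) (EightThree.normalizer_le_normalizer_coreOf C)
    refine EightThree.mem_normalizer_of_forall fun x hx => mem_centralizer_iff.2 fun b hb => ?_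
    have hb' : g⁻¹ * b * g ∈ F.aGrp := by
      have := (mem_normalizer_iff.1 (inv_mem hg) b).1 hb
      rwa [inv_inv] at this
    have h1 := mem_centralizer_iff.1 hx _ hb'
    calc b * (g * x * g⁻¹) = g * ((g⁻¹ * b * g) * x) * g⁻¹ := by group
      _ = g * (x * (g⁻¹ * b * g)) * g⁻¹ := by rw [h1]
      _ = g * x * g⁻¹ * b := by group
  have hoc : (⟨o, hoN⟩ : normalizer (F.aGrp : Set G)) ∈ Cfsg.oddCore _ :=
    ZStar.le_oddCore hn (by
      rw [Nat.card_congr (subgroupOfEquivOfLe ((PNil.coreOf_le C).trans hCN)).toEquiv]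
      exact PNil.coreOf_odd C) ho
  rw [show n = (⟨o, hoN⟩ : normalizer (F.aGrp : Set G)) * ⟨a, Subgroup.le_normalizer ha⟩ from Subtype.ext e]
  exact mul_mem (mem_sup_right hoc) (mem_sup_left ha)

theorem false_of_zb (hG : Good F) (hun : F.Unfused) (hf : F.Cj 32 16) (hF : F.Cj 48 16)
    (he : F.Cj 10 1) (hE : F.Cj 11 1) (h51 : ¬ F.Cj 5 1) (hb : F.Cj 5 2) : False := by
  haveI : Fact (Nat.Prime 2) := ⟨Nat.prime_two⟩
  obtain ⟨⟨mR, hmR, hR5, hR1, -⟩, h61, h56⟩ := F.zb_facts hb h51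
    (fun h => h51 (IsConj.trans h he)) (fun h => h51 (IsConj.trans h hE))
  have hptz : ∀ k, F.Cj 5 (pt k) := by
    intro k
    have hk := pt_facts.2.2.2 k
    have h0 : aCl (pt k) ≠ 0 := by rcases hk with e | e <;> rw [e] <;> decide
    rcases hk with e | e <;> have h := F.cj_cl h0 <;> rw [e] at h
    · exact h
    · exact IsConj.trans hb h
  have hzpt : ∀ i, inA i = true → F.Cj 5 i → ∃ k, pt k = i := by
    intro i hi hz
    have hi0 := F.z_conj_zero hz
    refine pt_facts.2.2.1 i ?_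
    have h := IsConj.trans hz (F.cj_rep hi0)
    obtain ⟨hcl, hA, -⟩ := (aCl_facts i).2 hi0
    rcases hcl with e | e | e | e | e | e | e | e | e <;> rw [e] at h
    · exact Or.inl e
    · exact absurd h h51
    · exact Or.inr e
    · exact absurd h h56
    · exact absurd (IsConj.trans h he) h51
    · exact absurd (IsConj.trans h hE) h51
    all_goals (have h2 := hA.1 hi; simp [e] at h2)
  set N := normalizer (F.aGrp : Set G) with hNdef
  have him : ∀ n : N, ∀ k : Fin 5, ∃ l : Fin 5, (n : G) * F.f (pt k) * (n : G)⁻¹ = F.f (pt l) := by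
    intro n k
    obtain ⟨j, hj, e⟩ := F.exists_normalizer_idx n.2 (pt_facts.1 k)
    obtain ⟨l, rfl⟩ := hzpt j hj (IsConj.trans (hptz k) (F.cj_of_conj e))
    exact ⟨l, e⟩
  choose p hp using him
  have hpinj : ∀ n, Function.Injective (p n) := fun n a b h => pt_facts.2.1 _ _ (F.inj _ _
    (mul_left_cancel (mul_right_cancel (((hp n a).trans (h ▸ rfl)).trans (hp n b).symm))))
  have hpmul : ∀ n m k, p (n * m) k = p n (p m k) := fun n m k => pt_facts.2.1 _ _ (F.inj _ _ (by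
    rw [← hp, ← hp, ← hp]; simp only [Subgroup.coe_mul]; group))
  let π : N →* Equiv.Perm (Fin 5) := MonoidHom.mk'
    (fun n => Equiv.ofBijective (p n) (Finite.injective_iff_bijective.1 (hpinj n)))
    (fun n m => Equiv.ext fun k => hpmul n m k)
  have hπ : ∀ (n : N) (k : Fin 5), (n : G) * F.f (pt k) * (n : G)⁻¹ = F.f (pt (π n k)) := fun n k => hp n k
  have hπP : ∀ i, Equiv.Perm.sign (π ⟨F.f i, F.P_le_normalizer (F.f_mem i)⟩) = 1 := fun i =>
    sylow_perm i _ fun k => F.inj _ _ (by rw [F.fconj]; exact hπ ⟨F.f i, _⟩ k)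
  have hsign : ∀ n, Equiv.Perm.sign (π n) = 1 := by
    intro n
    obtain ⟨s, hs, t, ht, e, hs2, hto⟩ := EightThree.exists_parts (n : G)
    have hsN : s ∈ N := zpowers_le.2 n.2 hs
    have htN : t ∈ N := zpowers_le.2 n.2 ht
    have hst : n = ⟨s, hsN⟩ * ⟨t, htN⟩ := Subtype.ext e
    obtain ⟨c, hc, hcP⟩ := EightThree.exists_conj_le (C := N) (P := (F.P : Subgroup G)) F.P_le_normalizer
      F.P.isPGroup' (fun R _ hR hle => (F.P.3 hR hle).le) (zpowers_le.2 hsN) hs2
    obtain ⟨i, hi⟩ := (F.mem_iff _).1 (hcP s (mem_zpowers s))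
    have h1 := hπP i
    rw [show (⟨F.f i, F.P_le_normalizer (F.f_mem i)⟩ : N) = ⟨c, hc⟩ * ⟨s, hsN⟩ * (⟨c, hc⟩ : N)⁻¹ from
      Subtype.ext hi, map_mul, map_mul, map_inv, map_mul, map_mul, map_inv, mul_inv_cancel_comm] at h1
    rw [hst, map_mul, map_mul, h1, one_mul]
    rcases Int.units_eq_one_or (Equiv.Perm.sign (π ⟨t, htN⟩)) with h | h
    · exact h
    · exfalso
      obtain ⟨j, hj⟩ := hto
      have h2 : (⟨t, htN⟩ : N) ^ orderOf t = 1 := Subtype.ext (by simp [pow_orderOf_eq_one t])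
      have h3 : Equiv.Perm.sign (π ⟨t, htN⟩) ^ orderOf t = 1 := by
        rw [← map_pow, ← map_pow, h2, map_one, map_one]
      rw [h, hj, pow_succ, pow_mul, Int.units_sq, one_pow, one_mul] at h3
      exact absurd h3 (by decide)
  have hV : ∀ v ∈ kleinPts, v ∈ π.range := by
    have hc : (Equiv.swap 1 2 * Equiv.swap 3 4 : Equiv.Perm (Fin 5)) ∈ π.range :=
      ⟨⟨F.f 16, F.P_le_normalizer (F.f_mem 16)⟩, Equiv.ext fun k => pt_facts.2.1 _ _ (F.inj _ _ (by
        rw [← hπ, ← klein_facts.1 k, F.fconj]))⟩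
    have hf' : (Equiv.swap 1 3 * Equiv.swap 2 4 : Equiv.Perm (Fin 5)) ∈ π.range :=
      ⟨⟨F.f 32, F.P_le_normalizer (F.f_mem 32)⟩, Equiv.ext fun k => pt_facts.2.1 _ _ (F.inj _ _ (by
        rw [← hπ, ← klein_facts.2.1 k, F.fconj]))⟩
    intro v hv
    simp only [kleinPts, List.mem_cons, List.not_mem_nil, or_false] at hv
    rcases hv with rfl | rfl | rfl | rfl
    exacts [one_mem _, hc, hf', klein_facts.2.2 ▸ mul_mem hc hf']
  -- an element of the normaliser given by the five images fixes all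
  have hfix : ∀ n : N, π n = 1 → ∀ a ∈ F.aGrp, Commute (n : G) a := by
    intro n hn
    obtain ⟨m, -, hm⟩ := F.exists_real n.2
    have h5 : ∀ k, app m (Fin.ofNat 16 (pt k).val) = Fin.ofNat 16 (pt k).val := fun k => by
      refine iA_facts.2.2.2.1 _ _ (F.inj _ _ ?_)
      rw [← hm, iA_facts.2.2.1 _ (pt_facts.1 k), hπ, hn]
      rfl
    have h2 : app m 2 = 2 := h5 1
    have h3 : app m 3 = 3 := h5 2
    have h8 : app m 8 = 8 := h5 3
    have h12 : app m 12 = 12 := h5 4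
    have h1 : app m 1 = 1 := by
      rw [show (1 : Fin 16) = 2 ^^^ 3 from rfl, app_xor, h2, h3]
    have h4 : app m 4 = 4 := by
      rw [show (4 : Fin 16) = 8 ^^^ 12 from rfl, app_xor, h8, h12]
    have hid : m = mId := by
      obtain ⟨a1, a2, a4, a8, -, -⟩ := app_basis m
      exact Prod.ext (a1.symm.trans h1) (Prod.ext (a2.symm.trans h2)
        (Prod.ext (a4.symm.trans h4) (a8.symm.trans h8)))
    rintro _ ⟨i, hi, rfl⟩
    have := hm (Fin.ofNat 16 i.val)
    rw [hid, act_facts.2.2.1, iA_facts.2.2.1 i hi] at this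
    exact mul_inv_eq_iff_eq_mul.1 this
  obtain ⟨nR, hnR, hnRv⟩ := hmR
  have hσ0 : π ⟨nR, hnR⟩ 0 = 0 := pt_facts.2.1 _ _ (F.inj _ _ (by
    rw [← hπ]
    exact (hnRv 5).trans (by rw [hR5]; rfl)))
  have hσV : π ⟨nR, hnR⟩ ∉ kleinPts := by
    intro hv
    obtain ⟨i, hi⟩ : ∃ i : Fin 64, π ⟨F.f i, F.P_le_normalizer (F.f_mem i)⟩ = π ⟨nR, hnR⟩ := by
      simp only [kleinPts, List.mem_cons, List.not_mem_nil, or_false] at hv
      have hc : π ⟨F.f 16, F.P_le_normalizer (F.f_mem 16)⟩ = Equiv.swap 1 2 * Equiv.swap 3 4 :=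
        Equiv.ext fun k => pt_facts.2.1 _ _ (F.inj _ _ (by rw [← hπ, ← klein_facts.1 k, F.fconj]))
      have hf' : π ⟨F.f 32, F.P_le_normalizer (F.f_mem 32)⟩ = Equiv.swap 1 3 * Equiv.swap 2 4 :=
        Equiv.ext fun k => pt_facts.2.1 _ _ (F.inj _ _ (by rw [← hπ, ← klein_facts.2.1 k, F.fconj]))
      rcases hv with e | e | e | e
      · refine ⟨0, ?_⟩
        rw [e, ← map_one π]
        exact congrArg π (Subtype.ext F.fone)
      · exact ⟨16, hc.trans e.symm⟩
      · exact ⟨32, hf'.trans e.symm⟩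
      · refine ⟨aMul 16 32, ?_⟩
        rw [e, ← klein_facts.2.2, ← hc, ← hf', ← map_mul]
        exact congrArg π (Subtype.ext (F.fmul 16 32))
    have h1 : π ((⟨F.f i, F.P_le_normalizer (F.f_mem i)⟩ : N)⁻¹ * ⟨nR, hnR⟩) = 1 := by
      rw [map_mul, map_inv, hi, inv_mul_cancel]
    have h2 := (hfix _ h1 _ (F.f_mem_aGrp (i := 1) (by decide +kernel))).eq
    have h3 : nR * F.f 1 * nR⁻¹ = F.f (aConj i 1) := by
      rw [F.fconj]
      simp only [Subgroup.coe_mul, InvMemClass.coe_inv] at h2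
      calc nR * F.f 1 * nR⁻¹ = F.f i * ((F.f i)⁻¹ * nR * F.f 1) * nR⁻¹ := by group
        _ = F.f i * (F.f 1 * ((F.f i)⁻¹ * nR)) * nR⁻¹ := by rw [h2]
        _ = F.f i * F.f 1 * (F.f i)⁻¹ := by group
    have h4 := F.inj _ _ (h3.symm.trans (hnRv 1))
    have hcert : ∀ i : Fin 64, aConj i 1 = 1 ∨ aConj i 1 = 4 := by decide +kernel
    rcases hR1 with e | e <;> rw [e] at h4 <;> rcases hcert i with h5 | h5 <;> rw [h5] at h4 <;>
      exact absurd h4 (by decide +kernel)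
  obtain ⟨nM, hnM, hnMe⟩ := F.fusion_one (i := 5) (j := 2) (by decide +kernel) (by decide +kernel) hb
  have hτ0 : π ⟨nM, hnM⟩ 0 ≠ 0 := by
    intro h
    have := (hπ ⟨nM, hnM⟩ 0).symm.trans hnMe
    rw [h] at this
    exact absurd (F.inj _ _ this) (by decide +kernel)
  let π' : N →* ↥(alternatingGroup (Fin 5)) :=
    π.codRestrict _ fun n => Equiv.Perm.mem_alternatingGroup.2 (hsign n)
  have hsurj : Function.Surjective π' := fun g => by
    obtain ⟨n, hn⟩ := a5_of hV (fun h ⟨n, hn⟩ => hn ▸ hsign n) ⟨⟨nR, hnR⟩, rfl⟩ hσ0 hσV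
      ⟨⟨nM, hnM⟩, rfl⟩ hτ0 (Equiv.Perm.mem_alternatingGroup.1 g.2)
    exact ⟨n, Subtype.ext hn⟩
  have hker : π'.ker = F.aGrp.subgroupOf N ⊔ Cfsg.oddCore N := by
    refine le_antisymm (fun n hn => F.mem_sup_of_cent hNdef (hfix n (congrArg Subtype.val hn)))
      (sup_le (fun n hn => ?_) fun n hn => ?_) <;>
    refine Subtype.ext (Equiv.ext fun k => pt_facts.2.1 _ _ (F.inj _ _ ?_)) <;>
    show F.f (pt (π n k)) = F.f (pt k) <;> rw [← hπ]
    · rw [(F.aGrp_comm (mem_subgroupOf.1 hn) (F.f_mem_aGrp (pt_facts.1 k))).eq, mul_inv_cancel_right]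
    · rw [(F.core_commute hNdef hn (F.f_mem_aGrp (pt_facts.1 k))).eq, mul_inv_cancel_right]
  have hP8 : ∃ (S : Sylow 2 G) (Q : Sylow 2 ↥(alternatingGroup (Fin 8))),
      Nonempty (↥(S : Subgroup G) ≃* ↥(Q : Subgroup ↥(alternatingGroup (Fin 8)))) := ⟨F.P, hG.hiso⟩
  have hn := EightThree.Setup.normal_sup (A := F.aGrp) (N := N)
    ⟨fun a ha => F.aGrp_sq ha, F.card_aGrp, rfl, hP8, F.class_count hb h61 he hE hf hF h51 hun,
      π', hsurj, hker⟩
  rw [hG.hodd, sup_bot_eq] at hn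
  have hle : F.aGrp ≤ Cfsg.pCore 2 G := le_sSup ⟨hn, F.P.isPGroup'.to_le F.aGrp_le⟩
  rw [hG.hcore2] at hle
  exact Invol.ne_one F.orderOf_z (mem_bot.1 (hle F.z_mem_aGrp))

theorem good_precomp (hG : Good F) (α : Fin 64 → Fin 64) (hm : ∀ i j, α (aMul i j) = aMul (α i) (α j))
    (hi : Function.Injective α) (h5 : α 5 = 5) : Good (F.precomp α hm hi) := by
  refine ⟨hG.hO2, hG.hcore2, hG.hodd, ?_, hG.hiso⟩
  show Group.IsSolvable (centralizer ({F.f (α 5)} : Set G))
  rw [h5]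
  exact hG.hsol

/-- All three classes outside the subgroup of order sixteen fuse into it. -/
theorem all_fused (hG : Good F) :
    ∀ u : Fin 64, u = 16 ∨ u = 32 ∨ u = 48 → ∃ i, inA i = true ∧ F.Cj u i := by
  refine (F.fused_or_conj hG).resolve_right ?_
  rintro ⟨hun, hf, hF⟩
  have he : F.Cj 10 1 := by
    obtain ⟨n, -, -, k, hk, e⟩ := F.centre_conj hun (u := 32) (e := 10) (Or.inl rfl) hf (by decide +kernel)
      unfused_facts.1 (by decide) (by decide +kernel)
    exact IsConj.trans (F.cj_of_conj e) (hk ▸ F.cj_rep (by rw [hk]; decide))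
  have hE : F.Cj 11 1 := by
    obtain ⟨n, -, -, k, hk, e⟩ := F.centre_conj hun (u := 48) (e := 11) (Or.inr rfl) hF (by decide +kernel)
      unfused_facts.2.1 (by decide) (by decide +kernel)
    exact IsConj.trans (F.cj_of_conj e) (hk ▸ F.cj_rep (by rw [hk]; decide))
  have h51 : ¬ F.Cj 5 1 := fun h =>
    F.not_all_three h (IsConj.trans h he.symm) (IsConj.trans h hE.symm)
  obtain ⟨i, hi5, hzi⟩ := F.exists_z_conj hG
  have hi0 := F.z_conj_zero hzi
  have hr := IsConj.trans hzi (F.cj_rep hi0)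
  rcases ((aCl_facts i).2 hi0).1 with e | e | e | e | e | e | e | e | e <;> rw [e] at hr
  · exact hi5 ((aCl_list i).1.1 e)
  · exact h51 hr
  · exact F.false_of_zb hG hun hf hF he hE h51 hr
  · obtain ⟨hm, hinv, hA, a5, a1, a2, a16, a32, a48, a10, a11⟩ := bdAlpha_facts
    let F' := F.precomp bdAlpha hm (Function.LeftInverse.injective hinv)
    have tr : ∀ {i j : Fin 64}, F'.Cj i j ↔ F.Cj (bdAlpha i) (bdAlpha j) := Iff.rfl
    refine F'.false_of_zb (F.good_precomp hG _ hm (Function.LeftInverse.injective hinv) a5) ?_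
      (tr.2 (by rwa [a32, a16])) (tr.2 (by rwa [a48, a16]))
      (tr.2 ?_) (tr.2 ?_) (fun h => h51 (by rw [tr, a5, a1] at h; exact h)) (tr.2 (by rwa [a5, a2]))
    · intro u hu h
      obtain ⟨j, hj, hc⟩ := h
      have hu' : bdAlpha u = u := by rcases hu with rfl | rfl | rfl <;> assumption
      rw [tr, hu'] at hc
      exact hun u hu ⟨bdAlpha j, by rw [hA]; exact hj, hc⟩
    · rw [a1]
      exact IsConj.trans (a10 ▸ F.cj_rep (by rw [a10]; decide)) he
    · rw [a1]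
      exact IsConj.trans (a11 ▸ F.cj_rep (by rw [a11]; decide)) hE
  · exact h51 (IsConj.trans hr he)
  · exact h51 (IsConj.trans hr hE)
  all_goals exact hun _ (by decide) ⟨5, by decide +kernel, hr.symm⟩

end Frame

end Cfsg.Lib.AltEightSyl
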