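import Cfsg.Agent.Lib.AltEightSyl.Classes
import Cfsg.Agent.Lib.Core.PSolvable

/-!
# The centraliser of the central involution modulo its odd core

Its largest normal 2-subgroup modulo the odd core is the extraspecial subgroup of order 32, and every
element is one of the odd core times one normalising that subgroup.
-/

set_option autoImplicit false
set_option linter.style.haveILetI false
set_option linter.unusedSectionVars false
set_option maxRecDepth 100000

namespace Cfsg.Lib.AltEightSyl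

open Cfsg Cfsg.Lib Subgroup
open Cfsg.Lib.Syl34 (th th_le odd_th commute_of_mem_th cent_le_norm_th odd_of_mem_th)

universe u

theorem core_facts :
    (∀ d j : Fin 64, inD d = true → aComm d j = 0 ∨ aComm d j = 5) ∧
    (∀ i : Fin 64, inQ i = true →
      ∃ d : Fin 64, inD d = true ∧ (i = d ∨ i = aMul d 16 ∨ i = aMul d 32 ∨ i = aMul d (aMul 16 32))) ∧
    (∀ i : Fin 64, inQ i = false → inQ (aMul i 2) = true) ∧
    (∀ i : Fin 64, inQ i = true → ∀ j : Fin 64, aConj i j = j ∨ inQ (aComm i j) = true) ∧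
    inQ 5 = true ∧ inQ 2 = false ∧
    (∀ i : Fin 64, (∀ j : Fin 64, inQ j = true → aCm i j = true) → inQ i = true) := by
  refine ⟨?_, ?_, ?_, ?_, ?_, ?_, ?_⟩ <;> decide +kernel

theorem mem_sup_norm {G : Type u} [Group G] {N H : Subgroup G} (h : H ≤ normalizer (N : Set G)) {r : G}
    (hr : r ∈ N ⊔ H) : ∃ o ∈ N, ∃ q ∈ H, r = o * q := by
  rw [← SetLike.mem_coe, coe_mul_of_right_le_normalizer_left N H h] at hr
  obtain ⟨o, ho, q, hq, rfl⟩ := Set.mem_mul.1 hr
  exact ⟨o, ho, q, hq, rfl⟩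

namespace Frame

variable {G : Type u} [Group G] (F : Frame G)

/-- The extraspecial subgroup of order 32. -/
def qGrp : Subgroup G :=
  F.sub inQ sub_facts.2.2.1 sub_facts.2.2.2.1 sub_facts.2.2.2.2.1

theorem f_mem_qGrp {i : Fin 64} (hi : inQ i = true) : F.f i ∈ F.qGrp := ⟨i, hi, rfl⟩

theorem qGrp_le : F.qGrp ≤ (F.P : Subgroup G) := by
  rintro _ ⟨i, -, rfl⟩
  exact F.f_mem i

theorem card_qGrp : Nat.card F.qGrp = 32 :=
  (F.card_of_pred inQ _ fun _ => Iff.rfl).trans sub_facts.2.2.2.2.2.2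

theorem qGrp_le_centralizer : F.qGrp ≤ centralizer ({F.z} : Set G) := F.qGrp_le.trans F.P_le_centralizer

/-- An element of the centraliser of the central involution normalising the extraspecial subgroup. -/
def Acts (n : G) : Prop := Commute n F.z ∧ n ∈ normalizer (F.qGrp : Set G)

theorem acts_idx {n : G} (hn : F.Acts n) {i : Fin 64} (hi : inQ i = true) :
    ∃ j, inQ j = true ∧ n * F.f i * n⁻¹ = F.f j := by
  obtain ⟨j, hj, e⟩ := (mem_normalizer_iff.1 hn.2 _).1 (F.f_mem_qGrp hi)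
  exact ⟨j, hj, e.symm⟩

theorem acts_mul {m n : G} (hm : F.Acts m) (hn : F.Acts n) : F.Acts (m * n) :=
  ⟨hm.1.mul_left hn.1, mul_mem hm.2 hn.2⟩

theorem acts_inv {m : G} (hm : F.Acts m) : F.Acts m⁻¹ := ⟨hm.1.inv_left, inv_mem hm.2⟩

variable [Finite G]

theorem acts_f (i : Fin 64) : F.Acts (F.f i) :=
  ⟨(F.comm_z i).symm, EightThree.mem_normalizer_of_forall fun q hq => by
    obtain ⟨j, hj, rfl⟩ := hq
    exact ⟨aConj i j, sub_facts.2.2.2.2.2.1 i j hj, F.fconj i j⟩⟩

theorem eq_one_of_th {i : Fin 64} (h : F.f i ∈ th F.z) : i = 0 :=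
  (F.eq_one_iff i).1 (EightThree.eq_one_of_odd F.P.isPGroup' (F.f_mem i) (odd_of_mem_th h))

theorem conj_th {g o : G} (hg : Commute g F.z) (ho : o ∈ th F.z) : g * o * g⁻¹ ∈ th F.z :=
  (mem_normalizer_iff.1 (cent_le_norm_th F.z (mem_centralizer_singleton_iff.2 hg.eq)) o).1 ho

/-- Congruence modulo the odd core. -/
def Md (x y : G) : Prop := x * y⁻¹ ∈ th F.z

theorem md_refl (x : G) : F.Md x x := by
  unfold Md
  rw [mul_inv_cancel]
  exact one_mem _

theorem md_symm {x y : G} (h : F.Md x y) : F.Md y x := by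
  have := inv_mem h
  rwa [mul_inv_rev, inv_inv] at this

theorem md_trans {x y w : G} (h : F.Md x y) (h' : F.Md y w) : F.Md x w := by
  have := mul_mem h h'
  rwa [show x * y⁻¹ * (y * w⁻¹) = x * w⁻¹ by group] at this

theorem md_conj {g x y : G} (hg : Commute g F.z) (h : F.Md x y) :
    F.Md (g * x * g⁻¹) (g * y * g⁻¹) := by
  have := F.conj_th hg h
  rwa [show g * (x * y⁻¹) * g⁻¹ = g * x * g⁻¹ * (g * y * g⁻¹)⁻¹ by group] at this

theorem md_of_th {o y : G} (ho : o ∈ th F.z) (hy : Commute y F.z) : F.Md (o * y * o⁻¹) y := by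
  have h1 := mul_mem ho (F.conj_th hy (inv_mem ho))
  rwa [show o * (y * o⁻¹ * y⁻¹) = o * y * o⁻¹ * y⁻¹ by group] at h1

theorem md_eq {i j : Fin 64} (h : F.Md (F.f i) (F.f j)) : i = j := by
  have h1 : F.f (aMul i (aInv j)) ∈ th F.z := by rwa [F.fmul, F.finv]
  have key : ∀ a b : Fin 64, aMul a (aInv b) = 0 → a = b := fun a b e => by
    rw [← (aMul_inv a).2.2.1, ← (aMul_inv b).2.1, ← aMul_assoc, e, (aMul_inv b).2.2.2]
  exact key i j (F.eq_one_of_th h1)

/-- The image in the quotient of the centraliser by its odd core. -/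
def bar (x : G) (hx : Commute x F.z) :
    centralizer ({F.z} : Set G) ⧸ Cfsg.oddCore ↥(centralizer ({F.z} : Set G)) :=
  QuotientGroup.mk' _ ⟨x, mem_centralizer_singleton_iff.2 hx.eq⟩

theorem bar_eq {x y : G} (hx : Commute x F.z) (hy : Commute y F.z) : F.bar x hx = F.bar y hy ↔ F.Md x y := by
  rw [← mul_inv_eq_one, bar, bar, ← map_inv, ← map_mul]
  refine (QuotientGroup.eq_one_iff _).trans ⟨fun h => ⟨_, h, rfl⟩, ?_⟩
  rintro ⟨w, hw, e⟩
  have h : (⟨x, mem_centralizer_singleton_iff.2 hx.eq⟩ * (⟨y, mem_centralizer_singleton_iff.2 hy.eq⟩)⁻¹ :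
      centralizer ({F.z} : Set G)) = w := Subtype.ext e.symm
  rw [h]
  exact hw

/-- The largest normal 2-subgroup modulo the odd core is the image of the extraspecial subgroup. -/
theorem pCore_iff (hG : Good F) :
    (∀ k ∈ Cfsg.pCore 2 (centralizer ({F.z} : Set G) ⧸ Cfsg.oddCore ↥(centralizer ({F.z} : Set G))),
      ∃ i, inQ i = true ∧ F.bar (F.f i) (F.comm_z i).symm = k) ∧
    (∀ i, inQ i = true → F.bar (F.f i) (F.comm_z i).symm ∈
      Cfsg.pCore 2 (centralizer ({F.z} : Set G) ⧸ Cfsg.oddCore ↥(centralizer ({F.z} : Set G)))) := by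
  haveI : Fact (Nat.Prime 2) := ⟨Nat.prime_two⟩
  set X := centralizer ({F.z} : Set G) with hXdef
  haveI := hG.hsol
  set π : X →* X ⧸ Cfsg.oddCore X := QuotientGroup.mk' _ with hπdef
  have hPX := F.P_le_centralizer
  let t : Fin 64 → X := fun i => ⟨F.f i, hPX (F.f_mem i)⟩
  have htmul : ∀ i j, t (aMul i j) = t i * t j := fun i j => Subtype.ext (F.fmul i j)
  have hker : ∀ x : X, π x = 1 ↔ (x : G) ∈ th F.z := fun x =>
    (QuotientGroup.eq_one_iff x).trans ⟨fun h => ⟨x, h, rfl⟩, fun ⟨y, hy, e⟩ => Subtype.ext e ▸ hy⟩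
  have hmd : ∀ x y : X, π x = π y ↔ F.Md (x : G) y := fun x y => by
    rw [← mul_inv_eq_one, ← map_inv, ← map_mul, hker]
    rfl
  have hinj : ∀ i j, π (t i) = π (t j) → i = j := fun i j h => F.md_eq ((hmd _ _).1 h)
  set PX : Sylow 2 X := F.P.subtype hPX
  let S := PX.mapSurjective (f := π) (QuotientGroup.mk'_surjective _)
  set K := Cfsg.pCore 2 (X ⧸ Cfsg.oddCore X) with hK
  have hKS : ∀ k ∈ K, ∃ i, π (t i) = k := by
    intro k hk
    obtain ⟨x, hx, rfl⟩ : k ∈ (PX : Subgroup X).map π := Core.pCore_le_sylow S hk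
    obtain ⟨i, hi⟩ := (F.mem_iff _).1 (show (x : G) ∈ (F.P : Subgroup G) from hx)
    exact ⟨i, congrArg π (Subtype.ext hi)⟩
  have hKn : K.Normal := inferInstance
  have hcent : centralizer (K : Set (X ⧸ Cfsg.oddCore X)) ≤ K :=
    Core.centralizer_pCore_le_of_isPSolvable Core.isPSolvable_of_isSolvable
      (Core.pPrimeCore_quotient_eq_bot (p := 2) (G := X))
  set zb := π (t 5) with hzb
  have hzc : ∀ y, Commute y zb := fun y => by
    obtain ⟨x, rfl⟩ := QuotientGroup.mk'_surjective _ y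
    exact (show Commute x (t 5) from Subtype.ext (mem_centralizer_singleton_iff.1 x.2)).map π
  have hz2 : zb * zb = 1 := by
    rw [hzb, ← map_mul, ← htmul, show t (aMul 5 5) = 1 from Subtype.ext (by
      show F.f (aMul 5 5) = 1
      rw [show aMul 5 5 = 0 by decide +kernel, F.fone]), map_one]
  -- the elements acting on `K` modulo `z` lie in `K`
  let L : Subgroup (X ⧸ Cfsg.oddCore X) :=
    { carrier := {k | ∀ f ∈ K, k * f * k⁻¹ * f⁻¹ = 1 ∨ k * f * k⁻¹ * f⁻¹ = zb}
      one_mem' := fun f _ => Or.inl (by group)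
      mul_mem' := fun {a b} ha hb f hf => by
        have e : a * b * f * (a * b)⁻¹ * f⁻¹ =
            a * (b * f * b⁻¹ * f⁻¹) * a⁻¹ * (a * f * a⁻¹ * f⁻¹) := by group
        rw [e]
        rcases hb f hf with e1 | e1 <;> rw [e1] <;> rcases ha f hf with e2 | e2 <;> rw [e2]
        · left; group
        · right; group
        · right; rw [(hzc a).eq, mul_inv_cancel_right, mul_one]
        · left; rw [(hzc a).eq, mul_inv_cancel_right, hz2]
      inv_mem' := fun {a} ha f hf => by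
        have hf' : a⁻¹ * f * a ∈ K := by simpa using hKn.conj_mem f hf a⁻¹
        have e : a⁻¹ * f * a⁻¹⁻¹ * f⁻¹ = (a * (a⁻¹ * f * a) * a⁻¹ * (a⁻¹ * f * a)⁻¹)⁻¹ := by group
        rw [e]
        rcases ha _ hf' with e' | e' <;> rw [e']
        · left; exact inv_one
        · right; exact inv_eq_of_mul_eq_one_right hz2 }
  have hLn : L.Normal := ⟨fun k hk g f hf => by
    have hf' : g⁻¹ * f * g ∈ K := by simpa using hKn.conj_mem f hf g⁻¹
    have e : g * k * g⁻¹ * f * (g * k * g⁻¹)⁻¹ * f⁻¹ =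
        g * (k * (g⁻¹ * f * g) * k⁻¹ * (g⁻¹ * f * g)⁻¹) * g⁻¹ := by group
    rw [e]
    rcases hk _ hf' with e' | e' <;> rw [e']
    · left; group
    · right; rw [(hzc g).eq, mul_inv_cancel_right]⟩
  have hL2 : IsPGroup 2 L := fun k => by
    have hkk : (k : X ⧸ Cfsg.oddCore X) * k ∈ K := hcent (mem_centralizer_iff.2 fun f hf => by
      set a : X ⧸ Cfsg.oddCore X := k.val
      have e : a * a * f * (a * a)⁻¹ = a * (a * f * a⁻¹ * f⁻¹) * a⁻¹ * (a * f * a⁻¹ * f⁻¹) * f := by group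
      have h1 : a * a * f * (a * a)⁻¹ = f := by
        rcases k.2 f hf with e' | e' <;> rw [e, e']
        · group
        · rw [(hzc a).eq, mul_inv_cancel_right, hz2, one_mul]
      exact (mul_inv_eq_iff_eq_mul.1 h1).symm)
    obtain ⟨m, hm⟩ := Core.pCore_isPGroup 2 (X ⧸ Cfsg.oddCore X) ⟨_, hkk⟩
    refine ⟨m + 1, Subtype.ext ?_⟩
    have h1 := congrArg Subtype.val hm
    simp only [SubmonoidClass.coe_pow, OneMemClass.coe_one] at h1 ⊢
    rw [pow_succ', pow_mul, pow_two]
    exact h1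
  have hLK : L ≤ K := Core.le_pCore' hLn hL2
  -- the derived subgroup lies in `K`
  have hD : ∀ d, inD d = true → π (t d) ∈ K := by
    intro d hd
    refine hLK fun f hf => ?_
    obtain ⟨j, rfl⟩ := hKS f hf
    have e : π (t d) * π (t j) * (π (t d))⁻¹ * (π (t j))⁻¹ = π (t (aComm d j)) := by
      rw [← map_mul, ← map_inv, ← map_mul, ← map_inv, ← map_mul]
      refine congrArg π (Subtype.ext ?_)
      simp only [Subgroup.coe_mul, InvMemClass.coe_inv, t, F.fcomm, mul_assoc]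
    rw [e]
    rcases core_facts.1 d j hd with h | h <;> rw [h]
    · left
      rw [show t 0 = 1 from Subtype.ext F.fone, map_one]
    · right; rfl
  have hwit : ∀ u : Fin 64, u = 16 ∨ u = 32 ∨ u = 48 →
      ∃ (x : X) (w : Fin 64), inD w = true ∧ x * t u * x⁻¹ = t w := by
    intro u hu
    obtain ⟨x, hx, w, hw, e⟩ := F.fused_x hG hu (F.all_fused hG u hu)
    refine ⟨⟨x, hx⟩, w, ?_, Subtype.ext e⟩
    rcases hw with rfl | rfl | rfl <;> decide +kernel
  have hU : ∀ u : Fin 64, u = 16 ∨ u = 32 ∨ u = 48 → π (t u) ∈ K := by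
    intro u hu
    obtain ⟨x, w, hw, e⟩ := hwit u hu
    have h1 := hKn.conj_mem _ (hD w hw) (π x)⁻¹
    rw [← e, map_mul, map_mul, map_inv, inv_inv] at h1
    simpa [mul_assoc] using h1
  have hQK : ∀ i, inQ i = true → π (t i) ∈ K := by
    intro i hi
    obtain ⟨d, hd, h | h | h | h⟩ := core_facts.2.1 i hi <;> subst h
    · exact hD _ hd
    · rw [htmul, map_mul]; exact mul_mem (hD _ hd) (hU 16 (Or.inl rfl))
    · rw [htmul, map_mul]; exact mul_mem (hD _ hd) (hU 32 (Or.inr (Or.inl rfl)))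
    · rw [htmul, htmul, map_mul, map_mul]
      exact mul_mem (hD _ hd) (mul_mem (hU 16 (Or.inl rfl)) (hU 32 (Or.inr (Or.inl rfl))))
  have hKQ : ∀ i, π (t i) ∈ K → inQ i = true := by
    intro i hi
    by_contra hiQ
    rw [Bool.not_eq_true] at hiQ
    -- then `K` is the image of the whole Sylow subgroup
    have h2 : π (t 2) ∈ K := by
      have h := mul_mem (inv_mem hi) (hQK _ (core_facts.2.2.1 i hiQ))
      rwa [htmul, map_mul, inv_mul_cancel_left] at h
    have hall : ∀ k, π (t k) ∈ K := fun k => by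
      by_cases hk : inQ k = true
      · exact hQK k hk
      · rw [Bool.not_eq_true] at hk
        have h := mul_mem (hQK _ (core_facts.2.2.1 k hk)) (inv_mem h2)
        rwa [htmul, map_mul, mul_inv_cancel_right] at h
    obtain ⟨x, w, hw, e⟩ := hwit 16 (Or.inl rfl)
    -- a conjugate of the Sylow subgroup is congruent to it
    set H := th F.z ⊔ (F.P : Subgroup G) with hH
    have hdec : ∀ r ∈ H, ∃ o ∈ th F.z, ∃ p ∈ (F.P : Subgroup G), r = o * p :=
      fun r hr => mem_sup_norm (hPX.trans (cent_le_norm_th F.z)) hr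
    have hxP : (F.P : Subgroup G).map (MulAut.conj (x : G)).toMonoidHom ≤ H := by
      rintro _ ⟨p, hp, rfl⟩
      obtain ⟨k, rfl⟩ := (F.mem_iff p).1 hp
      obtain ⟨l, hl⟩ := hKS _ (hKn.conj_mem _ (hall k) (π x))
      have hm : F.Md ((x : G) * F.f k * (x : G)⁻¹) (F.f l) :=
        (hmd (x * t k * x⁻¹) (t l)).1 (by rw [hl, map_mul, map_mul, map_inv])
      show (x : G) * F.f k * (x : G)⁻¹ ∈ H
      have := mul_mem (mem_sup_left (T := (F.P : Subgroup G)) hm) (mem_sup_right (S := th F.z) (F.f_mem l))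
      rwa [inv_mul_cancel_right] at this
    obtain ⟨c, hc, hcP⟩ := EightThree.exists_conj_le (le_sup_right : (F.P : Subgroup G) ≤ H) F.P.isPGroup'
      (fun R _ hR hle => (F.P.3 hR hle).le) hxP (F.P.isPGroup'.map _)
    obtain ⟨o, ho, p, hp, rfl⟩ := hdec c hc
    obtain ⟨k, rfl⟩ := (F.mem_iff p).1 hp
    have hnN : o * F.f k * (x : G) ∈ normalizer (F.aGrp : Set G) := F.mem_normalizer_of_le fun a ha => by
      have := hcP _ ⟨a, F.aGrp_le ha, rfl⟩
      simpa [mul_assoc] using this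
    have hzo : Commute o F.z := commute_of_mem_th ho
    have e' : (x : G) * F.f 16 * (x : G)⁻¹ = F.f w := congrArg Subtype.val e
    obtain ⟨l, hl⟩ := (F.mem_iff _).1 (hcP _ ⟨F.f 16, F.f_mem 16, rfl⟩)
    simp only [MulEquiv.coe_toMonoidHom, MulAut.conj_apply] at hl
    have hl2 : F.Md (F.f l) (F.f (aConj k w)) := by
      rw [hl, e', F.fconj, show o * F.f k * F.f w * (o * F.f k)⁻¹ = o * (F.f k * F.f w * (F.f k)⁻¹) * o⁻¹ by group,
        ← F.fconj]
      exact F.md_of_th ho (F.comm_z _).symm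
    have hlw := F.md_eq hl2
    have hcA : inA (aConj k w) = true := by
      rw [← F.mem_aGrp_iff, F.fconj]
      exact (mem_normalizer_iff.1 (F.P_le_normalizer (F.f_mem k)) _).1
        (F.f_mem_aGrp (sub_facts.2.1.2.2.2 w hw).1)
    have h16 : F.f 16 ∈ F.aGrp := by
      refine (mem_normalizer_iff.1 hnN _).2 ?_
      rw [show o * F.f k * (x : G) * F.f 16 * (o * F.f k * (x : G))⁻¹ =
        o * F.f k * ((x : G) * F.f 16 * (x : G)⁻¹) * (o * F.f k)⁻¹ by group, ← hl, hlw]
      exact F.f_mem_aGrp hcA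
    exact absurd (F.mem_aGrp_iff.1 h16) (by decide +kernel)
  refine ⟨fun k hk => ?_, fun i hi => hQK i hi⟩
  obtain ⟨i, rfl⟩ := hKS k hk
  exact ⟨i, hKQ i hk, rfl⟩

/-- Modulo the odd core the extraspecial subgroup is normal. -/
theorem qNormal (hG : Good F) {g : G} (hg : Commute g F.z) {i : Fin 64} (hi : inQ i = true) :
    ∃ j, inQ j = true ∧ F.Md (g * F.f i * g⁻¹) (F.f j) := by
  obtain ⟨j, hj, e⟩ := (F.pCore_iff hG).1 _
    ((inferInstance : (Cfsg.pCore 2 _).Normal).conj_mem _ ((F.pCore_iff hG).2 i hi) (F.bar g hg))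
  refine ⟨j, hj, (F.bar_eq (x := g * F.f i * g⁻¹) ((hg.mul_left (F.comm_z i).symm).mul_left hg.inv_left)
    (F.comm_z j).symm).1 ?_⟩
  rw [e]
  simp only [bar, ← map_inv, ← map_mul]
  rfl

theorem mem_sup_dec {r : G} (hr : r ∈ th F.z ⊔ F.qGrp) : ∃ o ∈ th F.z, ∃ q ∈ F.qGrp, r = o * q :=
  mem_sup_norm (F.qGrp_le_centralizer.trans (cent_le_norm_th F.z)) hr

/-- Every element of the centraliser is one of the odd core times one normalising the extraspecial subgroup. -/
theorem exists_acts (hG : Good F) {g : G} (hg : Commute g F.z) :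
    ∃ o ∈ th F.z, ∃ n, F.Acts n ∧ g = o * n := by
  haveI : Fact (Nat.Prime 2) := ⟨Nat.prime_two⟩
  have hgH : F.qGrp.map (MulAut.conj g).toMonoidHom ≤ th F.z ⊔ F.qGrp := by
    rintro _ ⟨q, ⟨i, hi, rfl⟩, rfl⟩
    obtain ⟨j, hj, hm⟩ := F.qNormal hG hg hi
    show g * F.f i * g⁻¹ ∈ _
    have := mul_mem (mem_sup_left (T := F.qGrp) hm) (mem_sup_right (S := th F.z) (F.f_mem_qGrp hj))
    rwa [inv_mul_cancel_right] at this
  have hQp : IsPGroup 2 F.qGrp := F.P.isPGroup'.to_le F.qGrp_le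
  obtain ⟨c, hc, hcQ⟩ := EightThree.exists_conj_le (le_sup_right : F.qGrp ≤ th F.z ⊔ F.qGrp) hQp
    (fun R hRC hR hle r hr => by
      obtain ⟨o, ho, q, hq, rfl⟩ := F.mem_sup_dec (hRC hr)
      have : o = 1 := EightThree.eq_one_of_odd hR (by
        have := mul_mem hr (inv_mem (hle hq))
        rwa [mul_inv_cancel_right] at this) (odd_of_mem_th ho)
      rwa [this, one_mul]) hgH (hQp.map _)
  obtain ⟨o, ho, q, hq, rfl⟩ := F.mem_sup_dec hc
  have hqz : Commute q F.z := mem_centralizer_singleton_iff.1 (F.qGrp_le_centralizer hq)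
  have hact : F.Acts (o * q * g) :=
    ⟨((commute_of_mem_th ho).mul_left hqz).mul_left hg, EightThree.mem_normalizer_of_forall fun a ha => by
      have := hcQ _ ⟨a, ha, rfl⟩
      simpa [mul_assoc] using this⟩
  refine ⟨q⁻¹ * o⁻¹ * q⁻¹⁻¹, F.conj_th hqz.inv_left (inv_mem ho), q⁻¹ * (o * q * g), ?_, by group⟩
  exact F.acts_mul (F.acts_inv ⟨hqz, Subgroup.le_normalizer hq⟩) hact

/-- An element congruent to a fixed point under the action is fixed. -/
theorem acts_congr {n : G} (hn : F.Acts n) {i j : Fin 64} (hi : inQ i = true)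
    (h : F.Md (n * F.f i * n⁻¹) (F.f j)) : n * F.f i * n⁻¹ = F.f j := by
  obtain ⟨k, -, e⟩ := F.acts_idx hn hi
  rw [e] at h ⊢
  rw [F.md_eq h]

/-- An element acting trivially on the extraspecial subgroup is one of the odd core times one of it. -/
theorem cent_q (hG : Good F) {n : G} (hn : Commute n F.z)
    (hc : ∀ i, inQ i = true → F.Md (n * F.f i * n⁻¹) (F.f i)) (hodd : Odd (orderOf n)) : n ∈ th F.z := by
  haveI : Fact (Nat.Prime 2) := ⟨Nat.prime_two⟩
  haveI := hG.hsol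
  have hcent := Core.centralizer_pCore_le_of_isPSolvable
    (G := centralizer ({F.z} : Set G) ⧸ Cfsg.oddCore ↥(centralizer ({F.z} : Set G))) (p := 2)
    Core.isPSolvable_of_isSolvable Core.pPrimeCore_quotient_eq_bot
  have h1 : F.bar n hn ∈ centralizer (Cfsg.pCore 2 (centralizer ({F.z} : Set G) ⧸
      Cfsg.oddCore ↥(centralizer ({F.z} : Set G))) : Set _) := by
    refine mem_centralizer_iff.2 fun k hk => ?_
    obtain ⟨i, hi, rfl⟩ := (F.pCore_iff hG).1 k hk
    have hcm : Commute (n * F.f i * n⁻¹) F.z := (hn.mul_left (F.comm_z i).symm).mul_left hn.inv_left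
    have h2 := (F.bar_eq hcm (F.comm_z i).symm).2 (hc i hi)
    refine (mul_inv_eq_iff_eq_mul.1 (Eq.trans ?_ h2)).symm
    simp only [bar, ← map_inv, ← map_mul]
    rfl
  obtain ⟨m, hm⟩ := Core.pCore_isPGroup 2 _ ⟨_, hcent h1⟩
  have hm' : F.bar n hn ^ 2 ^ m = 1 := congrArg Subtype.val hm
  have hpow : n ^ 2 ^ m ∈ th F.z := by
    simp only [bar, ← map_pow] at hm'
    have h2 := (QuotientGroup.eq_one_iff _).1 hm'
    exact ⟨_, h2, rfl⟩
  exact Syl34.mem_of_pow_two hodd hpow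

end Frame

end Cfsg.Lib.AltEightSyl
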