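import Mathlib

/-!
# The Sylow 2-subgroup of the alternating group of degree eight, by indices

The index `16 * s + v` stands for the product of the element `v` of the elementary abelian subgroup of
order sixteen and of the element `s` of a complementing four-group. The classes of involutions are
represented by 5 (the centre), 1, 2, 6, 10, 11, 16, 32 and 48.
-/

set_option autoImplicit false
set_option maxRecDepth 100000

namespace Cfsg.Lib.AltEightSyl

/-- The action of the complement on the elementary abelian subgroup of order sixteen. -/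
def aAct (s v : ℕ) : ℕ :=
  let w := if s % 2 = 1 then v ^^^ ((v >>> 1) &&& 5) else v
  if s / 2 % 2 = 1 then ((w &&& 3) <<< 2) ||| (w >>> 2) else w

/-- The product of two indices. -/
def aMul (i j : Fin 64) : Fin 64 :=
  Fin.ofNat 64 ((((i.val / 16) ^^^ (j.val / 16)) * 16) + ((i.val % 16) ^^^ aAct (i.val / 16) (j.val % 16)))

/-- The inverse of an index. -/
def aInv (i : Fin 64) : Fin 64 :=
  Fin.ofNat 64 (i.val / 16 * 16 + aAct (i.val / 16) (i.val % 16))

/-- Conjugation. -/
def aConj (h i : Fin 64) : Fin 64 := aMul (aMul h i) (aInv h)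

/-- Commuting. -/
def aCm (i j : Fin 64) : Bool := aMul i j == aMul j i

/-- The commutator. -/
def aComm (i j : Fin 64) : Fin 64 := aMul (aMul i j) (aMul (aInv i) (aInv j))

/-- The representative of the class of an involution, and 0 elsewhere. -/
def aCl (i : Fin 64) : Fin 64 :=
  [0, 1, 2, 2, 1, 5, 6, 6, 2, 6, 10, 11, 2, 6, 11, 10, 16, 16, 0, 0, 16, 16, 0, 0, 0, 0, 0, 0, 0, 0, 0, 0,
    32, 0, 0, 0, 0, 32, 0, 0, 0, 0, 32, 0, 0, 0, 0, 32, 48, 0, 0, 0, 0, 48, 0, 0, 0, 0, 0, 48, 0, 0, 48,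
    0].getD i.val 0

/-- The elementary abelian subgroup of order sixteen. -/
def inA (i : Fin 64) : Bool := decide (i.val < 16)

/-- The derived subgroup. -/
def inD (i : Fin 64) : Bool := decide (i.val < 16) && Nat.testBit 52275 i.val

/-- The extraspecial subgroup of order 32. -/
def inQ (i : Fin 64) : Bool := Nat.testBit 52275 (i.val % 16)

/-- The elements commuting with both. -/
def inC (i j : Fin 64) (k : Fin 64) : Bool := aCm i k && aCm j k

/-- The even permutation of eight points of an index, as a product in the two parts. -/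
def el (i : Fin 64) : Equiv.Perm (Fin 8) :=
  ((if i.val.testBit 0 then Equiv.swap 0 1 * Equiv.swap 2 3 else 1) *
    (if i.val.testBit 1 then Equiv.swap 0 2 * Equiv.swap 1 3 else 1) *
    (if i.val.testBit 2 then Equiv.swap 4 5 * Equiv.swap 6 7 else 1) *
    (if i.val.testBit 3 then Equiv.swap 4 6 * Equiv.swap 5 7 else 1)) *
  ((if i.val.testBit 5 then Equiv.swap 0 4 * Equiv.swap 1 5 * Equiv.swap 2 6 * Equiv.swap 3 7 else 1) *
    (if i.val.testBit 4 then Equiv.swap 2 3 * Equiv.swap 6 7 else 1))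

theorem el_mul : ∀ i j : Fin 64, el (aMul i j) = el i * el j := by decide +kernel

theorem el_sign : ∀ i : Fin 64, Equiv.Perm.sign (el i) = 1 := by decide +kernel

theorem el_eq_one : ∀ i : Fin 64, el i = 1 → i = 0 := by decide +kernel

theorem aMul_inv : ∀ i : Fin 64, aMul i (aInv i) = 0 ∧ aMul (aInv i) i = 0 ∧ aMul i 0 = i ∧ aMul 0 i = i := by
  decide +kernel

theorem el_injective : Function.Injective el := by
  intro i j h
  have h0 : el 0 = 1 := by decide +kernel
  have h1 : el (aMul i (aInv j)) = 1 := by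
    rw [el_mul, h, ← el_mul, (aMul_inv j).1, h0]
  have h2 := el_eq_one _ h1
  have key : ∀ a b : Fin 64, aMul a (aInv b) = 0 → a = b := by decide +kernel
  exact key i j h2

theorem aMul_assoc (i j k : Fin 64) : aMul (aMul i j) k = aMul i (aMul j k) :=
  el_injective (by simp only [el_mul, mul_assoc])

theorem mask_facts : ∀ i : Fin 64, (inD i = true ↔ i = 0 ∨ i = 1 ∨ i = 4 ∨ i = 5 ∨ i = 10 ∨ i = 11 ∨ i = 14 ∨ i = 15) ∧
    (inQ i = true ↔ inD (Fin.ofNat 64 (i.val % 16)) = true) := by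
  decide +kernel

theorem sub_facts :
    (inA 0 = true ∧ (∀ i j : Fin 64, inA i = true → inA j = true → inA (aMul i j) = true ∧ aMul i j = aMul j i) ∧
      (∀ i : Fin 64, inA i = true → inA (aInv i) = true ∧ aMul i i = 0) ∧
      ((List.finRange 64).filter inA).length = 16) ∧
    (inD 0 = true ∧ (∀ i j : Fin 64, inD (aComm i j) = true) ∧
      (∀ i j : Fin 64, inD i = true → inD j = true → inD (aMul i j) = true) ∧
      (∀ i : Fin 64, inD i = true → inA i = true ∧ inQ i = true)) ∧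
    (inQ 0 = true ∧ (∀ i j : Fin 64, inQ i = true → inQ j = true → inQ (aMul i j) = true) ∧
      (∀ i : Fin 64, inQ i = true → inQ (aInv i) = true) ∧
      (∀ i j : Fin 64, inQ j = true → inQ (aConj i j) = true) ∧
      ((List.finRange 64).filter inQ).length = 32) := by
  decide +kernel

theorem aCl_facts : ∀ i : Fin 64, ((aMul i i = 0 ∧ i ≠ 0) ↔ aCl i ≠ 0) ∧
    (aCl i ≠ 0 → (aCl i = 5 ∨ aCl i = 1 ∨ aCl i = 2 ∨ aCl i = 6 ∨ aCl i = 10 ∨ aCl i = 11 ∨ aCl i = 16 ∨
      aCl i = 32 ∨ aCl i = 48) ∧ (inA i = true ↔ aCl i ≠ 16 ∧ aCl i ≠ 32 ∧ aCl i ≠ 48) ∧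
      (inA i = inA (aCl i)) ∧ (inQ i = inQ (aCl i))) := by
  decide +kernel

theorem aCl_wit : ∀ i : Fin 64, aCl i ≠ 0 →
    (List.finRange 64).any (fun h => aConj h (aCl i) == i) = true := by
  decide +kernel

theorem aCl_list : ∀ i : Fin 64, (aCl i = 5 ↔ i = 5) ∧ (aCl i = 1 ↔ i = 1 ∨ i = 4) ∧
    (aCl i = 2 ↔ i = 2 ∨ i = 3 ∨ i = 8 ∨ i = 12) ∧ (aCl i = 6 ↔ i = 6 ∨ i = 7 ∨ i = 9 ∨ i = 13) ∧
    (aCl i = 10 ↔ i = 10 ∨ i = 15) ∧ (aCl i = 11 ↔ i = 11 ∨ i = 14) ∧
    (inD i = true ↔ i = 0 ∨ aCl i = 5 ∨ aCl i = 1 ∨ aCl i = 10 ∨ aCl i = 11) := by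
  decide +kernel

theorem centre_facts : (∀ i : Fin 64, aCm 5 i = true) ∧ (∀ i : Fin 64, (∀ j : Fin 64, aCm i j = true) → i = 0 ∨ i = 5) := by
  decide +kernel

theorem card_cent : ∀ i : Fin 64, aCl i ≠ 0 →
    (i = 5 → ((List.finRange 64).filter (aCm i)).length = 64) ∧
    (aCl i = 1 ∨ aCl i = 10 ∨ aCl i = 11 → ((List.finRange 64).filter (aCm i)).length = 32) ∧
    (aCl i = 2 ∨ aCl i = 6 → ∀ j : Fin 64, aCm i j = inA j) ∧
    (aCl i = 16 ∨ aCl i = 32 ∨ aCl i = 48 → ((List.finRange 64).filter (aCm i)).length = 16 ∧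
      ∀ j k : Fin 64, aCm i j = true → aCm i k = true → aComm j k = 0 ∨ aComm j k = 5) := by
  decide +kernel

theorem cent_nonab : ∀ i : Fin 64, aCl i = 16 ∨ aCl i = 32 ∨ aCl i = 48 →
    ((List.finRange 64).filter fun j => aCm i j).any (fun j =>
      ((List.finRange 64).filter fun k => aCm i k).any fun k => aComm j k == 5) = true := by
  decide +kernel

end Cfsg.Lib.AltEightSyl
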