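import Cfsg.Agent.Lib.AltEightSyl.Wreath
import Cfsg.Agent.Lib.Core.Cores
import Cfsg.Agent.Lib.PGroup.Basic
import Cfsg.Prelude.Def_Transfer
import Mathlib.GroupTheory.Sylow
import Mathlib.GroupTheory.Perm.Fin

/-!
# The branch with an involution centraliser of order 192: the hypotheses of the centraliser theorem
-/

set_option autoImplicit false
set_option maxRecDepth 10000
set_option linter.style.haveILetI false

namespace Cfsg.Lib.AltEightSyl

open Subgroup Quat
open scoped commutatorElement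

theorem perm_three : ∀ a b : Equiv.Perm (Fin 3), a * a = 1 → a ≠ 1 → b * b * b = 1 → a * b * a⁻¹ * b = 1 := by
  decide +kernel

theorem perm_three_sq : ∀ a b : Equiv.Perm (Fin 3), a * a = 1 → a ≠ 1 → b * a = a * b → b = 1 ∨ b = a := by
  decide +kernel

theorem perm_three_normal : ∀ a : Equiv.Perm (Fin 3), a * a = 1 → a ≠ 1 →
    ∃ g, g * a * g⁻¹ ≠ a := by decide +kernel

/-- A group of order six with a noncentral involution is the symmetric group of degree three. -/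
theorem equiv_perm_three {H : Type*} [Group H] [Finite H] (h6 : Nat.card H = 6) {a : H} (ha : orderOf a = 2)
    (hnc : ∃ g, g * a ≠ a * g) : Nonempty (H ≃* Equiv.Perm (Fin 3)) := by
  classical
  have hA : Nat.card (zpowers a) = 2 := by rw [Nat.card_zpowers, ha]
  have h3 : Nat.card (H ⧸ zpowers a) = 3 := by
    have := card_eq_card_quotient_mul_card_subgroup (zpowers a)
    rw [h6, hA] at this
    omega
  let φ := MulAction.toPermHom H (H ⧸ zpowers a)
  have hφ : Function.Injective φ := by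
    refine (MonoidHom.ker_eq_bot_iff φ).1 ?_
    have hle : φ.ker ≤ zpowers a := fun x hx => by
      have e : φ x (QuotientGroup.mk (1 : H)) = QuotientGroup.mk (1 : H) := by
        rw [MonoidHom.mem_ker.1 hx]; rfl
      rw [MulAction.toPermHom_apply, MulAction.toPerm_apply, MulAction.Quotient.smul_mk, smul_eq_mul, mul_one,
        QuotientGroup.eq, mul_one, inv_mem_iff] at e
      exact e
    rw [eq_bot_iff]
    intro x hx
    have hcases : ∀ y ∈ zpowers a, y = 1 ∨ y = a := fun y hy => by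
      rw [← IsOfFinOrder.mem_powers_iff_mem_zpowers (isOfFinOrder_of_finite a)] at hy
      obtain ⟨n, rfl⟩ := hy
      show a ^ n = 1 ∨ a ^ n = a
      rw [← pow_mod_orderOf, ha]
      rcases Nat.mod_two_eq_zero_or_one n with h | h <;> simp [h]
    rcases hcases x (hle hx) with rfl | rfl
    · exact one_mem _
    · obtain ⟨g, hg⟩ := hnc
      refine absurd ?_ hg
      rcases hcases _ (hle ((MonoidHom.normal_ker φ).conj_mem _ hx g)) with h | h
      · rw [conj_eq_one_iff] at h; rw [h, orderOf_one] at ha; omega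
      · exact mul_inv_eq_iff_eq_mul.1 h
  haveI := Fintype.ofFinite (H ⧸ zpowers a)
  let e := Fintype.equivFinOfCardEq (show Fintype.card (H ⧸ zpowers a) = 3 by rw [← Nat.card_eq_fintype_card, h3])
  let ψ : H →* Equiv.Perm (Fin 3) := e.permCongrHom.toMonoidHom.comp φ
  refine ⟨MulEquiv.ofBijective ψ ((Nat.bijective_iff_injective_and_card ψ).2 ⟨e.permCongrHom.injective.comp hφ, ?_⟩)⟩
  rw [h6, Nat.card_eq_fintype_card, Fintype.card_perm, Fintype.card_fin]
  rfl

namespace Wreath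

variable {G : Type*} [Group G] {t : G} (W : Wreath t)

theorem card_Q [Finite G] : Nat.card ↥(W.Q1 ⊔ W.Q2) = 32 := by
  classical
  have hker : Nat.card W.Φ.ker = 2 := by
    rw [Nat.card_eq_two_iff]
    have hz : ((z, z) : Q8 × Q8) ∈ W.Φ.ker := MonoidHom.mem_ker.2 (by rw [Φ_apply, W.ι_z, W.ι₂_z, W.t_sq])
    refine ⟨1, ⟨(z, z), hz⟩, fun h => z_facts.1 ?_, Set.eq_univ_of_forall fun x => ?_⟩
    · exact (congrArg (fun y : W.Φ.ker => (y : Q8 × Q8).1) h).symm
    · obtain ⟨⟨p, q⟩, hx⟩ := x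
      rcases W.pair_eq_one (MonoidHom.mem_ker.1 hx) with ⟨h1, h2⟩ | ⟨h1, h2⟩ <;>
        simp only at h1 h2 <;> subst h1 h2
      · exact Or.inl rfl
      · exact Or.inr rfl
  have := card_eq_card_quotient_mul_card_subgroup W.Φ.ker
  rw [hker, Nat.card_congr (QuotientGroup.quotientKerEquivRange W.Φ).toEquiv, W.range_Φ, Nat.card_prod,
    Nat.card_eq_fintype_card (α := Q8), QuaternionGroup.card] at this
  omega

theorem isPGroup_Q [Finite G] : IsPGroup 2 ↥(W.Q1 ⊔ W.Q2) := IsPGroup.of_card (n := 5) (by rw [W.card_Q]; norm_num)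

theorem center_Q [Finite G] : (center ↥(W.Q1 ⊔ W.Q2)).map (W.Q1 ⊔ W.Q2).subtype = zpowers t := by
  refine le_antisymm ?_ (zpowers_le.2 ⟨⟨t, mem_sup_left W.htQ⟩, ?_, rfl⟩)
  · rintro _ ⟨c, hc, rfl⟩
    have hcm : ∀ y ∈ W.Q1 ⊔ W.Q2, Commute (c : G) y := fun y hy =>
      (congrArg Subtype.val ((mem_center_iff.1 hc) ⟨y, hy⟩)).symm
    rcases W.central_cases (W.hle c.2) (fun p => hcm _ (mem_sup_left (W.ι_mem p)))
      (fun p => hcm _ (mem_sup_right (W.ι₂_mem p))) with h | h <;> simp only [coe_subtype, h]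
    exacts [one_mem _, mem_zpowers _]
  · refine mem_center_iff.2 fun y => Subtype.ext ?_
    exact mem_centralizer_singleton_iff.1 (W.hle y.2)

theorem extraspecial [Finite G] : Cfsg.IsExtraspecial 2 ↥(W.Q1 ⊔ W.Q2) := by
  haveI : Fact (Nat.Prime 2) := ⟨Nat.prime_two⟩
  set Q := W.Q1 ⊔ W.Q2
  have hcard : Nat.card (center Q) = 2 := by
    rw [← Nat.card_congr (((center Q).equivMapOfInjective Q.subtype Q.subtype_injective)).toEquiv.symm, W.center_Q,
      Nat.card_zpowers, W.ht]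
  have hmemZ : ∀ y : Q, (y : G) = 1 ∨ (y : G) = t → y ∈ center Q := fun y hy => by
    have h : Q.subtype y ∈ (center Q).map Q.subtype := by
      rw [W.center_Q]
      rcases hy with h | h <;> rw [coe_subtype, h]
      exacts [one_mem _, mem_zpowers _]
    exact (mem_map_iff_mem Q.subtype_injective).1 h
  have h1t : ∀ p : Q8, (p = 1 ∨ p = z) → (W.ι p = 1 ∨ W.ι p = t) ∧ (W.ι₂ p = 1 ∨ W.ι₂ p = t) := by
    rintro p (rfl | rfl)
    · exact ⟨Or.inl (map_one _), Or.inl (map_one _)⟩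
    · exact ⟨Or.inr W.ι_z, Or.inr W.ι₂_z⟩
  have hmul : ∀ x y : G, (x = 1 ∨ x = t) → (y = 1 ∨ y = t) → x * y = 1 ∨ x * y = t := by
    rintro x y (rfl | rfl) (rfl | rfl) <;> simp [W.t_sq]
  have hq : ∀ p q : Q8, (p * q * p⁻¹ * q⁻¹ = 1 ∨ p * q * p⁻¹ * q⁻¹ = z) ∧ (p * p = 1 ∨ p * p = z) := by
    decide +kernel
  have hle : commutator Q ≤ center Q := by
    rw [commutator_def, commutator_le]
    intro x _ y _
    obtain ⟨p, q, hx⟩ := W.exists_pair x.2
    obtain ⟨p', q', hy⟩ := W.exists_pair y.2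
    refine hmemZ _ ?_
    have e : ((⁅x, y⁆ : Q) : G) = W.ι (p * p' * p⁻¹ * p'⁻¹) * W.ι₂ (q * q' * q⁻¹ * q'⁻¹) := by
      rw [← Φ_apply W (p * p' * p⁻¹ * p'⁻¹, q * q' * q⁻¹ * q'⁻¹), commutatorElement_def]
      simp only [coe_mul, coe_inv, hx, hy, ← Φ_apply W (p, q), ← Φ_apply W (p', q'), ← map_mul, ← map_inv,
        Prod.mk_mul_mk, Prod.inv_mk]
    rw [e]
    exact hmul _ _ (h1t _ (hq p p').1).1 (h1t _ (hq q q').1).2
  have hcm : commutator Q = center Q := by
    refine le_antisymm hle ?_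
    have hne : commutator Q ≠ ⊥ := fun h => by
      let x : Q := ⟨W.ι (QuaternionGroup.a 1), mem_sup_left (W.ι_mem _)⟩
      let y : Q := ⟨W.ι (QuaternionGroup.xa 0), mem_sup_left (W.ι_mem _)⟩
      have hp : ⁅x, y⁆ = 1 := by
        rw [← mem_bot, ← h]; exact commutator_mem_commutator (mem_top _) (mem_top _)
      have h' := congrArg Subtype.val (commutatorElement_eq_one_iff_mul_comm.1 hp)
      simp only [x, y, coe_mul, ← map_mul] at h'
      exact absurd (W.ι_inj h') (by decide)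
    rcases (Nat.dvd_prime Nat.prime_two).1 (hcard ▸ card_dvd_of_le hle) with h | h
    · exact absurd (eq_bot_of_card_eq _ h) hne
    · exact (eq_of_le_of_card_ge hle (by omega)).ge
  refine ⟨⟨W.isPGroup_Q, ?_, hcm⟩, hcard⟩
  rw [Cfsg.Lib.PGroup.frattini_eq_sup W.isPGroup_Q, hcm, sup_eq_left, closure_le]
  rintro _ ⟨y, rfl⟩
  obtain ⟨p, q, hy⟩ := W.exists_pair y.2
  refine hmemZ _ ?_
  rw [SubmonoidClass.coe_pow, sq, hy, (W.comm_ι p q).symm.mul_mul_mul_comm, ← map_mul, ← map_mul]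
  exact hmul _ _ (h1t _ (hq p p).2).1 (h1t _ (hq q q).2).2

section Small

variable [Finite G] (hcard : Nat.card (centralizer ({t} : Set G)) = 192)
  (hns : ∃ g ∈ centralizer ({t} : Set G), g * W.s * g⁻¹ * W.s⁻¹ ∉ W.Q1 ⊔ W.Q2)

include hcard in
theorem quotient_data : ∃ hn : ((W.Q1 ⊔ W.Q2).subgroupOf (centralizer ({t} : Set G))).Normal,
    Nat.card ((W.Q1 ⊔ W.Q2).subgroupOf (centralizer ({t} : Set G))) = 32 ∧
    Nat.card (centralizer ({t} : Set G) ⧸ (W.Q1 ⊔ W.Q2).subgroupOf (centralizer ({t} : Set G))) = 6 := by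
  have hn : ((W.Q1 ⊔ W.Q2).subgroupOf (centralizer ({t} : Set G))).Normal :=
    ⟨fun x hx g => W.hnorm g g.2 x hx⟩
  have h32 : Nat.card ((W.Q1 ⊔ W.Q2).subgroupOf (centralizer ({t} : Set G))) = 32 := by
    rw [Nat.card_congr (subgroupOfEquivOfLe W.hle).toEquiv, W.card_Q]
  refine ⟨hn, h32, ?_⟩
  have := card_eq_card_quotient_mul_card_subgroup ((W.Q1 ⊔ W.Q2).subgroupOf (centralizer ({t} : Set G)))
  rw [hcard, h32] at this
  omega

include hcard hns in
theorem exists_quotient_map : ∃ π : centralizer ({t} : Set G) →* Equiv.Perm (Fin 3), Function.Surjective π ∧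
    π.ker = (W.Q1 ⊔ W.Q2).subgroupOf (centralizer ({t} : Set G)) ∧
    π ⟨W.s, W.s_mem⟩ * π ⟨W.s, W.s_mem⟩ = 1 ∧ π ⟨W.s, W.s_mem⟩ ≠ 1 := by
  obtain ⟨hn, -, h6⟩ := W.quotient_data hcard
  obtain ⟨g, hg, hgs⟩ := hns
  let mk := QuotientGroup.mk' ((W.Q1 ⊔ W.Q2).subgroupOf (centralizer ({t} : Set G)))
  have hs2 : orderOf (mk ⟨W.s, W.s_mem⟩) = 2 := by
    refine orderOf_eq_prime (by rw [← map_pow, show (⟨W.s, W.s_mem⟩ : centralizer ({t} : Set G)) ^ 2 = 1 from
      Subtype.ext (by rw [sq]; exact W.s_sq), map_one]) fun h => hgs ?_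
    have hs : W.s ∈ W.Q1 ⊔ W.Q2 := mem_subgroupOf.1
      ((QuotientGroup.eq_one_iff (⟨W.s, W.s_mem⟩ : centralizer ({t} : Set G))).1 h)
    exact mul_mem (W.hnorm g hg _ hs) (inv_mem hs)
  have hnc : mk ⟨g, hg⟩ * mk ⟨W.s, W.s_mem⟩ ≠ mk ⟨W.s, W.s_mem⟩ * mk ⟨g, hg⟩ := fun h => hgs (by
    have e1 : mk (⟨g, hg⟩ * ⟨W.s, W.s_mem⟩ * ⟨g, hg⟩⁻¹ * ⟨W.s, W.s_mem⟩⁻¹) = 1 := by
      rw [map_mul, map_mul, map_mul, map_inv, map_inv, h]; simp
    exact mem_subgroupOf.1 ((QuotientGroup.eq_one_iff _).1 e1))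
  obtain ⟨e⟩ := equiv_perm_three h6 hs2 ⟨mk ⟨g, hg⟩, hnc⟩
  · have hker : (e.toMonoidHom.comp mk).ker = (W.Q1 ⊔ W.Q2).subgroupOf (centralizer ({t} : Set G)) := by
      rw [← MonoidHom.comap_ker, MonoidHom.ker_eq_bot_iff _ |>.2 e.injective, MonoidHom.comap_bot, QuotientGroup.ker_mk']
    refine ⟨e.toMonoidHom.comp mk, e.surjective.comp (QuotientGroup.mk'_surjective _), hker, ?_, fun h => ?_⟩
    · rw [← map_mul, show (⟨W.s, W.s_mem⟩ * ⟨W.s, W.s_mem⟩ : centralizer ({t} : Set G)) = 1 from Subtype.ext W.s_sq,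
        map_one]
    · rw [MonoidHom.comp_apply, MulEquiv.coe_toMonoidHom, EmbeddingLike.map_eq_one_iff] at h
      rw [h, orderOf_one] at hs2
      omega

include hcard hns in
theorem pCore_eq : (Cfsg.pCore 2 (centralizer ({t} : Set G))).map (centralizer ({t} : Set G)).subtype = W.Q1 ⊔ W.Q2 ∧
    Nonempty (centralizer ({t} : Set G) ⧸ Cfsg.pCore 2 (centralizer ({t} : Set G)) ≃* Equiv.Perm (Fin 3)) := by
  haveI : Fact (Nat.Prime 2) := ⟨Nat.prime_two⟩
  obtain ⟨hn, h32, -⟩ := W.quotient_data hcard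
  obtain ⟨π, hπ, hker, hs1, hs2⟩ := W.exists_quotient_map hcard hns
  have hle : (W.Q1 ⊔ W.Q2).subgroupOf (centralizer ({t} : Set G)) ≤ Cfsg.pCore 2 (centralizer ({t} : Set G)) :=
    le_sSup ⟨hn, IsPGroup.of_card (n := 5) (by rw [h32]; norm_num)⟩
  have hge : Cfsg.pCore 2 (centralizer ({t} : Set G)) ≤ π.ker := by
    refine sSup_le fun N ⟨hN, hN2⟩ x hx => ?_
    have hM : (N.map π).Normal := hN.map π hπ
    have hM2 : IsPGroup 2 (N.map π) := hN2.map π
    -- a normal 2-subgroup of the symmetric group of degree three is trivial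
    by_contra hx1
    have hy : π x ∈ N.map π := mem_map_of_mem π hx
    obtain ⟨k, hk⟩ := IsPGroup.iff_card.1 hM2
    have hd : Nat.card (N.map π) ∣ 6 := by
      have := card_subgroup_dvd_card (N.map π)
      rwa [Nat.card_eq_fintype_card (α := Equiv.Perm (Fin 3)), Fintype.card_perm, Fintype.card_fin] at this
    have hk2 : Nat.card (N.map π) = 2 := by
      have hk1 : k ≤ 1 := by
        by_contra hk'
        have := Nat.le_of_dvd (by norm_num) ((pow_dvd_pow 2 (show 2 ≤ k by omega)).trans (hk ▸ hd))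
        have h4 : 2 ^ 2 ∣ 6 := (pow_dvd_pow 2 (show 2 ≤ k by omega)).trans (hk ▸ hd)
        norm_num at h4
      interval_cases k
      · exact absurd (eq_bot_of_card_eq _ (by rw [hk]; norm_num) ▸ hy : π x ∈ (⊥ : Subgroup _)) (fun h => hx1 (mem_bot.1 h))
      · rw [hk]; norm_num
    have hsq : π x * π x = 1 := by
      have := pow_card_eq_one' (x := (⟨π x, hy⟩ : N.map π))
      rw [hk2, sq] at this
      exact congrArg Subtype.val this
    obtain ⟨g, hg⟩ := perm_three_normal (π x) hsq hx1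
    obtain ⟨a, b, hab, huniv⟩ := Nat.card_eq_two_iff.1 hk2
    have hone : ∀ y : N.map π, y = 1 ∨ y = ⟨π x, hy⟩ := fun y => by
      have hu : ∀ y, y = a ∨ y = b := fun y => by
        have := Set.eq_univ_iff_forall.1 huniv y
        simpa using this
      have hne : (⟨π x, hy⟩ : N.map π) ≠ 1 := fun h => hx1 (congrArg Subtype.val h)
      rcases hu 1 with h1 | h1 <;> rcases hu ⟨π x, hy⟩ with h2 | h2 <;> rcases hu y with h3 | h3 <;>
        first | exact absurd (h2.trans h1.symm) hne | exact Or.inl (h3.trans h1.symm) | exact Or.inr (h3.trans h2.symm)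
    rcases hone ⟨_, hM.conj_mem _ hy g⟩ with h | h
    · exact hx1 (conj_eq_one_iff.1 (congrArg Subtype.val h))
    · exact hg (congrArg Subtype.val h)
  have heq : Cfsg.pCore 2 (centralizer ({t} : Set G)) = π.ker := le_antisymm hge (hker ▸ hle)
  refine ⟨?_, ⟨(QuotientGroup.quotientMulEquivOfEq heq).trans (QuotientGroup.quotientKerEquivOfSurjective π hπ)⟩⟩
  rw [heq, hker, subgroupOf_map_subtype, inf_eq_left.2 W.hle]

include hcard hns in
theorem not_one_sided {r : G} (hr : r ∈ centralizer ({t} : Set G)) (h3 : r ^ 3 = 1) (h1 : r ≠ 1) :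
    ¬ ∀ p, Commute r (W.ι₂ p) := by
  intro hc
  obtain ⟨π, -, hker, hs1, hs2⟩ := W.exists_quotient_map hcard hns
  have hb : π ⟨r, hr⟩ * π ⟨r, hr⟩ * π ⟨r, hr⟩ = 1 := by
    rw [← map_mul, ← map_mul, show (⟨r, hr⟩ * ⟨r, hr⟩ * ⟨r, hr⟩ : centralizer ({t} : Set G)) = 1 from
      Subtype.ext (by
        show r * r * r = 1
        rw [← h3, pow_succ, sq]), map_one]
  have hmem : (⟨W.s, W.s_mem⟩ * ⟨r, hr⟩ * ⟨W.s, W.s_mem⟩⁻¹ * ⟨r, hr⟩ : centralizer ({t} : Set G)) ∈ π.ker := by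
    rw [MonoidHom.mem_ker, map_mul, map_mul, map_mul, map_inv]
    exact perm_three _ _ hs1 hs2 hb
  rw [hker, mem_subgroupOf] at hmem
  obtain ⟨u, v, he⟩ := W.exists_pair hmem
  simp only [coe_mul, coe_inv] at he
  have hro : Odd (orderOf r) := Odd.of_dvd_nat (by decide : Odd 3) (orderOf_dvd_of_pow_eq_one h3)
  have hfr := W.fix_of_odd hr hro
  have hs' : ∀ p, Commute (W.s * r * W.s⁻¹) (W.ι p) := fun p => (W.comm_swap_iff p).2 (hc p)
  -- so `r` induces an inner automorphism of order dividing three on the first factor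
  have hin : ∀ p, W.act hfr p = u * p * u⁻¹ := fun p => W.ι_inj (by
    rw [W.ι_act, map_mul, map_mul, map_inv]
    generalize hr2 : W.s * r * W.s⁻¹ = r2 at he hs'
    have e : r = r2⁻¹ * (W.ι u * W.ι₂ v) := by rw [← he]; group
    calc r * W.ι p * r⁻¹ = r2⁻¹ * (W.ι u * (W.ι₂ v * W.ι p * (W.ι₂ v)⁻¹) * (W.ι u)⁻¹) * r2 := by
          rw [e]; group
      _ = W.ι u * W.ι p * (W.ι u)⁻¹ := by
        rw [(W.comm_ι p v).symm.mul_inv_cancel, ← map_inv, ← map_mul, ← map_mul,
          mul_assoc _ (W.ι _), (hs' _).symm.eq, ← mul_assoc, inv_mul_cancel, one_mul])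
  have hcube := W.cube_act hfr (by rw [show 9 = 3 * 3 from rfl, pow_mul, h3, one_pow])
  have hid : ∀ p, W.act hfr p = p := fun p => by
    rw [hin p]
    refine inner u (fun x => ?_) p
    have := hcube x
    rw [hin, hin, hin] at this
    exact this
  exact h1 (W.eq_one_of_odd hr hro (W.comm_of_act hfr hid) hc)

include hcard hns in
theorem fixed_three (X : Sylow 3 (centralizer ({t} : Set G))) :
    (W.Q1 ⊔ W.Q2) ⊓ centralizer (((X : Subgroup (centralizer ({t} : Set G))).map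
      (centralizer ({t} : Set G)).subtype : Subgroup G) : Set G) = zpowers t := by
  haveI : Fact (Nat.Prime 3) := ⟨Nat.prime_three⟩
  have hX : Nat.card X = 3 := by
    rw [X.card_eq_multiplicity, hcard, show (192 : ℕ) = 3 * 64 by norm_num,
      Nat.factorization_mul (by norm_num) (by norm_num), Finsupp.add_apply, Nat.Prime.factorization_self Nat.prime_three,
      Nat.factorization_eq_zero_of_not_dvd (by norm_num : ¬ 3 ∣ 64)]
    norm_num
  obtain ⟨x, hx⟩ := exists_prime_orderOf_dvd_card' 3 (by rw [hX])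
  set r : G := ((x : centralizer ({t} : Set G)) : G)
  have hr : r ∈ centralizer ({t} : Set G) := (x : centralizer ({t} : Set G)).2
  have hro : orderOf r = 3 := by rw [← hx]; simp [r]
  have hr3 : r ^ 3 = 1 := by rw [← hro, pow_orderOf_eq_one]
  have hr1 : r ≠ 1 := fun h => by rw [h, orderOf_one] at hro; omega
  have hr' := W.swap_mem hr
  have hr3' : (W.s * r * W.s⁻¹) ^ 3 = 1 := by rw [conj_pow, hr3]; group
  have hf := W.fix_of_odd hr (by rw [hro]; decide)
  have hf' := W.fix_of_odd hr' (by rw [W.orderOf_swap, hro]; decide)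
  have hA : ∃ p, W.act hf p ≠ p := by
    by_contra hh
    push Not at hh
    refine W.not_one_sided hcard hns hr' hr3' (fun h => hr1 (conj_eq_one_iff.1 h)) fun p => ?_
    have := W.comm_of_act hf hh p
    rw [ι₂_apply, Commute.conj_iff]
    exact this
  have hB : ∃ p, W.act hf' p ≠ p := by
    by_contra hh
    push Not at hh
    exact W.not_one_sided hcard hns hr hr3 hr1 fun p => (W.comm_swap_iff p).1 (W.comm_of_act hf' hh p)
  refine le_antisymm ?_ (zpowers_le.2 ⟨mem_sup_left W.htQ, ?_⟩)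
  · rintro y ⟨hy, hyc⟩
    have hry : r * y * r⁻¹ = y :=
      mul_inv_eq_iff_eq_mul.2 (mem_centralizer_iff.1 hyc r ⟨_, x.2, rfl⟩)
    obtain ⟨a, b, rfl⟩ := W.exists_pair hy
    have e2 : W.ι₂ (W.act hf' b) = r * W.ι₂ b * r⁻¹ := by
      rw [ι₂_apply, W.ι_act, ι₂_apply]
      conv_lhs => rw [W.s_inv]
      rw [W.s_inv]
      calc _ = W.s * W.s * r * (W.s * W.ι b * W.s) * r⁻¹ * (W.s * W.s) := by
            conv_lhs => rw [show (W.s * r * W.s)⁻¹ = W.s⁻¹ * r⁻¹ * W.s⁻¹ by group, W.s_inv]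
            group
        _ = _ := by rw [W.s_sq, one_mul, mul_one]
    have e : W.ι (a⁻¹ * W.act hf a) * W.ι₂ (W.act hf' b * b⁻¹) = 1 := by
      rw [map_mul, map_mul, map_inv, map_inv, W.ι_act, e2]
      calc (W.ι a)⁻¹ * (r * W.ι a * r⁻¹) * (r * W.ι₂ b * r⁻¹ * (W.ι₂ b)⁻¹)
          = (W.ι a)⁻¹ * (r * (W.ι a * W.ι₂ b) * r⁻¹) * (W.ι₂ b)⁻¹ := by group
        _ = 1 := by rw [hry]; group
    have hgA := good_of (W.cube_act hf (by rw [show 9 = 3 * 3 from rfl, pow_mul, hr3, one_pow]))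
    have hgB := good_of (W.cube_act hf' (by rw [show 9 = 3 * 3 from rfl, pow_mul, hr3', one_pow]))
    have hfa := fixed _ hgA (by rw [← eq_F]; exact hA) a
    have hfb := fixed _ hgB (by rw [← eq_F]; exact hB) b
    rw [← eq_F] at hfa hfb
    rcases W.pair_eq_one e with ⟨ha, hb⟩ | ⟨ha, -⟩
    · rcases hfa.1 (inv_mul_eq_one.1 ha).symm with rfl | rfl <;> rcases hfb.1 (mul_inv_eq_one.1 hb) with rfl | rfl <;>
        simp [W.ι_z, W.ι₂_z, W.t_sq, mem_zpowers]
    · exact absurd (inv_mul_eq_iff_eq_mul.1 ha) hfa.2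
  · refine mem_centralizer_iff.2 ?_
    rintro _ ⟨y, -, rfl⟩
    exact mem_centralizer_singleton_iff.1 y.2

end Small

end Wreath

end Cfsg.Lib.AltEightSyl
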