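import Cfsg.Agent.Lib.MTwelveRecog.Setup
import Mathlib.GroupTheory.Sylow

/-!
# The Mathieu group of degree twelve has no elementary abelian subgroup of order sixteen
-/

set_option autoImplicit false
set_option maxRecDepth 100000

namespace Cfsg.Lib.AltEightSyl

open Subgroup
open Cfsg.Lib.MTwelveRecog

/-- The indices of the involutions of the Sylow subgroup. -/
def invIdx : List (Fin 192) := (List.finRange 192).filter fun i => inSyl i && cMul i i == 0 && i != 0

/-- Commuting indices. -/
def cmIdx (i j : Fin 192) : Bool := cMul i j == cMul j i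

/-- A fourth commuting involution lies in the span of the first three. -/
def spanTest : Bool :=
  invIdx.all fun a => (invIdx.filter fun b => cmIdx a b && b != a).all fun b =>
    (invIdx.filter fun c => cmIdx a c && cmIdx b c && c != a && c != b && c != cMul a b).all fun c =>
      (invIdx.filter fun d => cmIdx a d && cmIdx b d && cmIdx c d).all fun d =>
        [a, b, c, cMul a b, cMul a c, cMul b c, cMul (cMul a b) c].elem d

theorem span_test : spanTest = true := by decide +kernel

theorem no_sixteen {G : Type*} [Group G] [Finite G] (h : Cfsg.Spor.IsoM12 G) (E : Subgroup G)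
    (hc : Nat.card E = 16) (hcomm : IsMulCommutative E) (hsq : ∀ x ∈ E, x ^ 2 = 1) : False := by
  classical
  haveI : Fact (Nat.Prime 2) := ⟨Nat.prime_two⟩
  obtain ⟨f⟩ := h
  obtain ⟨ι⟩ := nonempty_sporM12_std
  let φ : G ≃* stdTwelve := f.trans ι
  let E' : Subgroup stdTwelve := E.map φ.toMonoidHom
  have hc' : Nat.card E' = 16 := by
    rw [← hc]; exact (Nat.card_congr (E.equivMapOfInjective φ.toMonoidHom φ.injective).toEquiv).symm
  have hcm : ∀ x ∈ E', ∀ y ∈ E', x * y = y * x ∧ x * x = 1 := by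
    rintro _ ⟨x, hx, rfl⟩ _ ⟨y, hy, rfl⟩
    refine ⟨?_, by rw [← map_mul, ← sq, hsq x hx, map_one]⟩
    rw [← map_mul, ← map_mul]
    exact congrArg _ (congrArg Subtype.val (hcomm.is_comm.comm (⟨x, hx⟩ : E) ⟨y, hy⟩))
  obtain ⟨S, hS⟩ := (IsPGroup.of_card (n := 4) (by rw [hc']; norm_num) : IsPGroup 2 E').exists_le_sylow
  have h64 : Nat.card sylStd = 2 ^ (Nat.card stdTwelve).factorization 2 := by
    rw [card_sylStd, card_stdTwelve, show (95040 : ℕ) = 2 ^ 6 * 1485 by norm_num,
      Nat.factorization_mul (by norm_num) (by norm_num), Finsupp.add_apply,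
      Nat.Prime.factorization_pow Nat.prime_two, Finsupp.single_eq_same,
      Nat.factorization_eq_zero_of_not_dvd (by norm_num : ¬ 2 ∣ 1485)]
    norm_num
  obtain ⟨k, hk⟩ := MulAction.exists_smul_eq stdTwelve S (Sylow.ofCard sylStd h64)
  have hconj : ∀ x ∈ E', ∃ i, inSyl i = true ∧ el i = ((k * x * k⁻¹ : stdTwelve) : Equiv.Perm (Fin 12)) := by
    intro x hx
    have h : k * x * k⁻¹ ∈ (Sylow.ofCard sylStd h64 : Subgroup stdTwelve) := by
      rw [← hk, Sylow.coe_subgroup_smul, Subgroup.mem_smul_pointwise_iff_exists]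
      exact ⟨x, hS hx, rfl⟩
    exact h
  let D : Finset (Fin 192) := Finset.univ.filter fun i =>
    inSyl i = true ∧ i ≠ 0 ∧ ∃ x ∈ E', el i = ((k * x * k⁻¹ : stdTwelve) : Equiv.Perm (Fin 12))
  have hD : ∀ i ∈ D, i ∈ invIdx ∧ ∀ j ∈ D, cmIdx i j = true := by
    intro i hi
    obtain ⟨h1, h3, x, hx, hxe⟩ := (Finset.mem_filter.1 hi).2
    refine ⟨?_, fun j hj => ?_⟩
    · have hsq' : cMul i i = 0 := el_injective (by
        rw [el_mul, el_zero, hxe, ← coe_mul, show k * x * k⁻¹ * (k * x * k⁻¹) = k * (x * x) * k⁻¹ by group,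
          (hcm x hx x hx).2]
        simp)
      simp [invIdx, h1, h3, hsq']
    · obtain ⟨-, -, y, hy, hye⟩ := (Finset.mem_filter.1 hj).2
      refine beq_iff_eq.2 (el_injective ?_)
      rw [el_mul, el_mul, hxe, hye, ← coe_mul, ← coe_mul,
        show k * x * k⁻¹ * (k * y * k⁻¹) = k * (x * y) * k⁻¹ by group, (hcm x hx y hy).1]
      group
  have hcardD : 15 ≤ D.card := by
    choose g hg1 hg2 using fun x : E' => hconj _ x.2
    haveI := Fintype.ofFinite E'
    have hinj : Function.Injective g := fun x y e => Subtype.ext (by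
      have := hg2 x
      rw [e, hg2 y] at this
      exact (mul_left_cancel (mul_right_cancel (Subtype.ext this))).symm)
    have hsub : (Finset.univ.image g).erase 0 ⊆ D := by
      intro i hi
      obtain ⟨h0, hi⟩ := Finset.mem_erase.1 hi
      obtain ⟨x, -, rfl⟩ := Finset.mem_image.1 hi
      exact Finset.mem_filter.2 ⟨Finset.mem_univ _, hg1 x, h0, x, x.2, hg2 x⟩
    have h16 : (Finset.univ.image g).card = 16 := by
      rw [Finset.card_image_of_injective _ hinj, Finset.card_univ, ← Nat.card_eq_fintype_card, hc']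
    exact le_trans (by have := Finset.pred_card_le_card_erase (s := Finset.univ.image g) (a := 0); omega)
      (Finset.card_le_card hsub)
  have pick : ∀ l : List (Fin 192), l.length < 15 → ∃ i ∈ D, i ∉ l := fun l hl => by
    by_contra hh
    push Not at hh
    have := Finset.card_le_card (fun i hi => List.mem_toFinset.2 (hh i hi) : D ⊆ l.toFinset)
    have := List.toFinset_card_le l
    omega
  obtain ⟨a, ha, -⟩ := pick [] (by norm_num)
  obtain ⟨b, hb, hb'⟩ := pick [a] (by norm_num)
  obtain ⟨c, hc', hc''⟩ := pick [a, b, cMul a b] (by norm_num)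
  obtain ⟨d, hd, hd'⟩ := pick [a, b, c, cMul a b, cMul a c, cMul b c, cMul (cMul a b) c] (by norm_num)
  simp only [List.mem_cons, List.not_mem_nil, or_false, not_or] at hb' hc''
  have h1 := List.all_eq_true.1 span_test a (hD a ha).1
  have h2 := List.all_eq_true.1 h1 b (List.mem_filter.2 ⟨(hD b hb).1, by simp [(hD a ha).2 b hb, hb']⟩)
  have h3 := List.all_eq_true.1 h2 c (List.mem_filter.2 ⟨(hD c hc').1,
    by simp [(hD a ha).2 c hc', (hD b hb).2 c hc', hc''.1, hc''.2.1, hc''.2.2]⟩)
  have h4 := List.all_eq_true.1 h3 d (List.mem_filter.2 ⟨(hD d hd).1,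
    by simp [(hD a ha).2 d hd, (hD b hb).2 d hd, (hD c hc').2 d hd]⟩)
  exact hd' (List.mem_of_elem_eq_true h4)

end Cfsg.Lib.AltEightSyl
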