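import Cfsg.Agent.Lib.AltEightSyl.EndOne
import Cfsg.Agent.Lib.AltEightSyl.NoSixteen
import Cfsg.Prelude.Def_Classical
import Mathlib.GroupTheory.SpecificGroups.Alternating
import Mathlib.LinearAlgebra.Matrix.ProjectiveSpecialLinearGroup

/-!
# The group in the branch of order 192
-/

set_option autoImplicit false

namespace Cfsg.Lib.AltEightSyl

open Subgroup

/-- The two exceptional conclusions of the centraliser theorem do not occur without a normal
2-subgroup and with an elementary abelian subgroup of order sixteen. -/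
theorem alt_of_conclusion {G : Type*} [Group G] [Finite G] (hcore2 : Cfsg.pCore 2 G = ⊥) (E : Subgroup G)
    (hc : Nat.card E = 16) (hcomm : IsMulCommutative E) (hsq : ∀ x ∈ E, x ^ 2 = 1)
    (h : (∃ (N : Subgroup G) (hN : N.Normal), IsMulCommutative N ∧ (∀ n ∈ N, n ^ 2 = 1) ∧ Nat.card N = 8 ∧
        Nonempty (G ⧸ N ≃* Matrix.ProjectiveSpecialLinearGroup (Fin 3) (ZMod 2))) ∨
      Nonempty (G ≃* alternatingGroup (Fin 8)) ∨ Nonempty (G ≃* alternatingGroup (Fin 9)) ∨ Cfsg.Spor.IsoM12 G) :
    Nonempty (G ≃* alternatingGroup (Fin 8)) ∨ Nonempty (G ≃* alternatingGroup (Fin 9)) := by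
  rcases h with ⟨N, hN, -, -, h8, -⟩ | h | h | h
  · have hle : N ≤ Cfsg.pCore 2 G := le_sSup ⟨hN, IsPGroup.of_card (n := 3) (by rw [h8]; norm_num)⟩
    rw [hcore2, le_bot_iff] at hle
    rw [hle, card_bot] at h8
    norm_num at h8
  · exact Or.inl h
  · exact Or.inr h
  · exact (no_sixteen h E hc hcomm hsq).elim

end Cfsg.Lib.AltEightSyl
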