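import Cfsg.Agent.Lib.AltEightSyl.Wreath
import Cfsg.Agent.Lib.UFourTwo.Loc
import Cfsg.Agent.Lib.UFourTwo.Codes
import Mathlib.GroupTheory.Sylow

/-!
# The branch with an involution centraliser of order 576
-/

set_option autoImplicit false
set_option maxRecDepth 10000
set_option linter.style.haveILetI false

namespace Cfsg.Lib.AltEightSyl

open Subgroup Quat
open Cfsg.Lib.UFourThreeLocal (sMul qTab aTab canon canon_eq okP okP_bounds pMul pAct pSwap mulH sMul_lt)

namespace Wreath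

variable {G : Type*} [Group G] {t : G} (W : Wreath t)

theorem act_surj {c : G} (h : W.Fix c) : Function.Surjective (W.act h) :=
  Finite.injective_iff_surjective.1 fun x y e => W.ι_inj (by
    have := congrArg W.ι e
    rw [W.ι_act, W.ι_act] at this
    exact mul_left_cancel (mul_right_cancel this))

theorem exists_coord [Finite G] {c : G} (h : W.Fix c) (h9 : c ^ 9 = 1) (hne : ∃ p, W.act h p ≠ p) :
    ∃ r i j, (r = c ∨ r = c * c) ∧ i * j ≠ j * i ∧ ∀ k < 3, ∀ n < 8, aTab.getD (8 * k + n) 0 < 8 ∧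
      W.ι (unit i j (aTab.getD (8 * k + n) 0)) = r ^ k * W.ι (unit i j n) * (r ^ k)⁻¹ := by
  have hg : good (W.act h (QuaternionGroup.a 1), W.act h (QuaternionGroup.xa 0)) = true :=
    good_of (W.cube_act h h9)
  have hne' : ∃ x, F (W.act h (QuaternionGroup.a 1), W.act h (QuaternionGroup.xa 0)) x ≠ x := by
    rw [← eq_F]; exact hne
  obtain ⟨i, hi, hc⟩ := coord _ hg hne'
  rcases hc with hc | hc
  · refine ⟨c, i, _, Or.inl rfl, hi, fun k hk n hn => ?_⟩
    obtain ⟨h1, h2⟩ := unit_act _ hg i hi hc k hk n hn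
    exact ⟨h1, by rw [h2, ← eq_F, W.ι_act_iter h]⟩
  · obtain ⟨hi', hc'⟩ := coord_swap _ hg i hi hc
    have h2 : W.Fix (c * c) := Fix.mul W h h
    have e : ∀ p, W.act h2 p = W.act h (W.act h p) := fun p => W.ι_inj (by
      rw [W.ι_act, W.ι_act, W.ι_act]; group)
    have e' : F (W.act h2 (QuaternionGroup.a 1), W.act h2 (QuaternionGroup.xa 0)) = fun p =>
        F (W.act h (QuaternionGroup.a 1), W.act h (QuaternionGroup.xa 0))
          (F (W.act h (QuaternionGroup.a 1), W.act h (QuaternionGroup.xa 0)) p) := by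
      rw [← eq_F, ← eq_F]; exact funext e
    have hg2 : good (W.act h2 (QuaternionGroup.a 1), W.act h2 (QuaternionGroup.xa 0)) = true :=
      good_of (fun p => by rw [e, e, e, W.cube_act h h9, W.cube_act h h9])
    have e1 := congrFun e' i
    refine ⟨c * c, i, F (W.act h2 (QuaternionGroup.a 1), W.act h2 (QuaternionGroup.xa 0)) i, Or.inr rfl,
      by rw [e1]; exact hi', fun k hk n hn => ?_⟩
    obtain ⟨h1, h2'⟩ := unit_act _ hg2 i (by rw [e1]; exact hi') (by rw [e']; exact hc') k hk n hn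
    exact ⟨h1, by rw [h2', ← eq_F, W.ι_act_iter h2]⟩

/-- An element of order three of the centraliser acting on the first factor alone. -/
theorem exists_one_sided [Finite G] (hcard : Nat.card (centralizer ({t} : Set G)) = 576) :
    ∃ r : G, r ∈ centralizer ({t} : Set G) ∧ r ^ 3 = 1 ∧ r ≠ 1 ∧ ∀ p, Commute r (W.ι₂ p) := by
  haveI : Fact (Nat.Prime 3) := ⟨Nat.prime_three⟩
  obtain ⟨K, hK⟩ := Sylow.exists_subgroup_card_pow_prime (G := centralizer ({t} : Set G)) 3 (n := 2)
    (by rw [hcard]; norm_num)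
  have h9 : ∀ x : K, ((x : centralizer ({t} : Set G)) : G) ^ 9 = 1 := fun x => by
    have := pow_card_eq_one' (x := x)
    rw [hK] at this
    exact_mod_cast congrArg (fun y : K => ((y : centralizer ({t} : Set G)) : G)) this
  have hodd : ∀ {c : G}, c ^ 9 = 1 → Odd (orderOf c) := fun h =>
    Odd.of_dvd_nat (by decide : Odd 9) (orderOf_dvd_of_pow_eq_one h)
  have h3 : ∀ x : K, ((x : centralizer ({t} : Set G)) : G) ^ 3 = 1 := by
    intro x
    set c : G := ((x : centralizer ({t} : Set G)) : G)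
    have hc : c ∈ centralizer ({t} : Set G) := (x : centralizer ({t} : Set G)).2
    have key : ∀ d ∈ centralizer ({t} : Set G), d ^ 9 = 1 → ∀ p, Commute (d ^ 3) (W.ι p) := fun d hd hd9 p => by
      have hf := W.fix_of_odd hd (hodd hd9)
      refine mul_inv_eq_iff_eq_mul.1 ?_
      rw [← W.ι_act_iter hf p 3]
      exact congrArg W.ι (W.cube_act hf hd9 p)
    refine W.eq_one_of_odd (pow_mem hc 3) (Odd.of_dvd_nat (by decide : Odd 3) (orderOf_dvd_of_pow_eq_one ?_))
      (key c hc (h9 x)) fun p => ?_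
    · rw [← pow_mul]; exact h9 x
    · rw [← W.comm_swap_iff, ← conj_pow]
      exact key _ (W.swap_mem hc) (by rw [conj_pow, h9 x]; group) p
  haveI : IsMulCommutative K := IsPGroup.isMulCommutative_of_card_eq_prime_sq hK
  have hfix : ∀ x : K, W.Fix (W.s * ((x : centralizer ({t} : Set G)) : G) * W.s⁻¹) := fun x =>
    W.fix_of_odd (W.swap_mem (x : centralizer ({t} : Set G)).2) (by rw [W.orderOf_swap]; exact hodd (h9 x))
  have hcube : ∀ x : K, ∀ p, W.act (hfix x) (W.act (hfix x) (W.act (hfix x) p)) = p := fun x =>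
    W.cube_act (hfix x) (by rw [conj_pow, h9 x]; group)
  -- a kernel element of the action on the second factor
  suffices ∃ x : K, x ≠ 1 ∧ ∀ p, W.act (hfix x) p = p by
    obtain ⟨x, hx, hid⟩ := this
    refine ⟨_, (x : centralizer ({t} : Set G)).2, h3 x, fun h => hx (Subtype.ext (Subtype.ext h)), fun p => ?_⟩
    exact (W.comm_swap_iff p).1 (W.comm_of_act (hfix x) hid p)
  haveI : Nontrivial K := Finite.one_lt_card_iff_nontrivial.1 (by rw [hK]; norm_num)
  obtain ⟨x, hx⟩ := exists_ne (1 : K)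
  obtain ⟨y, hy⟩ : ∃ y : K, y ∉ zpowers x := by
    by_contra hh
    push Not at hh
    have h := Nat.card_zpowers x
    rw [(eq_top_iff' _).2 hh, card_top, hK] at h
    have h' : orderOf x ∣ 3 := orderOf_dvd_of_pow_eq_one (Subtype.ext (Subtype.ext (by exact_mod_cast h3 x)))
    have := Nat.le_of_dvd (by norm_num) h'
    omega
  by_cases hid : ∀ p, W.act (hfix x) p = p
  · exact ⟨x, hx, hid⟩
  push Not at hid
  have hcm : ∀ p, W.act (hfix x) (W.act (hfix y) p) = W.act (hfix y) (W.act (hfix x) p) := fun p => W.ι_inj (by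
    have e : ((x : centralizer ({t} : Set G)) : G) * ((y : centralizer ({t} : Set G)) : G) =
        ((y : centralizer ({t} : Set G)) : G) * ((x : centralizer ({t} : Set G)) : G) :=
      congrArg (fun k : K => ((k : centralizer ({t} : Set G)) : G)) (mul_comm' x y)
    simp only [W.ι_act]
    calc _ = W.s * (((x : centralizer ({t} : Set G)) : G) * ((y : centralizer ({t} : Set G)) : G)) * W.s⁻¹ * W.ι p *
          (W.s * (((x : centralizer ({t} : Set G)) : G) * ((y : centralizer ({t} : Set G)) : G)) * W.s⁻¹)⁻¹ := by group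
      _ = _ := by rw [e]; group)
  have h2 : ∀ (u : K), (∀ p, W.act (hfix y) p = W.act (hfix u) p) → u ∈ zpowers x →
      ∃ x : K, x ≠ 1 ∧ ∀ p, W.act (hfix x) p = p := by
    intro u hu hum
    refine ⟨u⁻¹ * y, fun h => hy ((inv_mul_eq_one.1 h) ▸ hum), fun p => W.ι_inj ?_⟩
    rw [W.ι_act]
    have := congrArg W.ι (hu p)
    rw [W.ι_act, W.ι_act] at this
    simp only [coe_mul, coe_inv]
    calc _ = (W.s * ((u : centralizer ({t} : Set G)) : G) * W.s⁻¹)⁻¹ *
          (W.s * ((y : centralizer ({t} : Set G)) : G) * W.s⁻¹ * W.ι p *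
            (W.s * ((y : centralizer ({t} : Set G)) : G) * W.s⁻¹)⁻¹) *
          (W.s * ((u : centralizer ({t} : Set G)) : G) * W.s⁻¹) := by group
      _ = _ := by rw [this]; group
  have hgx := good_of (hcube x)
  have hgy := good_of (hcube y)
  have hne : ∃ p, F (W.act (hfix x) (QuaternionGroup.a 1), W.act (hfix x) (QuaternionGroup.xa 0)) p ≠ p := by
    rw [← eq_F]; exact hid
  have := two_gen _ hgx hne _ hgy (by rw [← eq_F, ← eq_F]; exact hcm)
  rw [← eq_F, ← eq_F] at this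
  rcases this with h | h | h
  · exact ⟨y, fun e => hy (e ▸ one_mem _), h⟩
  · exact h2 x h (mem_zpowers x)
  · refine h2 (x * x) (fun p => (h p).trans (W.ι_inj ?_)) (mul_mem (mem_zpowers x) (mem_zpowers x))
    simp only [W.ι_act, coe_mul]
    group

/-- The data of the components of the centraliser. -/
structure Sides where
  /-- The first component. -/
  u : ℕ → G
  cent : ∀ {a : ℕ}, a < 24 → u a ∈ centralizer ({t} : Set G)
  mul : ∀ {a b : ℕ}, a < 24 → b < 24 → u (sMul a b) = u a * u b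
  zero : u 0 = 1
  four : u 4 = t
  inj : ∀ {a b : ℕ}, a < 24 → b < 24 → u a = u b → a = b
  fix : ∀ {a : ℕ}, a < 24 → W.Fix (u a)
  surj : ∀ p, ∃ n < 24, u n = W.ι p
  comm : ∀ {a b : ℕ}, a < 24 → b < 24 → Commute (u a) (W.s * u b * W.s⁻¹)

theorem exists_sides [Finite G] (hcard : Nat.card (centralizer ({t} : Set G)) = 576) : Nonempty W.Sides := by
  obtain ⟨c, hcC, hc3, hc1, hcc⟩ := W.exists_one_sided hcard
  have hc9 : c ^ 9 = 1 := by rw [show 9 = 3 * 3 from rfl, pow_mul, hc3, one_pow]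
  have hco : Odd (orderOf c) := Odd.of_dvd_nat (by decide : Odd 9) (orderOf_dvd_of_pow_eq_one hc9)
  have hfc := W.fix_of_odd hcC hco
  have hne : ∃ p, W.act hfc p ≠ p := by
    by_contra hh
    push Not at hh
    exact hc1 (W.eq_one_of_odd hcC hco (W.comm_of_act hfc hh) hcc)
  obtain ⟨r, i, j, hr, hij, hact⟩ := W.exists_coord hfc hc9 hne
  obtain ⟨hrC, hr3, hr1, hrc, hfr⟩ : r ∈ centralizer ({t} : Set G) ∧ r ^ 3 = 1 ∧ r ≠ 1 ∧
      (∀ p, Commute r (W.ι₂ p)) ∧ W.Fix r := by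
    rcases hr with rfl | rfl
    · exact ⟨hcC, hc3, hc1, hcc, hfc⟩
    · refine ⟨mul_mem hcC hcC, by rw [← sq, ← pow_mul, show 2 * 3 = 3 * 2 from rfl, pow_mul, hc3, one_pow],
        fun h => hc1 ?_, fun p => (hcc p).mul_left (hcc p), Fix.mul W hfc hfc⟩
      have := hc3; rw [pow_succ, sq, h, one_mul] at this; exact this
  obtain ⟨htab, hUinj, hUsurj⟩ := unit_table i j hij
  have hpow : ∀ k, r ^ k = r ^ (k % 3) := fun k => pow_eq_pow_mod k hr3
  have hro : orderOf r = 3 := orderOf_eq_prime (hp := ⟨Nat.prime_three⟩) hr3 hr1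
  let u : ℕ → G := fun n => W.ι (unit i j (n % 8)) * r ^ (n / 8)
  have hmul : ∀ {a b : ℕ}, a < 24 → b < 24 → u (sMul a b) = u a * u b := by
    intro a b ha hb
    obtain ⟨hl, he⟩ := hact (a / 8) (by omega) (b % 8) (Nat.mod_lt _ (by norm_num))
    obtain ⟨hl', he'⟩ := htab (a % 8) (Nat.mod_lt _ (by norm_num)) _ hl
    have e1 : sMul a b % 8 = qTab.getD ((a % 8) * 8 + aTab.getD (8 * (a / 8) + b % 8) 0) 0 := by
      rw [sMul]; omega
    have e2 : sMul a b / 8 = (a / 8 + b / 8) % 3 := by rw [sMul]; omega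
    show W.ι _ * _ = W.ι _ * _ * (W.ι _ * _)
    rw [e1, e2, he', map_mul, he, ← hpow, pow_add]
    group
  have hr2 : ∀ p, Commute (W.s * r * W.s⁻¹) (W.ι p) := fun p => (W.comm_swap_iff p).2 (hrc p)
  have hrr : Commute r (W.s * r * W.s⁻¹) := by
    set r2 := W.s * r * W.s⁻¹ with hr2def
    have hfr2 : W.Fix r2 := fun p => by rw [(hr2 p).mul_inv_cancel]; exact W.ι_mem p
    have hd1 : ∀ p, Commute (r * r2 * r⁻¹ * r2⁻¹) (W.ι p) := by
      intro p
      refine Commute.mul_left ?_ (hr2 p).inv_left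
      obtain ⟨q, hq⟩ := W.act_surj hfr p
      rw [← hq, W.ι_act, Commute.conj_iff]
      exact hr2 q
    have hd2 : ∀ p, Commute (r * r2 * r⁻¹ * r2⁻¹) (W.ι₂ p) := by
      intro p
      obtain ⟨q, hq⟩ := W.ι_surj (hfr p)
      have hcr : Commute r (W.s * W.ι q * W.s⁻¹) := hrc q
      refine mul_inv_eq_iff_eq_mul.1 ?_
      have e : ∀ p', r2 * W.ι₂ p' * r2⁻¹ = W.s * (r * W.ι p' * r⁻¹) * W.s⁻¹ := fun p' => by
        rw [hr2def, ι₂_apply]; group
      obtain ⟨p', hp'⟩ : ∃ p', r2 * W.ι₂ p' * r2⁻¹ = W.ι₂ p := by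
        obtain ⟨p', hp'⟩ := W.act_surj hfr p
        exact ⟨p', by rw [e, ← W.ι_act hfr, hp', ι₂_apply]⟩
      calc r * r2 * r⁻¹ * r2⁻¹ * W.ι₂ p * (r * r2 * r⁻¹ * r2⁻¹)⁻¹
          = r * (r2 * (r⁻¹ * (r2⁻¹ * W.ι₂ p * r2) * r) * r2⁻¹) * r⁻¹ := by group
        _ = r * (r2 * (r⁻¹ * W.ι₂ p' * r) * r2⁻¹) * r⁻¹ := by rw [← hp']; group
        _ = W.ι₂ p := by rw [(hrc p').inv_left.eq, inv_mul_cancel_right, hp', (hrc p).mul_inv_cancel]
    have hmem : r * r2 * r⁻¹ * r2⁻¹ ∈ centralizer ({t} : Set G) :=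
      mul_mem (mul_mem (mul_mem hrC (W.swap_mem hrC)) (inv_mem hrC)) (inv_mem (W.swap_mem hrC))
    rcases W.central_cases hmem hd1 hd2 with h | h
    · exact commutatorElement_eq_one_iff_commute.1 h
    · exfalso
      have e : r * r2 * r⁻¹ = t * r2 := by rw [← h]; group
      have h3 := congrArg (· ^ 3) e
      simp only [conj_pow] at h3
      have hct : Commute t r2 := (mem_centralizer_singleton_iff.1 (W.swap_mem hrC)).symm
      rw [hct.mul_pow,
        hr2def, conj_pow, hr3, pow_succ, sq, W.t_sq] at h3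
      simp at h3
      exact W.t_ne h3.symm
  refine ⟨⟨u, fun {a} ha => mul_mem (W.ι_cent _) (pow_mem hrC _), hmul, ?_, ?_, ?_, fun {a} ha => ?_,
    fun p => ?_, ?_⟩⟩
  · simp [u, unit]
  · simp [u, unit, W.ι_z]
  · intro a b ha hb h
    have hk : a / 8 = b / 8 := by
      by_contra hne'
      have hq : ∀ m, m % 3 ≠ 0 → r ^ m ∉ W.Q1 := fun m hm hmem => by
        obtain ⟨p, hp⟩ := W.ι_surj hmem
        have h3 : ∀ p : Q8, p * p * p = 1 → p = 1 := by decide +kernel
        have := h3 p (W.ι_inj (by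
          rw [map_mul, map_mul, hp, map_one, ← pow_add, ← pow_add, show m + m + m = 3 * m by ring, pow_mul, hr3,
            one_pow]))
        rw [this, map_one] at hp
        exact hm (Nat.mod_eq_zero_of_dvd (hro ▸ orderOf_dvd_of_pow_eq_one hp.symm) )
      have h' : (W.ι (unit i j (b % 8)))⁻¹ * W.ι (unit i j (a % 8)) = r ^ (b / 8) * (r ^ (a / 8))⁻¹ :=
        inv_mul_eq_iff_eq_mul.2 (by
          rw [← mul_assoc]
          exact eq_mul_inv_of_mul_eq h)
      have h3a : (r ^ (a / 8))⁻¹ = r ^ (3 - a / 8) := inv_eq_of_mul_eq_one_right (by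
        rw [← pow_add, show a / 8 + (3 - a / 8) = 3 by omega, hr3])
      rw [h3a, ← pow_add] at h'
      exact hq _ (by omega) (h' ▸ mul_mem (inv_mem (W.ι_mem _)) (W.ι_mem _))
    have h8 : a % 8 = b % 8 := hUinj _ (Nat.mod_lt _ (by norm_num)) _ (Nat.mod_lt _ (by norm_num))
      (W.ι_inj (by
        simp only [u, hk] at h
        exact mul_right_cancel h))
    omega
  · refine Fix.mul W ?_ (Fix.pow W hfr _)
    intro p
    exact mul_mem (mul_mem (W.ι_mem _) (W.ι_mem p)) (inv_mem (W.ι_mem _))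
  · obtain ⟨n, hn, rfl⟩ := hUsurj p
    refine ⟨n, by omega, ?_⟩
    simp only [u]
    rw [Nat.mod_eq_of_lt hn, Nat.div_eq_of_lt hn, pow_zero, mul_one]
  · intro a b ha hb
    have e : W.s * u b * W.s⁻¹ = W.ι₂ (unit i j (b % 8)) * (W.s * r * W.s⁻¹) ^ (b / 8) := by
      rw [conj_pow, ι₂_apply]; simp only [u]; group
    rw [e]
    exact ((W.comm_ι _ _).mul_right ((hr2 _).symm.pow_right _)).mul_left
      ((((hrc _).pow_left _).mul_right (hrr.pow_pow _ _)))

namespace Sides

variable {W} (S : W.Sides)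

/-- The second component. -/
def v (n : ℕ) : G := W.s * S.u n * W.s⁻¹

theorem v_mul {a b : ℕ} (ha : a < 24) (hb : b < 24) : S.v (sMul a b) = S.v a * S.v b := by
  rw [v, v, v, S.mul ha hb]; group

theorem v_four : S.v 4 = t := by rw [v, S.four, W.hst, mul_inv_cancel_right]

theorem v_zero : S.v 0 = 1 := by rw [v, S.zero]; group

theorem neg {p q : ℕ} (hp : p < 24) (hq : q < 24) : S.u (sMul p 4) * S.v (sMul q 4) = S.u p * S.v q := by
  rw [S.mul hp (by norm_num), S.v_mul hq (by norm_num), S.four, S.v_four]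
  have h : Commute t (S.v q) := by
    have := S.comm (show 4 < 24 by norm_num) hq
    rwa [S.four] at this
  calc S.u p * t * (S.v q * t) = S.u p * (t * S.v q) * t := by group
    _ = S.u p * S.v q * (t * t) := by rw [h.eq]; group
    _ = _ := by rw [W.t_sq, mul_one]

/-- The element of a pair. -/
def phi (x : ℕ) : G := S.u (x / 24) * S.v (x % 24)

theorem phi_canon {p q : ℕ} (hp : p < 24) (hq : q < 24) : S.phi (canon p q) = S.u p * S.v q := by
  obtain ⟨-, ⟨h1, h2⟩ | ⟨h1, h2⟩⟩ := canon_eq hp hq <;> rw [phi, h1, h2]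
  exact S.neg hp hq

theorem phi_mul {x y : ℕ} (hx : okP x = true) (hy : okP y = true) :
    S.phi (pMul x y) = S.phi x * S.phi y := by
  obtain ⟨-, h1, h2, -⟩ := okP_bounds hx
  obtain ⟨-, h3, h4, -⟩ := okP_bounds hy
  rw [pMul, S.phi_canon (sMul_lt h1 h3) (sMul_lt h2 h4), S.mul h1 h3, S.v_mul h2 h4, phi, phi]
  have hc : Commute (S.u (y / 24)) (S.v (x % 24)) := S.comm h3 h2
  calc S.u (x / 24) * S.u (y / 24) * (S.v (x % 24) * S.v (y % 24))
      = S.u (x / 24) * (S.u (y / 24) * S.v (x % 24)) * S.v (y % 24) := by group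
    _ = _ := by rw [hc.eq]; group

theorem phi_inj {x y : ℕ} (hx : okP x = true) (hy : okP y = true) (h : S.phi x = S.phi y) : x = y := by
  obtain ⟨-, h1, h2, h5⟩ := okP_bounds hx
  obtain ⟨-, h3, h4, h6⟩ := okP_bounds hy
  obtain ⟨a, ha, hax⟩ : ∃ a < 24, sMul a (x / 24) = y / 24 := by
    have : ∀ p < 24, ∀ q < 24, ∃ a < 24, sMul a p = q := by decide +kernel
    exact this _ h1 _ h3
  obtain ⟨b, hb, hbx⟩ : ∃ b < 24, sMul b (x % 24) = y % 24 := by
    have : ∀ p < 24, ∀ q < 24, ∃ a < 24, sMul a p = q := by decide +kernel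
    exact this _ h2 _ h4
  have e : S.u a * S.v b = 1 := by
    rw [phi, phi, ← hax, ← hbx, S.mul ha h1, S.v_mul hb h2] at h
    have hc : Commute (S.u (x / 24)) (S.v b) := S.comm h1 hb
    rw [show S.u a * S.u (x / 24) * (S.v b * S.v (x % 24)) = S.u a * (S.u (x / 24) * S.v b) * S.v (x % 24) by group,
      hc.eq, show S.u a * (S.v b * S.u (x / 24)) * S.v (x % 24) = S.u a * S.v b * (S.u (x / 24) * S.v (x % 24)) by group,
      right_eq_mul] at h
    exact h
  have hcen : ∀ c < 24, sMul a c = sMul c a := fun c hc => S.inj (sMul_lt ha hc) (sMul_lt hc ha) (by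
    rw [S.mul ha hc, S.mul hc ha, eq_inv_of_mul_eq_one_left e]
    exact ((show Commute (S.u c) (S.v b) from S.comm hc hb).inv_right).eq.symm)
  have key : ∀ a < 24, (∀ c < 24, sMul a c = sMul c a) → a = 0 ∨ a = 4 := by decide +kernel
  have k0 : ∀ p < 24, sMul 0 p = p ∧ sMul 4 p % 8 = (p % 8 + 4) % 8 := by decide +kernel
  rcases key a ha hcen with rfl | rfl
  · have : b = 0 := S.inj hb (by norm_num) (by
      rw [S.zero, one_mul, v] at e
      rw [S.zero]
      exact mul_left_cancel (mul_right_cancel (e.trans (by group : (1 : G) = W.s * 1 * W.s⁻¹))))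
    subst this
    rw [(k0 _ h1).1] at hax
    rw [(k0 _ h2).1] at hbx
    omega
  · rw [← hax] at h6
    have := (k0 _ h1).2
    omega

/-- The element of a code. -/
def psi (h : ℕ) : G := S.phi (h % 576) * W.s ^ (h / 576)

theorem swap_phi {x : ℕ} (hx : okP x = true) : W.s * S.phi x * W.s⁻¹ = S.phi (pSwap x) ∧ okP (pSwap x) = true := by
  obtain ⟨-, h1, h2, -⟩ := okP_bounds hx
  refine ⟨?_, (canon_eq h2 h1).1⟩
  rw [pSwap, S.phi_canon h2 h1]
  have e : W.s * S.v (x % 24) * W.s⁻¹ = S.u (x % 24) := by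
    rw [v, show W.s * (W.s * S.u (x % 24) * W.s⁻¹) * W.s⁻¹ = W.s * W.s * S.u (x % 24) * (W.s * W.s)⁻¹ by group,
      W.s_sq, one_mul, inv_one, mul_one]
  have hc : Commute (S.u (x % 24)) (S.v (x / 24)) := S.comm h2 h1
  rw [phi, show W.s * (S.u (x / 24) * S.v (x % 24)) * W.s⁻¹ =
    W.s * S.u (x / 24) * W.s⁻¹ * (W.s * S.v (x % 24) * W.s⁻¹) by group, e, hc.eq, v]

theorem psi_mul {a b : ℕ} (ha : Cfsg.Lib.UFourTwo.okX a = true) (hb : Cfsg.Lib.UFourTwo.okX b = true) :
    S.psi (mulH a b) = S.psi a * S.psi b := by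
  obtain ⟨ta, pa⟩ := Cfsg.Lib.UFourTwo.okX_part ha
  obtain ⟨tb, pb⟩ := Cfsg.Lib.UFourTwo.okX_part hb
  obtain ⟨hok, he⟩ := Cfsg.Lib.UFourTwo.mul_parts ha hb
  have hlt := (okP_bounds hok).1
  rw [psi, psi, psi, show mulH a b % 576 = pMul (a % 576) (pAct (a / 576) (b % 576)) by omega,
    show mulH a b / 576 = (a / 576 + b / 576) % 2 by omega, ← pow_eq_pow_mod _ (by rw [sq]; exact W.s_sq)]
  interval_cases h : a / 576
  · rw [show pAct 0 (b % 576) = b % 576 from rfl, S.phi_mul pa pb, pow_zero, mul_one, zero_add]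
    group
  · rw [show pAct 1 (b % 576) = pSwap (b % 576) from rfl, S.phi_mul pa (S.swap_phi pb).2, ← (S.swap_phi pb).1,
      pow_one, pow_add, pow_one]
    group

theorem fix_phi {x : ℕ} (hx : okP x = true) : W.Fix (S.phi x) := by
  obtain ⟨-, h1, h2, -⟩ := okP_bounds hx
  refine Fix.mul W (S.fix h1) fun p => ?_
  obtain ⟨n, hn, he⟩ := S.surj p
  have hc : Commute (S.u n) (S.v (x % 24)) := S.comm hn h2
  rw [← he, hc.symm.mul_inv_cancel, he]
  exact W.ι_mem p

theorem psi_inj {a b : ℕ} (ha : Cfsg.Lib.UFourTwo.okX a = true) (hb : Cfsg.Lib.UFourTwo.okX b = true)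
    (h : S.psi a = S.psi b) : a = b := by
  obtain ⟨ta, pa⟩ := Cfsg.Lib.UFourTwo.okX_part ha
  obtain ⟨tb, pb⟩ := Cfsg.Lib.UFourTwo.okX_part hb
  have hns : ¬ W.Fix W.s := fun hf => by
    rcases W.mem_inf_cases (hf (QuaternionGroup.a 1)) (W.ι₂_mem _) with h0 | h0
    · exact absurd (W.ι₂_inj (h0.trans (map_one _).symm)) (by decide)
    · exact absurd (W.ι₂_inj (h0.trans W.ι₂_z.symm)) (by decide)
  have key : ∀ x y, okP x = true → okP y = true → S.phi x ≠ S.phi y * W.s := fun x y hx hy he => hns fun p => by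
    obtain ⟨q, hq⟩ := W.ι_surj (S.fix_phi hx p)
    obtain ⟨p', hp'⟩ := W.act_surj (S.fix_phi hy) q
    rw [← hp', W.ι_act, he] at hq
    have e : W.ι p' = W.s * W.ι p * W.s⁻¹ := by
      refine mul_left_cancel (mul_right_cancel (hq.trans ?_))
      group
    rw [← e]; exact W.ι_mem p'
  rw [psi, psi] at h
  have e : a / 576 = b / 576 := by
    interval_cases h1 : a / 576 <;> interval_cases h2 : b / 576 <;> try rfl
    · rw [pow_zero, mul_one, pow_one] at h; exact absurd h (key _ _ pa pb)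
    · rw [pow_zero, mul_one, pow_one] at h; exact absurd h.symm (key _ _ pb pa)
  rw [e] at h
  have := S.phi_inj pa pb (mul_right_cancel h)
  omega

end Sides

include W in
/-- The coordinates of the centraliser. -/
theorem nonempty_loc [Finite G] (hcard : Nat.card (centralizer ({t} : Set G)) = 576) :
    Nonempty (Cfsg.Lib.UFourTwo.Loc t) := by
  classical
  obtain ⟨S⟩ := W.exists_sides hcard
  have hcent : ∀ {a : ℕ}, Cfsg.Lib.UFourTwo.okX a = true → S.psi a ∈ centralizer ({t} : Set G) := fun {a} ha => by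
    obtain ⟨-, h1, h2, -⟩ := okP_bounds (Cfsg.Lib.UFourTwo.okX_part ha).2
    exact mul_mem (mul_mem (S.cent h1) (W.swap_mem (S.cent h2))) (pow_mem W.s_mem _)
  refine ⟨⟨S.psi, Cfsg.Lib.UFourTwo.mul_ok, S.psi_mul, S.psi_inj,
    fun ha => mem_centralizer_singleton_iff.1 (hcent ha), fun {c} hc => ?_, ?_⟩⟩
  · let f : {n : ℕ // n ∈ Cfsg.Lib.UFourTwo.eltsX.toFinset} → centralizer ({t} : Set G) := fun n =>
      ⟨S.psi n, hcent (Cfsg.Lib.UFourTwo.mem_eltsX.1 (List.mem_toFinset.1 n.2))⟩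
    have hf : Function.Bijective f := by
      refine (Nat.bijective_iff_injective_and_card f).2 ⟨fun a b h => Subtype.ext (S.psi_inj
        (Cfsg.Lib.UFourTwo.mem_eltsX.1 (List.mem_toFinset.1 a.2))
        (Cfsg.Lib.UFourTwo.mem_eltsX.1 (List.mem_toFinset.1 b.2)) (congrArg Subtype.val h)), ?_⟩
      rw [hcard, Nat.card_eq_finsetCard]
      show Cfsg.Lib.UFourTwo.eltsX.toFinset.card = 576
      rw [List.toFinset_card_of_nodup (l := Cfsg.Lib.UFourTwo.eltsX)
        (List.Nodup.filter _ List.nodup_range)]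
      exact Cfsg.Lib.UFourTwo.length_eltsX
    obtain ⟨n, hn⟩ := hf.2 ⟨c, mem_centralizer_singleton_iff.2 hc.eq⟩
    exact ⟨n, Cfsg.Lib.UFourTwo.mem_eltsX.1 (List.mem_toFinset.1 n.2), congrArg Subtype.val hn⟩
  · rw [Sides.psi, show 4 / 576 = 0 from rfl, pow_zero, mul_one, Sides.phi, show 4 % 576 / 24 = 0 from rfl,
      show 4 % 576 % 24 = 4 from rfl, S.zero, one_mul, S.v_four]

end Wreath

end Cfsg.Lib.AltEightSyl
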