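import Cfsg.Agent.Lib.AltEightSyl.Core

/-!
# The action on the six subgroups of order four of the two quaternion factors

An element acting on the extraspecial subgroup permutes the six cyclic subgroups of order four; up to the
exchange of the two factors it rotates each factor.
-/

set_option autoImplicit false
set_option linter.style.haveILetI false
set_option linter.unusedSectionVars false
set_option maxRecDepth 100000

namespace Cfsg.Lib.AltEightSyl

open Cfsg Cfsg.Lib Subgroup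
open Cfsg.Lib.Syl34 (th th_le odd_th commute_of_mem_th cent_le_norm_th odd_of_mem_th)

universe u

/-- Representatives of the six subgroups of order four, three in each factor. -/
def pRep : Fin 6 → Fin 64 := ![27, 33, 58, 26, 43, 49]

/-- A generator of one of them. -/
def isP (i : Fin 64) : Bool := inQ i && aMul i i == 5

/-- The subgroup generated. -/
def pOf (i : Fin 64) : Fin 6 :=
  if i = 27 ∨ i = 30 then 0 else if i = 33 ∨ i = 36 then 1 else if i = 58 ∨ i = 63 then 2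
  else if i = 26 ∨ i = 31 then 3 else if i = 43 ∨ i = 46 then 4 else 5

/-- The factor. -/
def side (k : Fin 6) : Bool := decide (k.val < 3)

/-- The exchange of the factors. -/
def sig : Equiv.Perm (Fin 6) := Equiv.swap 0 3 * Equiv.swap 1 4 * Equiv.swap 2 5

/-- The rotations. -/
def rot (k : Fin 3 × Fin 3) : Equiv.Perm (Fin 6) :=
  (Equiv.swap 0 1 * Equiv.swap 1 2) ^ k.1.val * (Equiv.swap 3 4 * Equiv.swap 4 5) ^ k.2.val

/-- All rotations. -/
def rots : List (Fin 3 × Fin 3) := [(0, 0), (0, 1), (0, 2), (1, 0), (1, 1), (1, 2), (2, 0), (2, 1), (2, 2)]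

/-- The class of a product. -/
def pCls (i j : Fin 6) : Fin 64 := aCl (aMul (pRep i) (pRep j))

/-- The image of one of the classes 1, 10, 11 under a rotation. -/
def rotCls (k : Fin 3 × Fin 3) (r : Fin 64) : Fin 64 :=
  let ij : Fin 6 × Fin 6 := if r = 1 then (0, 3) else if r = 10 then (1, 4) else (2, 5)
  pCls (rot k ij.1) (rot k ij.2)

/-- The elementary abelian subgroup of order eight of 1 and 16. -/
def inEc (i : Fin 64) : Bool := [0, 1, 4, 5, 16, 17, 20, 21].contains i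

theorem pair_facts :
    (∀ k, isP (pRep k) = true ∧ pOf (pRep k) = k) ∧
    (∀ i, isP i = true → (i = pRep (pOf i) ∨ i = aMul (pRep (pOf i)) 5) ∧ pOf (aMul i 5) = pOf i ∧
      isP (aMul i 5) = true) ∧
    (∀ i j, isP i = true → isP j = true →
      ((side (pOf i) == side (pOf j)) = (pOf i == pOf j || !aCm i j)) ∧ (pOf i = pOf j → aCm i j = true)) ∧
    (∀ i, inQ i = true → aMul i i ≠ 0 → isP i = true) := by
  refine ⟨?_, ?_, ?_, ?_⟩ <;> decide +kernel

theorem perm_P : ∀ i : Fin 64, ∀ k : Fin 6,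
    pOf (aConj i (pRep k)) = if inQ i then k else sig k := by
  decide +kernel

theorem gen_facts : ∀ i : Fin 64, inQ i = true →
    i = 0 ∨ i = 5 ∨ isP i = true ∨ (aCl i = 1 ∨ aCl i = 10 ∨ aCl i = 11 ∨ aCl i = 16 ∨ aCl i = 32 ∨ aCl i = 48) := by
  decide +kernel

theorem cls_facts :
    (∀ i : Fin 64, (aCl i = 1 ∨ aCl i = 10 ∨ aCl i = 11 ∨ aCl i = 16 ∨ aCl i = 32 ∨ aCl i = 48) →
      (List.finRange 64).any (fun a => isP a && side (pOf a) &&
        (List.finRange 64).any fun b => isP b && !side (pOf b) && aMul a b == i) = true) ∧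
    (∀ a b : Fin 64, isP a = true → isP b = true → side (pOf a) ≠ side (pOf b) →
      aCl (aMul a b) = pCls (pOf a) (pOf b) ∧
      (aCl (aMul a b) = 1 ∨ aCl (aMul a b) = 10 ∨ aCl (aMul a b) = 11 →
        rots.all (fun k => rotCls k (aCl (aMul a b)) == pCls (rot k (pOf a)) (rot k (pOf b))) = true)) := by
  refine ⟨?_, ?_⟩ <;> decide +kernel

theorem ec_cert : ∀ a b : Fin 64, isP a = true → side (pOf a) = true → isP b = true → side (pOf b) = false →
    (inEc (aMul a b) = true ↔ ([(0, 3), (1, 5), (2, 4)] : List (Fin 6 × Fin 6)).contains (pOf a, pOf b) = true) := by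
  decide +kernel

theorem ec_pairs : ∀ k : Fin 3 × Fin 3, k.1 + k.2 = 0 → ∀ i j : Fin 6,
    ([(0, 3), (1, 5), (2, 4)] : List (Fin 6 × Fin 6)).contains (i, j) = true →
    ([(0, 3), (1, 5), (2, 4)] : List (Fin 6 × Fin 6)).contains (rot k i, rot k j) = true := by
  decide +kernel

theorem ec_facts : inEc 0 = true ∧ (∀ i j, inEc i = true → inEc j = true → inEc (aMul i j) = true) ∧
    (∀ i, inEc i = true → inEc (aInv i) = true) ∧ ((List.finRange 64).filter inEc).length = 8 ∧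
    (∀ i, inEc i = true → aMul i i = 0 ∧ inQ i = true ∧ (i = 0 ∨ i = 5 ∨ aCl i = 1 ∨ aCl i = 16)) := by
  refine ⟨?_, ?_, ?_, ?_, ?_⟩ <;> decide +kernel

theorem rot_facts :
    (∀ k : Fin 3 × Fin 3, k ∈ rots) ∧
    (∀ k l : Fin 3 × Fin 3, rot k * rot l = rot (k.1 + l.1, k.2 + l.2) ∧ (rot k = rot l → k = l)) ∧
    (∀ k : Fin 3 × Fin 3, sig * rot k * sig = rot (k.2, k.1) ∧ (∀ i, side (rot k i) = side i) ∧
      rot (0, 0) = 1) ∧
    (∀ i, side (sig i) = !side i) ∧ sig * sig = 1 := by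
  refine ⟨?_, ?_, ?_, ?_, ?_⟩ <;> decide +kernel

/-- Respecting the factors. -/
def presB (σ : Equiv.Perm (Fin 6)) : Bool :=
  (List.finRange 6).all fun i => (List.finRange 6).all fun j => (side (σ i) == side (σ j)) == (side i == side j)

theorem perm_cert : ∀ σ : Equiv.Perm (Fin 6), presB σ = true →
    σ ^ 12 = 1 ∧ (σ ^ 3 = 1 → rots.any (fun k => σ == rot k) = true) ∧
      (∀ i, side (σ (sig i)) = !side (σ i)) := by
  decide +kernel

theorem antidiag_facts :
    rotCls (1, 2) 1 = 16 ∧ rotCls (1, 2) 10 = 32 ∧ rotCls (1, 2) 11 = 48 ∧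
    rotCls (1, 1) 1 = 10 ∧ rotCls (2, 2) 1 = 11 ∧
    (∀ k : Fin 3 × Fin 3, ∀ r : Fin 64, (r = 1 ∨ r = 10 ∨ r = 11) → rotCls k r = 16 → k.1 ≠ k.2) ∧
    (∀ k : Fin 3 × Fin 3, rotCls k 1 = 10 → k = (1, 1)) ∧
    (∀ k : Fin 3 × Fin 3, k.1 + k.2 = 0 → ∀ r : Fin 64, (r = 1 ∨ r = 10 ∨ r = 11) → rotCls k r = r → k = (0, 0)) := by
  refine ⟨?_, ?_, ?_, ?_, ?_, ?_, ?_, ?_⟩ <;> decide +kernel

namespace Frame

variable {G : Type u} [Group G] (F : Frame G)

/-- The elements acting. -/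
def nq : Subgroup G := centralizer ({F.z} : Set G) ⊓ normalizer (F.qGrp : Set G)

theorem mem_nq {n : G} : n ∈ F.nq ↔ F.Acts n := by
  rw [nq, mem_inf, mem_centralizer_singleton_iff]
  exact Iff.rfl

variable [Finite G]

theorem nq_f (i : Fin 64) : F.f i ∈ F.nq := F.mem_nq.2 (F.acts_f i)

theorem exists_pimg (n : F.nq) (k : Fin 6) :
    ∃ l : Fin 6, ∃ a, isP a = true ∧ (n : G) * F.f (pRep k) * (n : G)⁻¹ = F.f a ∧ pOf a = l := by
  have hk := (pair_facts.1 k).1
  simp only [isP, Bool.and_eq_true, beq_iff_eq] at hk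
  have hn := F.mem_nq.1 n.2
  obtain ⟨a, ha, e⟩ := F.acts_idx hn hk.1
  refine ⟨_, a, pair_facts.2.2.2 a ha fun h0 => ?_, e, rfl⟩
  have h1 := (F.sq_iff a).2 h0
  rw [← e, show (n : G) * F.f (pRep k) * (n : G)⁻¹ * ((n : G) * F.f (pRep k) * (n : G)⁻¹) =
    (n : G) * (F.f (pRep k) * F.f (pRep k)) * (n : G)⁻¹ by group, ← F.fmul, hk.2] at h1
  rw [show F.f 5 = F.z from rfl, hn.1.eq, mul_inv_cancel_right] at h1
  exact Invol.ne_one F.orderOf_z h1

/-- The image of a subgroup of order four. -/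
noncomputable def pimg (n : F.nq) (k : Fin 6) : Fin 6 := (F.exists_pimg n k).choose

theorem pimg_eq {n : F.nq} {a b : Fin 64} (ha : isP a = true)
    (e : (n : G) * F.f a * (n : G)⁻¹ = F.f b) : isP b = true ∧ pOf b = F.pimg n (pOf a) := by
  obtain ⟨c, hc, hce, hcl⟩ := (F.exists_pimg n (pOf a)).choose_spec
  rcases (pair_facts.2.1 a ha).1 with h | h
  · rw [← h] at hce
    exact F.inj _ _ (hce.symm.trans e) ▸ ⟨hc, hcl⟩
  · have e2 : (n : G) * F.f a * (n : G)⁻¹ = F.f (aMul c 5) := by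
      rw [h, F.fmul, F.fmul, ← hce, show F.f 5 = F.z from rfl, mul_assoc, mul_assoc, mul_assoc, mul_assoc,
        mul_right_inj, mul_right_inj]
      exact ((F.mem_nq.1 n.2).1.inv_left.eq).symm
    exact F.inj _ _ (e2.symm.trans e) ▸ ⟨(pair_facts.2.1 c hc).2.2, (pair_facts.2.1 c hc).2.1.trans hcl⟩

theorem pimg_conj (n : F.nq) {a : Fin 64} (ha : isP a = true) :
    ∃ b, isP b = true ∧ (n : G) * F.f a * (n : G)⁻¹ = F.f b ∧ pOf b = F.pimg n (pOf a) := by
  obtain ⟨b, -, e⟩ := F.acts_idx (F.mem_nq.1 n.2) (Bool.and_eq_true_iff.1 ha).1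
  obtain ⟨hb, hb'⟩ := F.pimg_eq ha e
  exact ⟨b, hb, e, hb'⟩

theorem pimg_mul (n m : F.nq) (k : Fin 6) : F.pimg (n * m) k = F.pimg n (F.pimg m k) := by
  obtain ⟨a, ha, ea, hak⟩ := F.pimg_conj m (pair_facts.1 k).1
  obtain ⟨b, -, eb, hbk⟩ := F.pimg_conj n ha
  have h := (F.pimg_eq (n := n * m) (pair_facts.1 k).1 (b := b) (by
    rw [← eb, ← ea, Subgroup.coe_mul]; group)).2
  rw [(pair_facts.1 k).2] at hak h
  rw [← h, hbk, hak]

theorem pimg_one (k : Fin 6) : F.pimg 1 k = k := by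
  have h := (F.pimg_eq (n := 1) (pair_facts.1 k).1 (b := pRep k) (by simp)).2
  rw [(pair_facts.1 k).2] at h
  exact h.symm

/-- The permutation of the six subgroups of order four. -/
noncomputable def perm : F.nq →* Equiv.Perm (Fin 6) :=
  MonoidHom.mk' (fun n => ⟨F.pimg n, F.pimg n⁻¹,
    fun k => by rw [← F.pimg_mul, inv_mul_cancel, F.pimg_one],
    fun k => by rw [← F.pimg_mul, mul_inv_cancel, F.pimg_one]⟩)
    (fun n m => Equiv.ext fun k => F.pimg_mul n m k)

theorem perm_apply (n : F.nq) (k : Fin 6) : F.perm n k = F.pimg n k := rfl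

theorem perm_f (i : Fin 64) : F.perm ⟨F.f i, F.nq_f i⟩ = if inQ i then 1 else sig := by
  refine Equiv.ext fun k => ?_
  have h := (F.pimg_eq (n := ⟨F.f i, F.nq_f i⟩) (pair_facts.1 k).1 (b := aConj i (pRep k)) (F.fconj i _).symm).2
  rw [(pair_facts.1 k).2, perm_P i k] at h
  rw [F.perm_apply, ← h]
  by_cases hi : inQ i = true <;> simp [hi]

theorem presB_perm (n : F.nq) : presB (F.perm n) = true := by
  refine List.all_eq_true.2 fun i _ => List.all_eq_true.2 fun j _ => beq_iff_eq.2 ?_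
  obtain ⟨a, ha, ea, hai⟩ := F.pimg_conj n (pair_facts.1 i).1
  obtain ⟨b, hb, eb, hbj⟩ := F.pimg_conj n (pair_facts.1 j).1
  rw [(pair_facts.1 i).2] at hai
  rw [(pair_facts.1 j).2] at hbj
  have h1 := (pair_facts.2.2.1 a b ha hb).1
  have h2 := (pair_facts.2.2.1 _ _ (pair_facts.1 i).1 (pair_facts.1 j).1).1
  rw [(pair_facts.1 i).2, (pair_facts.1 j).2] at h2
  rw [F.perm_apply, F.perm_apply, ← hai, ← hbj, h1, h2]
  have e1 : (pOf a == pOf b) = (i == j) := by
    rw [hai, hbj]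
    exact Bool.eq_iff_iff.2 (by simp only [beq_iff_eq]; exact (F.perm n).injective.eq_iff)
  have e2 : aCm a b = aCm (pRep i) (pRep j) := by
    refine Bool.eq_iff_iff.2 ?_
    rw [← F.comm_iff, ← F.comm_iff, ← ea, ← eb, Commute.conj_iff]
  rw [e1, e2]

theorem perm_odd (n : F.nq) (ho : Odd (orderOf n)) : ∃ k, F.perm n = rot k := by
  obtain ⟨h12, h3, -⟩ := perm_cert _ (F.presB_perm n)
  have hg : F.perm n ^ 3 = 1 := by
    refine orderOf_dvd_iff_pow_eq_one.1 ?_
    have h1 : orderOf (F.perm n) ∣ 4 * 3 := orderOf_dvd_of_pow_eq_one h12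
    refine Nat.Coprime.dvd_of_dvd_mul_left ?_ h1
    exact (show (4 : ℕ) = 2 ^ 2 from rfl) ▸
      ((ho.of_dvd_nat (orderOf_map_dvd F.perm n)).coprime_two_right.pow_right 2)
  obtain ⟨k, -, hk⟩ := List.any_eq_true.1 (h3 hg)
  exact ⟨k, beq_iff_eq.1 hk⟩

theorem perm_two (n : F.nq) (h2 : IsPGroup 2 (zpowers (n : G))) :
    F.perm n = 1 ∨ ∀ i, side (F.perm n i) = !side i := by
  obtain ⟨c, hc, hcP⟩ := EightThree.exists_conj_le (C := F.nq) (P := (F.P : Subgroup G))
    (fun x hx => by obtain ⟨i, rfl⟩ := (F.mem_iff x).1 hx; exact F.nq_f i) F.P.isPGroup'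
    (fun R _ hR hle => (F.P.3 hR hle).le) (zpowers_le.2 n.2) h2
  obtain ⟨i, hi⟩ := (F.mem_iff _).1 (hcP _ (mem_zpowers _))
  have h := F.perm_f i
  rw [show (⟨F.f i, F.nq_f i⟩ : F.nq) = ⟨c, hc⟩ * n * (⟨c, hc⟩ : F.nq)⁻¹ from Subtype.ext hi,
    map_mul, map_mul, map_inv] at h
  by_cases hQ : inQ i = true
  · rw [if_pos hQ, mul_inv_eq_one, mul_eq_left] at h
    exact Or.inl h
  · rw [if_neg hQ] at h
    refine Or.inr fun j => ?_
    set τ := (F.perm ⟨c, hc⟩)⁻¹
    have hτ : presB τ = true := by rw [show τ = F.perm (⟨c, hc⟩⁻¹) from (map_inv _ _).symm]; exact F.presB_perm _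
    have e : F.perm n = τ * sig * τ⁻¹ := by rw [← h]; simp [τ, mul_assoc]
    have hk := (perm_cert τ hτ).2.2 (τ⁻¹ j)
    rw [e, Equiv.Perm.mul_apply, Equiv.Perm.mul_apply, hk, Equiv.Perm.inv_def, Equiv.apply_symm_apply]

/-- Up to the exchange of the factors every element rotates. -/
theorem perm_cases (n : F.nq) : (∃ k, F.perm n = rot k) ∨ ∃ k, sig * F.perm n = rot k := by
  have key : ∀ m : F.nq, (∃ k, F.perm m = rot k) ∨ ∀ i, side (F.perm m i) = !side i := by
    intro m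
    obtain ⟨s, hs, t, ht, e, hs2, hto⟩ := EightThree.exists_parts (m : G)
    have hsN : s ∈ F.nq := zpowers_le.2 m.2 hs
    have htN : t ∈ F.nq := zpowers_le.2 m.2 ht
    obtain ⟨k, hk⟩ := F.perm_odd ⟨t, htN⟩ (by rwa [Subgroup.orderOf_mk])
    rw [show m = ⟨s, hsN⟩ * ⟨t, htN⟩ from Subtype.ext e, map_mul, hk]
    rcases F.perm_two ⟨s, hsN⟩ hs2 with h | h
    · exact Or.inl ⟨k, by rw [h, one_mul]⟩
    · exact Or.inr fun i => by rw [Equiv.Perm.mul_apply, h, (rot_facts.2.2.1 k).2.1]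
  refine (key n).imp id fun h => ?_
  have e : sig * F.perm n = F.perm (⟨F.f 2, F.nq_f 2⟩ * n) := by
    rw [map_mul, F.perm_f, if_neg (by decide +kernel)]
  rcases key (⟨F.f 2, F.nq_f 2⟩ * n) with ⟨k, hk⟩ | h'
  · exact ⟨k, e.trans hk⟩
  · exfalso
    have h0 := h' 0
    rw [← e, Equiv.Perm.mul_apply, rot_facts.2.2.2.1, h] at h0
    exact absurd h0 (by decide)

/-- A realised rotation. -/
def Rot (k : Fin 3 × Fin 3) : Prop := ∃ n : F.nq, F.perm n = rot k

theorem rot_prod {n : F.nq} {k : Fin 3 × Fin 3} (hn : F.perm n = rot k) {i : Fin 64}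
    (hi : aCl i = 1 ∨ aCl i = 10 ∨ aCl i = 11 ∨ aCl i = 16 ∨ aCl i = 32 ∨ aCl i = 48) :
    ∃ a b a' b', i = aMul a b ∧ isP a = true ∧ isP b = true ∧ side (pOf a) = true ∧ side (pOf b) = false ∧
      isP a' = true ∧ isP b' = true ∧ pOf a' = rot k (pOf a) ∧ pOf b' = rot k (pOf b) ∧
      (n : G) * F.f i * (n : G)⁻¹ = F.f (aMul a' b') := by
  obtain ⟨a, -, ha'⟩ := List.any_eq_true.1 (cls_facts.1 i hi)
  simp only [Bool.and_eq_true, List.any_eq_true, beq_iff_eq, Bool.not_eq_true'] at ha'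
  obtain ⟨⟨ha, hsa⟩, b, -, ⟨hb, hsb⟩, rfl⟩ := ha'
  obtain ⟨a', ha'', ea, hak⟩ := F.pimg_conj n ha
  obtain ⟨b', hb'', eb, hbk⟩ := F.pimg_conj n hb
  rw [← F.perm_apply, hn] at hak hbk
  exact ⟨a, b, a', b', rfl, ha, hb, hsa, hsb, ha'', hb'', hak, hbk, by rw [F.fmul, F.fmul, ← ea, ← eb]; group⟩

theorem rot_class {n : F.nq} {k : Fin 3 × Fin 3} (hn : F.perm n = rot k) {i : Fin 64}
    (hi : aCl i = 1 ∨ aCl i = 10 ∨ aCl i = 11) :
    ∃ l, (n : G) * F.f i * (n : G)⁻¹ = F.f l ∧ aCl l = rotCls k (aCl i) := by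
  obtain ⟨a, b, a', b', rfl, ha, hb, hsa, hsb, ha', hb', hak, hbk, e⟩ :=
    F.rot_prod hn (i := i) (by rcases hi with h | h | h <;> simp [h])
  refine ⟨_, e, ?_⟩
  have hne : side (pOf a) ≠ side (pOf b) := by rw [hsa, hsb]; decide
  rw [(cls_facts.2 a' b' ha' hb' (by rwa [hak, hbk, (rot_facts.2.2.1 k).2.1, (rot_facts.2.2.1 k).2.1])).1,
    hak, hbk, beq_iff_eq.1 (List.all_eq_true.1 ((cls_facts.2 a b ha hb hne).2 hi) k (rot_facts.1 k))]

/-- A rotation in opposite senses normalises the elementary abelian subgroup of 1 and 16. -/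
theorem rot_ec {n : F.nq} {k : Fin 3 × Fin 3} (hn : F.perm n = rot k) (hk : k.1 + k.2 = 0) {i : Fin 64}
    (hi : inEc i = true) : ∃ l, inEc l = true ∧ (n : G) * F.f i * (n : G)⁻¹ = F.f l := by
  rcases (ec_facts.2.2.2.2 i hi).2.2 with rfl | rfl | h | h
  · exact ⟨0, hi, by rw [F.fone, mul_one, mul_inv_cancel]⟩
  · exact ⟨5, hi, by rw [show F.f 5 = F.z from rfl, (F.mem_nq.1 n.2).1.eq, mul_inv_cancel_right]⟩
  all_goals
    obtain ⟨a, b, a', b', rfl, ha, hb, hsa, hsb, ha', hb', hak, hbk, e⟩ :=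
      F.rot_prod hn (i := i) (by simp [h])
    refine ⟨_, (ec_cert a' b' ha' (by rw [hak, (rot_facts.2.2.1 k).2.1, hsa]) hb'
      (by rw [hbk, (rot_facts.2.2.1 k).2.1, hsb])).2 ?_, e⟩
    rw [hak, hbk]
    exact ec_pairs k hk _ _ ((ec_cert a b ha hsa hb hsb).1 hi)

theorem rot_mul {k l : Fin 3 × Fin 3} (hk : F.Rot k) (hl : F.Rot l) : F.Rot (k.1 + l.1, k.2 + l.2) := by
  obtain ⟨n, hn⟩ := hk
  obtain ⟨m, hm⟩ := hl
  exact ⟨n * m, by rw [map_mul, hn, hm, (rot_facts.2.1 k l).1]⟩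

theorem rot_swap {k : Fin 3 × Fin 3} (hk : F.Rot k) : F.Rot (k.2, k.1) := by
  obtain ⟨n, hn⟩ := hk
  exact ⟨⟨F.f 2, F.nq_f 2⟩ * n * ⟨F.f 2, F.nq_f 2⟩,
    by rw [map_mul, map_mul, hn, F.perm_f, if_neg (by decide +kernel), (rot_facts.2.2.1 k).1]⟩

/-- An element acting, mapping an involution of the extraspecial subgroup to another: some realised rotation
maps its class to that of the image. -/
theorem exists_rot_class {n : G} (hn : F.Acts n) {i l : Fin 64}
    (hi : aCl i = 1 ∨ aCl i = 10 ∨ aCl i = 11)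
    (e : n * F.f i * n⁻¹ = F.f l) : ∃ k, F.Rot k ∧ rotCls k (aCl i) = aCl l := by
  rcases F.perm_cases ⟨n, F.mem_nq.2 hn⟩ with ⟨k, hk⟩ | ⟨k, hk⟩
  · obtain ⟨l', e', hl'⟩ := F.rot_class hk hi
    exact ⟨k, ⟨_, hk⟩, by rw [← hl', F.inj _ _ (e'.symm.trans e)]⟩
  · have hk' : F.perm (⟨F.f 2, F.nq_f 2⟩ * ⟨n, F.mem_nq.2 hn⟩) = rot k := by
      rw [map_mul, F.perm_f, if_neg (by decide +kernel), hk]
    obtain ⟨l', e', hl'⟩ := F.rot_class hk' hi
    refine ⟨k, ⟨_, hk'⟩, ?_⟩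
    rw [← hl', ← conj_two l]
    congr 1
    refine F.inj _ _ (e'.symm.trans ?_)
    rw [F.fconj, ← e]
    simp [mul_assoc]
where
  conj_two : ∀ l : Fin 64, aCl (aConj 2 l) = aCl l := by decide +kernel

/-- The rotation in opposite senses is realised. -/
theorem rot_anti (hG : Good F) : F.Rot (1, 2) := by
  obtain ⟨x, hx, w, hw, e⟩ := F.fused_x hG (u := 16) (Or.inl rfl) (F.all_fused hG 16 (Or.inl rfl))
  obtain ⟨o, ho, n, hn, rfl⟩ := F.exists_acts hG (g := x) (mem_centralizer_singleton_iff.1 hx)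
  obtain ⟨j, -, ej⟩ := F.acts_idx hn (i := 16) (by decide +kernel)
  have hjw : j = w := by
    refine F.md_eq (F.md_symm ?_)
    rw [← e, show o * n * F.f 16 * (o * n)⁻¹ = o * (n * F.f 16 * n⁻¹) * o⁻¹ by group, ej]
    exact F.md_of_th ho (F.comm_z j).symm
  subst hjw
  obtain ⟨k, hk, hkl⟩ := F.exists_rot_class (F.acts_inv hn) (i := j) (l := 16)
    (by rcases hw with rfl | rfl | rfl <;> decide +kernel) (by rw [← ej]; group)
  have hne := antidiag_facts.2.2.2.2.2.1 k _ (by rcases hw with rfl | rfl | rfl <;> decide +kernel)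
    (hkl.trans (by decide +kernel))
  have h3 := F.rot_mul hk (F.rot_mul (F.rot_swap hk) (F.rot_swap hk))
  have h6 := F.rot_mul h3 h3
  revert h3 h6
  obtain ⟨a, b⟩ := k
  fin_cases a <;> fin_cases b <;> intro h3 h6 <;> first | exact absurd rfl hne | exact h3 | exact h6

/-- An element of odd order acting with the trivial permutation lies in the odd core. -/
theorem mem_th_of_perm {n : F.nq} (hG : Good F) (hn : F.perm n = 1) (ho : Odd (orderOf (n : G))) :
    (n : G) ∈ th F.z := by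
  refine F.cent_q hG (F.mem_nq.1 n.2).1 (fun i hi => ?_) ho
  have hz := (F.mem_nq.1 n.2).1
  -- on generators of the factors it is trivial modulo the central involution
  have hP : ∀ a, isP a = true → (n : G) * F.f a * (n : G)⁻¹ = F.f a := by
    intro a ha
    obtain ⟨b, hb, e, hbk⟩ := F.pimg_conj n ha
    rw [← F.perm_apply, hn, Equiv.Perm.one_apply] at hbk
    have hb' : b = a ∨ b = aMul a 5 := twin a b ha hb hbk
    rcases hb' with rfl | rfl
    · exact e
    · exfalso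
      obtain ⟨m, hm⟩ := ho
      have hcz : Commute (n : G) F.z := hz
      have e2 : ∀ j : ℕ, (n : G) ^ j * F.f a * ((n : G) ^ j)⁻¹ = F.f a * F.z ^ j := by
        intro j
        induction j with
        | zero => simp
        | succ j ih =>
          calc (n : G) ^ (j + 1) * F.f a * ((n : G) ^ (j + 1))⁻¹
              = n * ((n : G) ^ j * F.f a * ((n : G) ^ j)⁻¹) * (n : G)⁻¹ := by rw [pow_succ']; group
            _ = n * F.f a * (n : G)⁻¹ * (n * F.z ^ j * (n : G)⁻¹) := by rw [ih]; group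
            _ = F.f a * F.z ^ (j + 1) := by
              rw [e, F.fmul, (hcz.pow_right j).eq, mul_inv_cancel_right, pow_succ', mul_assoc]; rfl
      have h1 := e2 (orderOf (n : G))
      rw [pow_orderOf_eq_one, hm, pow_succ, pow_mul, pow_two, Invol.inv_mul_self F.orderOf_z, one_pow,
        one_mul] at h1
      simp only [one_mul, inv_one, mul_one, left_eq_mul] at h1
      exact Invol.ne_one F.orderOf_z h1
  suffices h : (n : G) * F.f i * (n : G)⁻¹ = F.f i by rw [h]; exact F.md_refl _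
  rcases gen_facts i hi with rfl | rfl | hi' | hi'
  · rw [F.fone, mul_one, mul_inv_cancel]
  · rw [show F.f 5 = F.z from rfl, hz.eq, mul_inv_cancel_right]
  · exact hP i hi'
  · obtain ⟨a, -, ha'⟩ := List.any_eq_true.1 (cls_facts.1 i hi')
    simp only [Bool.and_eq_true, List.any_eq_true, beq_iff_eq, Bool.not_eq_true'] at ha'
    obtain ⟨⟨ha, -⟩, b, -, ⟨hb, -⟩, rfl⟩ := ha'
    rw [F.fmul]
    conv_rhs => rw [← hP a ha, ← hP b hb]
    group
where
  twin : ∀ a b : Fin 64, isP a = true → isP b = true → pOf b = pOf a → b = a ∨ b = aMul a 5 := by decide +kernel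

end Frame

end Cfsg.Lib.AltEightSyl
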