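import Cfsg.Agent.Lib.StrongEmb.Core
import Cfsg.Agent.Lib.Core.Cores
import Cfsg.Agent.S0058
import Cfsg.Agent.S3278
import Mathlib.GroupTheory.SpecificGroups.Alternating
import Mathlib.GroupTheory.SpecificGroups.KleinFour

/-!
# An elementary four Sylow subgroup with all involution centralisers in its product with an odd subgroup
-/

set_option autoImplicit false
set_option linter.style.haveILetI false

namespace Cfsg.Lib.AltEightSyl

open Subgroup Cfsg Cfsg.Lib.Invol Cfsg.Lib.StrongEmb MulAction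

theorem four_free : ∀ p q : Equiv.Perm (Fin 4), p * p = 1 → (∀ i, p i ≠ i) → q * q = 1 → (∀ i, q i ≠ i) →
    p * q = q * p := by decide +kernel

theorem alt_five_invol : Nat.card {a : alternatingGroup (Fin 5) // a * a = 1 ∧ a ≠ 1} = 15 := by
  rw [Nat.card_eq_fintype_card]
  decide +kernel

variable {R : Type*} [Group R] [Finite R]

/-- A four Sylow subgroup `A` normalising the odd subgroup `X` with all its centralisers in `A ⊔ X`. -/
structure FourData (A X : Subgroup R) : Prop where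
  card : Nat.card A = 4
  sq : ∀ a ∈ A, a * a = 1
  index : ¬ 2 ∣ A.index
  odd : Odd (Nat.card X)
  norm : A ≤ normalizer (X : Set R)
  cent : ∀ a ∈ A, a ≠ 1 → centralizer ({a} : Set R) ≤ A ⊔ X

namespace FourData

variable {A X : Subgroup R} (D : FourData A X)
include D

omit [Finite R] in
theorem inv_eq {a : R} (ha : a ∈ A) : a⁻¹ = a := inv_eq_of_mul_eq_one_right (D.sq a ha)

omit [Finite R] in
theorem comm {a b : R} (ha : a ∈ A) (hb : b ∈ A) : a * b = b * a := by
  rw [← D.inv_eq (mul_mem ha hb), mul_inv_rev, D.inv_eq ha, D.inv_eq hb]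

omit [Finite R] in
theorem exists_mul {g : R} (hg : g ∈ A ⊔ X) : ∃ a ∈ A, ∃ x ∈ X, a * x = g := by
  rw [← SetLike.mem_coe, coe_mul_of_left_le_normalizer_right A X D.norm] at hg
  exact hg

omit [Finite R] in
theorem sq_mem {g : R} (hg : g ∈ A ⊔ X) : g * g ∈ X := by
  obtain ⟨a, ha, x, hx, rfl⟩ := D.exists_mul hg
  rw [show a * x * (a * x) = a * x * a⁻¹ * (a * a) * x by group, D.sq a ha, mul_one]
  exact mul_mem ((mem_normalizer_iff.1 (D.norm ha) x).1 hx) hx

theorem mem_of_odd {g : R} (hg : g ∈ A ⊔ X) (ho : Odd (orderOf g)) : g ∈ X := by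
  obtain ⟨m, hm⟩ := ho
  have e : g = (g * g) ^ (m + 1) := by
    rw [← pow_two, ← pow_mul, show 2 * (m + 1) = orderOf g + 1 by omega, pow_succ, pow_orderOf_eq_one, one_mul]
  rw [e]
  exact pow_mem (D.sq_mem hg) _

omit [Finite R] in
theorem order {a : R} (ha : a ∈ A) (h1 : a ≠ 1) : orderOf a = 2 :=
  orderOf_eq_prime (hp := ⟨Nat.prime_two⟩) (by rw [pow_two]; exact D.sq a ha) h1

omit [Finite R] in
theorem not_cyclic : ¬ IsCyclic A := fun h => by
  obtain ⟨g, hg⟩ := h.exists_ofOrder_eq_natCard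
  rw [D.card] at hg
  have : g ^ 2 = 1 := Subtype.ext (by rw [pow_two]; exact D.sq g g.2)
  have := orderOf_dvd_of_pow_eq_one this
  rw [hg] at this
  norm_num at this

omit [Finite R] in
theorem exists_pair : ∃ a b, a ∈ A ∧ b ∈ A ∧ a ≠ 1 ∧ b ≠ 1 ∧ a ≠ b := by
  haveI : Nat.card A ≠ 0 := by rw [D.card]; norm_num
  haveI := Nat.finite_of_card_ne_zero this
  haveI := Fintype.ofFinite A
  have h : Fintype.card A = 4 := by rw [← Nat.card_eq_fintype_card, D.card]
  classical
  have h3 : 1 < ((Finset.univ : Finset A).erase 1).card := by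
    rw [Finset.card_erase_of_mem (Finset.mem_univ _), Finset.card_univ, h]; norm_num
  obtain ⟨a, ha, b, hb, hab⟩ := Finset.one_lt_card.1 h3
  exact ⟨a, b, a.2, b.2, fun e => (Finset.mem_erase.1 ha).1 (Subtype.ext e),
    fun e => (Finset.mem_erase.1 hb).1 (Subtype.ext e), fun e => hab (Subtype.ext e)⟩

/-- An odd subgroup normalised by `A` lies in `X`. -/
theorem le_of_odd {K : Subgroup R} (hK : Odd (Nat.card K)) (hn : A ≤ normalizer (K : Set R)) : K ≤ X := by
  haveI : IsMulCommutative A := ⟨⟨fun a b => Subtype.ext (D.comm a.2 b.2)⟩⟩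
  rw [← Cfsg.Agent.S0058.result A K D.not_cyclic hn (by
    rw [D.card, show (4 : ℕ) = 2 ^ 2 from rfl]
    exact Nat.Coprime.pow_left _ (Nat.coprime_two_left.2 hK))]
  refine iSup₂_le fun a ha y hy => D.mem_of_odd (D.cent a ha.1 ha.2 hy.2) ?_
  exact hK.of_dvd_nat (Subgroup.orderOf_dvd_natCard K hy.1)

/-- The odd part of the centralisers generates `X`. -/
theorem X_normalised : normalizer (A : Set R) ≤ normalizer (X : Set R) := by
  intro n hn
  have hle : X.map (MulAut.conj n).toMonoidHom ≤ X := by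
    refine D.le_of_odd ?_ ?_
    · rw [card_map_of_injective (MulAut.conj n).injective]; exact D.odd
    · intro a ha
      have h1 : n⁻¹ * a * n ∈ normalizer (X : Set R) :=
        D.norm ((mem_normalizer_iff.1 hn _).2 (by rw [show n * (n⁻¹ * a * n) * n⁻¹ = a by group]; exact ha))
      have h2 := le_normalizer_map (MulAut.conj n).toMonoidHom ⟨_, h1, rfl⟩
      simpa [mul_assoc] using h2
  rw [mem_normalizer_iff_map_conj_eq]
  exact eq_of_le_of_card_ge hle (card_map_of_injective (MulAut.conj n).injective).ge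

variable (hO : oddCore R = ⊥) (hX : X ≠ ⊥)

local notation "H₀" => normalizer (X : Set R)

theorem sylow_eq : ∃ S : Sylow 2 R, (S : Subgroup R) = A := by
  haveI : Fact (Nat.Prime 2) := ⟨Nat.prime_two⟩
  refine ⟨(IsPGroup.of_card (n := 2) (by rw [D.card]; norm_num) : IsPGroup 2 A).toSylow D.index, rfl⟩

/-- An involution of a subgroup containing `A` is conjugate in it into `A`. -/
theorem exists_conj_in {H : Subgroup R} (hAH : A ≤ H) {i : R} (hi : i ∈ H) (hi2 : i * i = 1) :
    ∃ h ∈ H, h * i * h⁻¹ ∈ A := by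
  classical
  haveI : Fact (Nat.Prime 2) := ⟨Nat.prime_two⟩
  have hAH2 : ¬ 2 ∣ (A.subgroupOf H).index := fun h => D.index (h.trans (relIndex_dvd_index_of_le hAH))
  let P : Sylow 2 H := ((IsPGroup.of_card (n := 2) (by
    rw [Nat.card_congr (subgroupOfEquivOfLe hAH).toEquiv, D.card]; norm_num)) : IsPGroup 2 (A.subgroupOf H)).toSylow hAH2
  have hI : IsPGroup 2 (zpowers (⟨i, hi⟩ : H)) := IsPGroup.of_card (n := if i = 1 then 0 else 1) (by
    rw [Nat.card_zpowers]
    by_cases h1 : i = 1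
    · rw [if_pos h1, pow_zero, orderOf_eq_one_iff]; exact Subtype.ext h1
    · rw [if_neg h1, pow_one]
      exact orderOf_eq_prime (by rw [pow_two]; exact Subtype.ext hi2) fun e => h1 (congrArg Subtype.val e))
  obtain ⟨Q, hQ⟩ := hI.exists_le_sylow
  obtain ⟨h, hh⟩ := MulAction.exists_smul_eq H Q P
  refine ⟨h, h.2, ?_⟩
  have : h * ⟨i, hi⟩ * h⁻¹ ∈ (P : Subgroup H) := by
    rw [← hh, Sylow.coe_subgroup_smul, Subgroup.mem_smul_pointwise_iff_exists]
    exact ⟨_, hQ (mem_zpowers _), rfl⟩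
  exact mem_subgroupOf.1 this

include hO hX in
theorem ne_top : H₀ ≠ ⊤ := fun h => hX (by
  haveI : X.Normal := normalizer_eq_top_iff.1 h
  exact le_bot_iff.1 (hO ▸ Cfsg.Lib.Core.le_pPrimeCore (p := 2) (N := X) (Nat.coprime_two_right.2 D.odd)))

theorem sup_le_H : A ⊔ X ≤ H₀ := sup_le D.norm le_normalizer

theorem cent_le {i : R} (hi : i ∈ H₀) (hi2 : i * i = 1) (h1 : i ≠ 1) : centralizer ({i} : Set R) ≤ H₀ := by
  intro g hg
  obtain ⟨h, hh, hha⟩ := D.exists_conj_in D.norm hi hi2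
  have hg' : h * g * h⁻¹ ∈ centralizer ({h * i * h⁻¹} : Set R) := mem_centralizer_singleton_iff.2 (by
    rw [show h * g * h⁻¹ * (h * i * h⁻¹) = h * (g * i) * h⁻¹ by group, mem_centralizer_singleton_iff.1 hg]
    group)
  have := D.sup_le_H (D.cent _ hha (fun e => h1 (conj_eq_one_iff.1 e)) hg')
  rw [show g = h⁻¹ * (h * g * h⁻¹) * h by group]
  exact mul_mem (mul_mem (inv_mem hh) this) hh

include hO hX in
theorem se : IsStronglyEmbedded H₀ := by
  haveI : Fact (Nat.Prime 2) := ⟨Nat.prime_two⟩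
  have heven : Even (Nat.card H₀) := by
    rw [even_iff_two_dvd]
    exact dvd_trans (by rw [D.card]; norm_num) (card_dvd_of_le D.norm)
  refine (stronglyEmbedded_iff (D.ne_top hO hX) heven).2 fun t ht ht2 g hg => ?_
  have hsq : ∀ {u : R}, orderOf u = 2 → u * u = 1 := fun h => by rw [← pow_two, ← h, pow_orderOf_eq_one]
  obtain ⟨h, hh, hha⟩ := D.exists_conj_in D.norm ht (hsq ht2)
  obtain ⟨k, hk, hka⟩ := D.exists_conj_in D.norm hg (hsq (by rw [Invol.orderOf_conj_eq, ht2]))
  -- `m` maps an element of `A` to another, so a Sylow argument puts it in the normaliser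
  set m := k * g * h⁻¹ with hm
  set a := h * t * h⁻¹ with ha
  have hma : m * a * m⁻¹ = k * (g * t * g⁻¹) * k⁻¹ := by rw [hm, ha]; group
  set b := k * (g * t * g⁻¹) * k⁻¹
  have hb1 : b ≠ 1 := fun e => by
    have := congrArg orderOf e
    simp only [b] at this
    rw [Invol.orderOf_conj_eq, Invol.orderOf_conj_eq, ht2, orderOf_one] at this
    omega
  have hsup : A.map (MulAut.conj m).toMonoidHom ≤ A ⊔ X := by
    rintro _ ⟨c, hc, rfl⟩
    refine D.cent b hka hb1 (mem_centralizer_singleton_iff.2 ?_)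
    show m * c * m⁻¹ * b = b * (m * c * m⁻¹)
    rw [← hma, show m * c * m⁻¹ * (m * a * m⁻¹) = m * (c * a) * m⁻¹ by group, D.comm hc hha]
    group
  have hidx : ∀ B : Subgroup R, Nat.card B = 4 → ¬ 2 ∣ (B.subgroupOf (A ⊔ X)).index → B ≤ A ⊔ X →
      ∃ P : Sylow 2 ↥(A ⊔ X), (P : Subgroup ↥(A ⊔ X)) = B.subgroupOf (A ⊔ X) := fun B hB hB2 hle =>
    ⟨((IsPGroup.of_card (n := 2) (by
      rw [Nat.card_congr (subgroupOfEquivOfLe hle).toEquiv, hB]; norm_num)) : IsPGroup 2 (B.subgroupOf (A ⊔ X))).toSylow hB2, rfl⟩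
  have hAidx : ¬ 2 ∣ (A.subgroupOf (A ⊔ X)).index := fun e => D.index (e.trans (relIndex_dvd_index_of_le le_sup_left))
  obtain ⟨P, hP⟩ := hidx A D.card hAidx le_sup_left
  obtain ⟨P', hP'⟩ := hidx _ ((card_map_of_injective (MulAut.conj m).injective).trans D.card) (by
    have e1 := card_mul_index ((A.map (MulAut.conj m).toMonoidHom).subgroupOf (A ⊔ X))
    have e2 := card_mul_index (A.subgroupOf (A ⊔ X))
    rw [Nat.card_congr (subgroupOfEquivOfLe hsup).toEquiv, card_map_of_injective (MulAut.conj m).injective, D.card] at e1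
    rw [Nat.card_congr (subgroupOfEquivOfLe le_sup_left).toEquiv, D.card, ← e1] at e2
    rw [← Nat.eq_of_mul_eq_mul_left (by norm_num : 0 < 4) e2]
    exact hAidx) hsup
  obtain ⟨y, hy⟩ := MulAction.exists_smul_eq ↥(A ⊔ X) P' P
  have hym : (y : R) * m ∈ normalizer (A : Set R) := by
    rw [mem_normalizer_iff_map_conj_eq]
    refine eq_of_le_of_card_ge ?_ (card_map_of_injective (MulAut.conj _).injective).ge
    rintro _ ⟨c, hc, rfl⟩
    have h1 : y * ⟨m * c * m⁻¹, hsup ⟨c, hc, rfl⟩⟩ * y⁻¹ ∈ (P : Subgroup ↥(A ⊔ X)) := by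
      rw [← hy, Sylow.coe_subgroup_smul, Subgroup.mem_smul_pointwise_iff_exists]
      exact ⟨_, hP' ▸ mem_subgroupOf.2 ⟨c, hc, rfl⟩, rfl⟩
    rw [hP, mem_subgroupOf] at h1
    show (y : R) * m * c * ((y : R) * m)⁻¹ ∈ A
    convert h1 using 1
    simp [mul_assoc]
  have hmH : m ∈ H₀ := by
    have := mul_mem (inv_mem (D.sup_le_H y.2)) (D.X_normalised hym)
    rwa [inv_mul_cancel_left] at this
  rw [show g = k⁻¹ * m * h by rw [hm]; group]
  exact mul_mem (mul_mem (inv_mem hk) hmH) hh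

include hO hX in
theorem faith : ∀ g : R, (∀ x : R ⧸ H₀, g • x = x) → g = 1 := by
  intro g hg
  set K := (MulAction.toPermHom R (R ⧸ H₀)).ker
  have hgK : g ∈ K := MonoidHom.mem_ker.2 (Equiv.ext hg)
  have hKH : ∀ k ∈ K, ∀ c, c⁻¹ * k * c ∈ H₀ := fun k hk c =>
    smul_coset_eq_iff.1 (Equiv.ext_iff.1 (MonoidHom.mem_ker.1 hk) (QuotientGroup.mk c))
  have hodd : Odd (Nat.card K) := by
    by_contra hev
    rw [Nat.not_odd_iff_even] at hev
    obtain ⟨i, hi, hi2⟩ := exists_involution_of_even hev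
    obtain ⟨c, hc⟩ : ∃ c : R, c ∉ H₀ := not_forall.1 fun h => D.ne_top hO hX ((eq_top_iff' _).2 h)
    have h0 : i ∈ H₀ := by simpa using hKH i hi 1
    refine hc ?_
    have := se_mem (D.se hO hX) h0 hi2 (g := c⁻¹) (by simpa using hKH i hi c)
    simpa using inv_mem this
  have hle : K ≤ oddCore R := Cfsg.Lib.Core.le_pPrimeCore (p := 2) (Nat.coprime_two_right.2 hodd)
  rw [hO] at hle
  exact mem_bot.1 (hle hgK)

include hO hX in
theorem sq_prod_mem {s t : R} (hs : s ∈ H₀) (ht : t ∈ H₀) (hs2 : orderOf s = 2) (ht2 : orderOf t = 2) :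
    s * t * (s * t) ∈ X := by
  classical
  have hsq : ∀ {u : R}, orderOf u = 2 → u * u = 1 := fun h => by rw [← pow_two, ← h, pow_orderOf_eq_one]
  obtain ⟨a, b, ha, -, ha1, -, -⟩ := D.exists_pair
  obtain ⟨u, hu, hu2⟩ := se_exists_outside (D.se hO hX)
  set D' := H₀ ⊓ (H₀).map (MulAut.conj u).toMonoidHom with hD'
  set E := D' ⊔ X
  have hDH : D' ≤ H₀ := inf_le_left
  have hEH : E ≤ H₀ := sup_le hDH le_normalizer
  have hDodd : Odd (Nat.card D') := (D.se hO hX).2.2 u hu
  have hAE : ∀ c ∈ A, c ∈ E → c = 1 := by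
    intro c hc hcE
    rw [← SetLike.mem_coe, coe_mul_of_left_le_normalizer_right D' X hDH] at hcE
    obtain ⟨d, hd, x, hx, e⟩ := hcE
    have hd' : d ∈ X := D.mem_of_odd (by
      rw [show d = c * x⁻¹ from eq_mul_inv_of_mul_eq e]
      exact mul_mem (mem_sup_left hc) (inv_mem (mem_sup_right hx)))
      (hDodd.of_dvd_nat (Subgroup.orderOf_dvd_natCard _ hd))
    by_contra h1
    exact Nat.not_even_iff_odd.2 D.odd (even_iff_two_dvd.2
      (D.order hc h1 ▸ Subgroup.orderOf_dvd_natCard X (e ▸ mul_mem hd' hx)))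
  let E' := E.subgroupOf H₀
  let f : A → H₀ ⧸ E' := fun c => QuotientGroup.mk ⟨c, D.norm c.2⟩
  have hf : Function.Bijective f := by
    refine ⟨fun c d h => Subtype.ext ?_, fun q => ?_⟩
    · have h' : (c : R)⁻¹ * d ∈ E := by simpa [E', mem_subgroupOf] using QuotientGroup.eq.1 h
      exact inv_mul_eq_one.1 (hAE _ (mul_mem (inv_mem c.2) d.2) h')
    · obtain ⟨h, rfl⟩ := QuotientGroup.mk_surjective q
      obtain ⟨d, hd, hde⟩ := se_transitive (D.se hO hX) hu2 hu
        (by rw [Invol.orderOf_conj_eq, D.order ha ha1])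
        (mul_mem (mul_mem (inv_mem h.2) (D.norm ha)) (inv_mem (inv_mem h.2)))
        (D.order ha ha1) (D.norm ha)
      have hc : d * (h : R)⁻¹ ∈ A ⊔ X := D.cent a ha ha1 (mem_centralizer_singleton_iff.2 (by
        conv_rhs => rw [← hde]
        group))
      obtain ⟨c, hcA, x, hx, e⟩ := D.exists_mul hc
      refine ⟨⟨c⁻¹, inv_mem hcA⟩, QuotientGroup.eq.2 ?_⟩
      show (c⁻¹)⁻¹ * (h : R) ∈ E
      rw [inv_inv, show c * (h : R) = (c * x * c⁻¹)⁻¹ * d by
        rw [show d = c * x * (h : R) by rw [e]; group]; group]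
      exact mul_mem (mem_sup_right (inv_mem ((mem_normalizer_iff.1 (D.norm hcA) x).1 hx))) (mem_sup_left hd)
  haveI := Fintype.ofFinite (H₀ ⧸ E')
  let e4 := Fintype.equivFinOfCardEq (show Fintype.card (H₀ ⧸ E') = 4 by
    rw [← Nat.card_eq_fintype_card, ← Nat.card_eq_of_bijective f hf, D.card])
  let φ : H₀ →* Equiv.Perm (Fin 4) := e4.permCongrHom.toMonoidHom.comp (MulAction.toPermHom H₀ (H₀ ⧸ E'))
  -- involutions move every point
  have hfree : ∀ {i : R} (hi : i ∈ H₀), orderOf i = 2 →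
      φ ⟨i, hi⟩ * φ ⟨i, hi⟩ = 1 ∧ ∀ p, φ ⟨i, hi⟩ p ≠ p := by
    intro i hi hi2
    refine ⟨by rw [← map_mul, show (⟨i, hi⟩ * ⟨i, hi⟩ : H₀) = 1 from Subtype.ext (hsq hi2), map_one], fun p hp => ?_⟩
    obtain ⟨q, rfl⟩ := e4.surjective p
    have hq : (⟨i, hi⟩ : H₀) • q = q := e4.injective (by simpa [φ] using hp)
    obtain ⟨g, rfl⟩ := QuotientGroup.mk_surjective q
    have hgi : (g : R)⁻¹ * i * g ∈ E := by
      have := smul_coset_eq_iff.1 hq
      simpa [E', mem_subgroupOf] using this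
    have hEn : X.subgroupOf H₀ ≤ E' := fun x hx => mem_sup_right (mem_subgroupOf.1 hx)
    set j := (g : R)⁻¹ * i * g with hj
    have hj2 : j * j = 1 := by
      rw [hj, show (g : R)⁻¹ * i * g * ((g : R)⁻¹ * i * g) = (g : R)⁻¹ * (i * i) * g by group, hsq hi2]
      group
    rw [← SetLike.mem_coe, coe_mul_of_left_le_normalizer_right D' X hDH] at hgi
    obtain ⟨d, hd, x, hx, e⟩ := hgi
    have hd2 : d * d ∈ X := by
      have hjj : j * j = d * d * (d⁻¹ * x * d * x) := by rw [← e]; group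
      rw [hj2] at hjj
      rw [eq_inv_of_mul_eq_one_left hjj.symm]
      refine inv_mem (mul_mem ?_ hx)
      exact (mem_normalizer_iff''.1 (hDH hd) x).1 hx
    obtain ⟨m, hm⟩ := hDodd.of_dvd_nat (Subgroup.orderOf_dvd_natCard _ hd)
    have hdX : d ∈ X := by
      have e' : d = (d * d) ^ (m + 1) := by
        rw [← pow_two, ← pow_mul, show 2 * (m + 1) = orderOf d + 1 by omega, pow_succ, pow_orderOf_eq_one, one_mul]
      rw [e']; exact pow_mem hd2 _
    have hjX : j ∈ X := e ▸ mul_mem hdX hx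
    have : orderOf j = 2 := by
      rw [hj, show (g : R)⁻¹ * i * g = (g : R)⁻¹ * i * ((g : R)⁻¹)⁻¹ by group, Invol.orderOf_conj_eq, hi2]
    exact Nat.not_even_iff_odd.2 D.odd (even_iff_two_dvd.2 (this ▸ Subgroup.orderOf_dvd_natCard X hjX))
  obtain ⟨h1, h1'⟩ := hfree hs hs2
  obtain ⟨h2, h2'⟩ := hfree ht ht2
  have hker : (⟨s, hs⟩ * ⟨t, ht⟩ * (⟨s, hs⟩ * ⟨t, ht⟩) : H₀) ∈ φ.ker := by
    rw [MonoidHom.mem_ker, map_mul, map_mul, show φ ⟨s, hs⟩ * φ ⟨t, ht⟩ * (φ ⟨s, hs⟩ * φ ⟨t, ht⟩) =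
      φ ⟨s, hs⟩ * (φ ⟨t, ht⟩ * φ ⟨s, hs⟩) * φ ⟨t, ht⟩ by group, ← four_free _ _ h1 h1' h2 h2',
      show φ ⟨s, hs⟩ * (φ ⟨s, hs⟩ * φ ⟨t, ht⟩) * φ ⟨t, ht⟩ = φ ⟨s, hs⟩ * φ ⟨s, hs⟩ * (φ ⟨t, ht⟩ * φ ⟨t, ht⟩) by group,
      h1, h2, one_mul]
  refine D.le_of_odd (K := φ.ker.map (H₀).subtype) ?_ ?_ ⟨_, hker, rfl⟩
  · rw [card_map_of_injective (subtype_injective _)]
    by_contra hev
    rw [Nat.not_odd_iff_even] at hev
    obtain ⟨i, hi, hi2⟩ := exists_involution_of_even hev
    obtain ⟨-, hfix⟩ := hfree i.2 (by rw [Subgroup.orderOf_coe, hi2])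
    exact hfix 0 (by rw [MonoidHom.mem_ker.1 hi]; rfl)
  · intro c hc
    refine le_normalizer_map (H₀).subtype ⟨⟨c, D.norm hc⟩, ?_, rfl⟩
    have e := normalizer_eq_top_iff.2 (MonoidHom.normal_ker φ)
    rw [e]
    exact mem_top _

include hO hX in
theorem modData : ModData H₀ X where
  se := D.se hO hX
  faith := D.faith hO hX
  le := le_normalizer
  norm := le_rfl
  odd := D.odd
  comm := fun _ _ hs ht hs2 ht2 => D.sq_prod_mem hO hX hs ht hs2 ht2
  four := by
    obtain ⟨a, b, ha, hb, ha1, hb1, hab⟩ := D.exists_pair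
    exact ⟨a, b, D.norm ha, D.norm hb, D.order ha ha1, D.order hb hb1, hab, D.comm ha hb⟩

include hO hX in
theorem commute_A {x a : R} (hx : x ∈ X) (ha : a ∈ A) : Commute x a := by
  rcases eq_or_ne a 1 with rfl | h1
  · exact Commute.one_right x
  · exact (D.modData hO hX).commute_core (D.norm ha) (D.order ha h1) hx

include hO hX in
/-- The involutions of the normaliser are those of `A`. -/
theorem invol_mem {i : R} (hi : i ∈ H₀) (hi2 : orderOf i = 2) : i ∈ A := by
  obtain ⟨a, b, ha, -, ha1, -, -⟩ := D.exists_pair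
  have hc := (D.modData hO hX).commute_invol hi (D.norm ha) hi2 (D.order ha ha1)
  obtain ⟨c, hcA, x, hx, e⟩ := D.exists_mul (D.cent a ha ha1 (mem_centralizer_singleton_iff.2 hc.eq))
  have hsq : i * i = 1 := by rw [← pow_two, ← hi2, pow_orderOf_eq_one]
  have hxx : x * x = 1 := by
    have h : c * x * (c * x) = (c * c) * (x * x) := by
      rw [(D.commute_A hO hX hx hcA).symm.mul_mul_mul_comm]
    rwa [e, hsq, D.sq c hcA, one_mul, eq_comm] at h
  have hx1 : x = 1 := by
    by_contra hne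
    exact Nat.not_even_iff_odd.2 D.odd (even_iff_two_dvd.2
      (orderOf_eq_prime (hp := ⟨Nat.prime_two⟩) (by rw [pow_two]; exact hxx) hne ▸ Subgroup.orderOf_dvd_natCard X hx))
  rw [← e, hx1, mul_one]; exact hcA

include hO hX in
theorem card_fix (p : R ⧸ H₀) : Nat.card {t : R // orderOf t = 2 ∧ t • p = p} = 3 := by
  classical
  rw [card_fixSet]
  haveI := Fintype.ofFinite A
  rw [Nat.card_congr (show {t : R // orderOf t = 2 ∧ t ∈ H₀} ≃ {a : A // a ≠ 1} from
    { toFun := fun t => ⟨⟨t.1, D.invol_mem hO hX t.2.2 t.2.1⟩, fun e => by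
        have h := t.2.1
        rw [show t.1 = 1 from congrArg Subtype.val e, orderOf_one] at h
        omega⟩
      invFun := fun a => ⟨a.1.1, D.order a.1.2 fun e => a.2 (Subtype.ext e), D.norm a.1.2⟩
      left_inv := fun t => rfl
      right_inv := fun a => rfl }), Nat.card_eq_fintype_card, Fintype.card_subtype_compl,
    Fintype.card_subtype_eq, ← Nat.card_eq_fintype_card, D.card]

include hO hX in
theorem card_invol : Nat.card {t : R // orderOf t = 2} = 3 * Nat.card (R ⧸ H₀) := by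
  classical
  have hse := D.se hO hX
  have hex : ∀ t : {t : R // orderOf t = 2}, ∃ p : R ⧸ H₀, t.1 • p = p := by
    rintro ⟨t, ht⟩
    obtain ⟨a, b, ha, -, ha1, -, -⟩ := D.exists_pair
    obtain ⟨g, hg⟩ := isConj_iff.1 (se_isConj hse (D.order ha ha1) ht)
    have e : g⁻¹ * t * g = a := by rw [← hg]; group
    exact ⟨QuotientGroup.mk g, smul_coset_eq_iff.2 (by rw [e]; exact D.norm ha)⟩
  choose pt hpt using hex
  haveI := Fintype.ofFinite (R ⧸ H₀)
  rw [Nat.card_congr (show {t : R // orderOf t = 2} ≃ Σ p : R ⧸ H₀, {t : R // orderOf t = 2 ∧ t • p = p} from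
    { toFun := fun t => ⟨pt t, t.1, t.2, hpt t⟩
      invFun := fun q => ⟨q.2.1, q.2.2.1⟩
      left_inv := fun t => rfl
      right_inv := fun q => by
        obtain ⟨p, t, ht, htp⟩ := q
        obtain rfl : pt ⟨t, ht⟩ = p := se_fixed_unique hse ht (hpt ⟨t, ht⟩) htp
        rfl }), Nat.card_sigma, Finset.sum_congr rfl fun p _ => D.card_fix hO hX p, Finset.sum_const,
    Finset.card_univ, Nat.card_eq_fintype_card, smul_eq_mul, mul_comm]

set_option quotPrecheck false in
local notation "L₀" => Subgroup.closure {t : R | orderOf t = 2}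

include hO hX in
theorem simple_L : IsSimpleGroup L₀ := by
  classical
  have hse := D.se hO hX
  obtain ⟨a, b, ha, -, ha1, -, -⟩ := D.exists_pair
  have haL : a ∈ L₀ := subset_closure (D.order ha ha1)
  haveI : Nontrivial L₀ := ⟨⟨a, haL⟩, 1, fun e => ha1 (congrArg Subtype.val e)⟩
  refine ⟨fun M hM => ?_⟩
  haveI := hM
  by_cases hodd : Odd (Nat.card M)
  · left
    set M' := M.map (L₀).subtype
    have hAL : ∀ g ∈ L₀, g ∈ normalizer (M' : Set R) := fun g hg => by
      rw [mem_normalizer_iff_map_conj_eq]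
      refine eq_of_le_of_card_ge ?_ (card_map_of_injective (MulAut.conj g).injective).ge
      rintro _ ⟨_, ⟨m, hm, rfl⟩, rfl⟩
      exact ⟨⟨g, hg⟩ * m * ⟨g, hg⟩⁻¹, hM.conj_mem m hm _, rfl⟩
    have hM'X : M' ≤ X := D.le_of_odd (by rw [card_map_of_injective (subtype_injective _)]; exact hodd) fun c hc => by
      rcases eq_or_ne c 1 with rfl | h1
      · exact one_mem _
      · exact hAL c (subset_closure (D.order hc h1))
    rw [eq_bot_iff]
    intro m hm
    refine Subtype.ext ((D.faith hO hX) _ fun p => ?_)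
    have hfix : ∀ y ∈ M', y • (QuotientGroup.mk 1 : R ⧸ H₀) = QuotientGroup.mk 1 :=
      fun y hy => smul_coset_one_eq.2 (le_normalizer (hM'X hy))
    rcases eq_or_ne p (QuotientGroup.mk 1) with rfl | hp
    · exact hfix _ ⟨m, hm, rfl⟩
    obtain ⟨w, hw, hwp⟩ := exists_swapper hse hp.symm
    have hwM : w⁻¹ * (m : R) * w ∈ M' := by
      have := (mem_normalizer_iff''.1 (hAL w (subset_closure hw)) (m : R)).1 ⟨m, hm, rfl⟩
      exact this
    rw [← hwp, ← mul_smul, show (m : R) * w = w * (w⁻¹ * m * w) by group, mul_smul, hfix _ hwM]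
  · right
    rw [Nat.not_odd_iff_even] at hodd
    obtain ⟨i, hiM, hi2⟩ := exists_involution_of_even hodd
    have hi2' : orderOf (i : R) = 2 := by rw [Subgroup.orderOf_coe, hi2]
    have hex : ∀ t : R, orderOf t = 2 → ∃ p : R ⧸ H₀, t • p = p := fun t ht => by
      obtain ⟨g, hg⟩ := isConj_iff.1 (se_isConj hse (D.order ha ha1) ht)
      have e : g⁻¹ * t * g = a := by rw [← hg]; group
      exact ⟨QuotientGroup.mk g, smul_coset_eq_iff.2 (by rw [e]; exact D.norm ha)⟩
    -- involutions with different fixed points are conjugate by an involution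
    have key : ∀ s t : R, orderOf s = 2 → ∀ ht : orderOf t = 2, ∀ p q : R ⧸ H₀, p ≠ q → s • p = p → t • q = q →
        (∀ hs' : s ∈ L₀, (⟨s, hs'⟩ : L₀) ∈ M → (⟨t, subset_closure ht⟩ : L₀) ∈ M) := by
      intro s t hs ht p q hpq hsp htq hs' hsM
      obtain ⟨⟨w, hw, _hwx⟩, hwst⟩ := exists_swap_aux hse hpq ⟨s, hs, hsp⟩ ⟨t, ht, htq⟩
      have := hM.conj_mem _ hsM ⟨w, subset_closure hw⟩
      convert this using 1
      exact Subtype.ext hwst.symm
    obtain ⟨p, hp⟩ := hex i hi2'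
    have hall : ∀ t : R, ∀ ht : orderOf t = 2, (⟨t, subset_closure ht⟩ : L₀) ∈ M := by
      intro t ht
      obtain ⟨q, hq⟩ := hex t ht
      rcases eq_or_ne q p with rfl | hqp
      · obtain ⟨r, hr⟩ := StrongEmb.exists_ne hse q
        obtain ⟨g, rfl⟩ := QuotientGroup.mk_surjective r
        have hv : orderOf (g * a * g⁻¹) = 2 := by rw [Invol.orderOf_conj_eq, D.order ha ha1]
        have hvr : (g * a * g⁻¹) • (QuotientGroup.mk g : R ⧸ H₀) = QuotientGroup.mk g :=
          smul_coset_eq_iff.2 (by group; simpa using D.norm ha)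
        exact key _ t hv ht _ _ hr hvr hq (subset_closure hv)
          (key _ _ hi2' hv _ _ hr.symm hp hvr i.2 hiM)
      · exact key _ t hi2' ht _ _ hqp.symm hp hq i.2 hiM
    rw [eq_top_iff]
    rintro ⟨g, hg⟩ -
    induction hg using closure_induction with
    | mem t ht => exact hall t ht
    | one => exact one_mem M
    | mul x y hx hy ihx ihy => exact mul_mem ihx ihy
    | inv x hx ih => exact inv_mem ih

include hO hX in
theorem false_of_ne : False := by
  classical
  have hse := D.se hO hX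
  haveI := D.simple_L hO hX
  obtain ⟨a, b, ha, -, ha1, -, -⟩ := D.exists_pair
  have hAL : A ≤ L₀ := fun c hc => by
    rcases eq_or_ne c 1 with rfl | h1
    · exact one_mem _
    · exact subset_closure (D.order hc h1)
  set a' : L₀ := ⟨a, hAL ha⟩
  have hS : A.subgroupOf L₀ ≤ centralizer ({a'} : Set L₀) := fun c hc =>
    mem_centralizer_singleton_iff.2 (Subtype.ext (D.comm (mem_subgroupOf.1 hc) ha))
  have hcA : Nat.card (A.subgroupOf L₀) = 4 := by rw [Nat.card_congr (subgroupOfEquivOfLe hAL).toEquiv, D.card]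
  haveI hNt : Nontrivial (A.subgroupOf L₀) :=
    Finite.one_lt_card_iff_nontrivial.1 (by rw [hcA]; norm_num)
  haveI hK : IsKleinFour (A.subgroupOf L₀) := ⟨hcA, by
    refine (Monoid.exponent_eq_prime_iff Nat.prime_two).2 fun c hc => ?_
    haveI : Fact (Nat.Prime 2) := ⟨Nat.prime_two⟩
    refine orderOf_eq_prime ?_ hc
    rw [pow_two]
    exact Subtype.ext (Subtype.ext (D.sq _ (mem_subgroupOf.1 c.2)))⟩
  have hodd : ¬ 2 ∣ (A.subgroupOf L₀).relIndex (centralizer ({a'} : Set L₀)) := fun h =>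
    D.index ((h.trans (relIndex_dvd_index_of_le hS)).trans (relIndex_dvd_index_of_le hAL))
  have hn : ((A.subgroupOf L₀).subgroupOf (centralizer ({a'} : Set L₀))).Normal := by
    refine ⟨fun c hc g => ?_⟩
    have hcA' : ((c : L₀) : R) ∈ A := mem_subgroupOf.1 (mem_subgroupOf.1 hc)
    have hg : ((g : L₀) : R) ∈ A ⊔ X := D.cent a ha ha1
      (mem_centralizer_singleton_iff.2 (congrArg Subtype.val (mem_centralizer_singleton_iff.1 g.2)))
    obtain ⟨d, hd, x, hx, e⟩ := D.exists_mul hg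
    have hcom : Commute ((g : L₀) : R) ((c : L₀) : R) := by
      rw [← e]; exact Commute.mul_left (D.comm hd hcA') (D.commute_A hO hX hx hcA')
    have : g * c * g⁻¹ = c := Subtype.ext (Subtype.ext (by
      show ((g : L₀) : R) * ((c : L₀) : R) * ((g : L₀) : R)⁻¹ = _
      exact hcom.mul_inv_cancel))
    rwa [this]
  obtain ⟨e⟩ := Cfsg.Agent.S3278.result a' (by rw [← Subgroup.orderOf_coe]; exact D.order ha ha1)
    (A.subgroupOf L₀) hS hK hodd hn
  have h15 : Nat.card {t : R // orderOf t = 2} = 15 := by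
    rw [← alt_five_invol]
    refine Nat.card_congr
      { toFun := fun t => ⟨e ⟨t.1, subset_closure t.2⟩, ?_, ?_⟩
        invFun := fun q => ⟨(e.symm q.1 : R), ?_⟩
        left_inv := fun t => Subtype.ext (by simp)
        right_inv := fun q => Subtype.ext (by simp) }
    · rw [← map_mul, ← pow_two, ← map_one e]
      refine congrArg e (Subtype.ext ?_)
      show (t : R) ^ 2 = 1
      exact orderOf_dvd_iff_pow_eq_one.1 (dvd_of_eq t.2)
    · intro h
      have h' := congrArg Subtype.val ((EmbeddingLike.map_eq_one_iff (f := e)).1 h)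
      have := t.2
      rw [show (t : R) = 1 from h', orderOf_one] at this
      omega
    · haveI : Fact (Nat.Prime 2) := ⟨Nat.prime_two⟩
      rw [Subgroup.orderOf_coe, MulEquiv.orderOf_eq]
      exact orderOf_eq_prime (by rw [pow_two]; exact q.2.1) q.2.2
  have hn5 : Nat.card (R ⧸ H₀) = 5 := by
    have := D.card_invol hO hX
    rw [h15] at this
    omega
  obtain ⟨⟨x, hx⟩, hx1'⟩ := Subgroup.ne_bot_iff_exists_ne_one.1 hX
  have hx1 : x ≠ 1 := fun h => hx1' (Subtype.ext h)
  refine hx1 ((D.faith hO hX) x fun p => ?_)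
  set o : R ⧸ H₀ := QuotientGroup.mk 1
  have hxo : x • o = o := smul_coset_one_eq.2 (le_normalizer hx)
  rcases eq_or_ne p o with rfl | hp
  · exact hxo
  have hne : ∀ c : R, c • o = o → c • p ≠ o := fun c hc h => hp (MulAction.injective c (h.trans hc.symm))
  have hinj : ∀ c : R, c ∈ A → c • p = p → c = 1 := fun c hc h => by
    by_contra h1
    exact hp (se_fixed_unique hse (D.order hc h1) h (smul_coset_one_eq.2 (D.norm hc)))
  haveI := Fintype.ofFinite A
  haveI := Fintype.ofFinite (R ⧸ H₀)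
  let f : A → {q : R ⧸ H₀ // q ≠ o} := fun c => ⟨(c : R) • p, hne c (smul_coset_one_eq.2 (D.norm c.2))⟩
  have hf : Function.Bijective f := by
    refine (Fintype.bijective_iff_injective_and_card f).2 ⟨fun c d h => Subtype.ext ?_, ?_⟩
    · have h' : (c : R) • p = (d : R) • p := congrArg Subtype.val h
      exact inv_mul_eq_one.1 (hinj _ (mul_mem (inv_mem c.2) d.2) (by rw [mul_smul, ← h', inv_smul_smul]))
    · rw [Fintype.card_subtype_compl, Fintype.card_subtype_eq, ← Nat.card_eq_fintype_card,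
        ← Nat.card_eq_fintype_card, D.card, hn5]
  obtain ⟨⟨c, hc⟩, hcp⟩ := hf.2 ⟨x • p, hne x hxo⟩
  have hxp : c • p = x • p := congrArg Subtype.val hcp
  have hiter : ∀ k : ℕ, (x ^ k) • p = (c ^ k) • p := by
    intro k
    induction k with
    | zero => simp
    | succ k ih =>
      rw [pow_succ, mul_smul, ← hxp, ← mul_smul, ((D.commute_A hO hX hx hc).pow_left k).eq, mul_smul, ih,
        ← mul_smul, ← pow_succ']
  obtain ⟨m, hm⟩ := D.odd.of_dvd_nat (Subgroup.orderOf_dvd_natCard X hx)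
  have h1 := hiter (orderOf x)
  rw [pow_orderOf_eq_one, one_smul, hm, pow_succ, pow_mul, pow_two, D.sq c hc, one_pow, one_mul] at h1
  rw [hinj c hc h1.symm, one_smul] at hxp
  exact hxp.symm

theorem eq_bot (hO : oddCore R = ⊥) : X = ⊥ := by
  by_contra hX
  exact D.false_of_ne hO hX

end FourData

end Cfsg.Lib.AltEightSyl
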