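import Cfsg.Agent.Lib.AltEightSyl.FourCore

/-!
# An odd subgroup carrying the centralisers of a four-group modulo the centre lies in the odd core
-/

set_option autoImplicit false
set_option linter.style.haveILetI false

namespace Cfsg.Lib.AltEightSyl

open Subgroup Cfsg

/-- An element centralising an involution modulo an odd kernel lifts to one centralising it. -/
theorem exists_cent_lift {R Q : Type*} [Group R] [Finite R] [Group Q] (f : R →* Q) (hk : Odd (Nat.card f.ker))
    {a y : R} (ha : a * a = 1) (hy : Commute (f y) (f a)) : ∃ y', f y' = f y ∧ Commute y' a := by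
  set k := y * a * y⁻¹ * a⁻¹ with hkdef
  have hkmem : k ∈ f.ker := by
    rw [MonoidHom.mem_ker, hkdef, map_mul, map_mul, map_mul, map_inv, map_inv, hy.eq]
    group
  have hai : a⁻¹ = a := inv_eq_of_mul_eq_one_right ha
  have hinv : a * k * a⁻¹ = k⁻¹ := by
    have hyy : y * a⁻¹ * y⁻¹ = y * a * y⁻¹ := by rw [hai]
    calc a * k * a⁻¹ = a * (y * a * y⁻¹) * (a⁻¹ * a⁻¹) := by rw [hkdef]; group
      _ = a * (y * a⁻¹ * y⁻¹) := by rw [hyy, ← mul_inv_rev, ha, inv_one, mul_one]
      _ = k⁻¹ := by rw [hkdef]; group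
  obtain ⟨m, hm⟩ := hk.of_dvd_nat (Subgroup.orderOf_dvd_natCard f.ker hkmem)
  set r := k ^ (m + 1) with hr
  have hr2 : r * r = k := by
    rw [hr, ← pow_two, ← pow_mul, show (m + 1) * 2 = orderOf k + 1 by omega, pow_succ, pow_orderOf_eq_one, one_mul]
  have hra : a * r * a⁻¹ = r⁻¹ := by rw [hr, ← conj_pow, hinv, inv_pow]
  refine ⟨r⁻¹ * y, by rw [map_mul, map_inv, hr, map_pow, MonoidHom.mem_ker.1 hkmem, one_pow, inv_one, one_mul], ?_⟩
  show r⁻¹ * y * a = a * (r⁻¹ * y)
  calc r⁻¹ * y * a = r⁻¹ * k * a * y := by rw [hkdef]; group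
    _ = r * a * y := by rw [← hr2]; group
    _ = a * (a⁻¹ * r * a) * y := by group
    _ = a * r⁻¹ * y := by
      rw [show a⁻¹ * r * a = a * r * a⁻¹ by rw [hai], hra]
    _ = a * (r⁻¹ * y) := by group

/-- The data passes to a quotient by an odd normal subgroup. -/
theorem FourData.map {R Q : Type*} [Group R] [Finite R] [Group Q] [Finite Q] {A X : Subgroup R}
    (D : FourData A X) (f : R →* Q) (hf : Function.Surjective f) (hk : Odd (Nat.card f.ker)) :
    FourData (A.map f) (X.map f) := by
  have hker : ∀ a ∈ A, f a = 1 → a = 1 := fun a ha he => by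
    by_contra h1
    exact Nat.not_even_iff_odd.2 hk (even_iff_two_dvd.2
      (D.order ha h1 ▸ Subgroup.orderOf_dvd_natCard f.ker (MonoidHom.mem_ker.2 he)))
  constructor
  · have hinj : Function.Injective (f.comp A.subtype) := (MonoidHom.ker_eq_bot_iff _).1
      (eq_bot_iff.2 fun a ha => Subtype.ext (hker a a.2 ha))
    rw [← A.range_subtype, MonoidHom.map_range, ← D.card]
    exact (Nat.card_congr (MonoidHom.ofInjective hinj).toEquiv).symm
  · rintro _ ⟨a, ha, rfl⟩
    rw [← map_mul, D.sq a ha, map_one]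
  · exact fun h => D.index (h.trans (index_map_dvd _ hf))
  · exact D.odd.of_dvd_nat (card_map_dvd X f)
  · rintro _ ⟨a, ha, rfl⟩
    exact le_normalizer_map f ⟨a, D.norm ha, rfl⟩
  · rintro _ ⟨a, ha, rfl⟩ hne g hg
    obtain ⟨y, rfl⟩ := hf g
    have ha1 : a ≠ 1 := fun h => hne (by rw [h, map_one])
    obtain ⟨y', hy', hc⟩ := exists_cent_lift f hk (D.sq a ha) (y := y) (mem_centralizer_singleton_iff.1 hg)
    rw [← hy', ← Subgroup.map_sup]
    exact mem_map_of_mem f (D.cent a ha ha1 (mem_centralizer_singleton_iff.2 hc.eq))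

set_option linter.unusedVariables false in
/-- FourEmb: an odd subgroup `X`, normalised by a proper subgroup containing the Sylow subgroup `A`,
such that `A ⊔ X` contains the centraliser of every element of `A` outside the central subgroup `V`
of index four in `A`, lies in the odd core. -/
theorem le_oddCore_of_four {Y : Type*} [Group Y] [Finite Y] (V : Subgroup Y) (hV : V ≤ Subgroup.center Y)
    (A : Sylow 2 Y) (hVA : V ≤ A) (hA : ∀ a ∈ (A : Subgroup Y), a * a = 1)
    (hidx : Nat.card (A : Subgroup Y) = 4 * Nat.card V) (H X : Subgroup Y)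
    (hH : H ≠ ⊤) (hAH : (A : Subgroup Y) ≤ H) (hXH : X ≤ H) (hXn : H ≤ Subgroup.normalizer (X : Set Y))
    (hXodd : Odd (Nat.card X))
    (hC : ∀ t ∈ (A : Subgroup Y), t ∉ V → ∃ v ∈ V, Subgroup.centralizer ({t * v} : Set Y) ≤ (A : Subgroup Y) ⊔ X) :
    X ≤ Cfsg.oddCore Y := by
  haveI : Fact (Nat.Prime 2) := ⟨Nat.prime_two⟩
  haveI hVn : V.Normal := ⟨fun v hv g => by rw [mem_center_iff.1 (hV hv) g, mul_inv_cancel_right]; exact hv⟩
  set mk := QuotientGroup.mk' V
  have hmk : Function.Surjective mk := QuotientGroup.mk'_surjective V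
  have hkerA : mk.ker ≤ (A : Subgroup Y) := by rw [QuotientGroup.ker_mk']; exact hVA
  -- the image satisfies the hypotheses
  have D : FourData ((A : Subgroup Y).map mk) (X.map mk) := by
    constructor
    · have h1 := card_mul_index ((A : Subgroup Y).map mk)
      rw [index_map_eq _ hmk hkerA] at h1
      have h2 := card_mul_index (A : Subgroup Y)
      rw [card_eq_card_quotient_mul_card_subgroup V, ← h1, hidx] at h2
      have hpos : 0 < Nat.card V * (A : Subgroup Y).index :=
        Nat.mul_pos Nat.card_pos (Nat.pos_of_ne_zero index_ne_zero_of_finite)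
      refine (Nat.eq_of_mul_eq_mul_right hpos ?_)
      calc Nat.card ((A : Subgroup Y).map mk) * (Nat.card V * (A : Subgroup Y).index)
          = Nat.card ((A : Subgroup Y).map mk) * (A : Subgroup Y).index * Nat.card V := by ring
        _ = 4 * Nat.card V * (A : Subgroup Y).index := h2.symm
        _ = _ := by ring
    · rintro _ ⟨a, ha, rfl⟩
      rw [← map_mul, hA a ha, map_one]
    · rw [index_map_eq _ hmk hkerA]; exact A.not_dvd_index
    · exact hXodd.of_dvd_nat (card_map_dvd X mk)
    · rintro _ ⟨a, ha, rfl⟩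
      exact le_normalizer_map mk ⟨a, hXn (hAH ha), rfl⟩
    · rintro _ ⟨a, ha, rfl⟩ hne g hg
      obtain ⟨y, rfl⟩ := hmk g
      have haV : a ∉ V := fun h => hne ((QuotientGroup.eq_one_iff a).2 h)
      obtain ⟨v, hv, hcv⟩ := hC a ha haV
      let N : Subgroup Y :=
        { carrier := {h | h * a * h⁻¹ * a⁻¹ ∈ V}
          one_mem' := by simp
          mul_mem' := fun {g h} hg hh => by
            have e : g * h * a * (g * h)⁻¹ * a⁻¹ = (g * (h * a * h⁻¹ * a⁻¹) * g⁻¹) * (g * a * g⁻¹ * a⁻¹) := by group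
            show g * h * a * (g * h)⁻¹ * a⁻¹ ∈ V
            rw [e]; exact mul_mem (hVn.conj_mem _ hh g) hg
          inv_mem' := fun {g} hg => by
            have e : g⁻¹ * a * g⁻¹⁻¹ * a⁻¹ = g⁻¹ * (g * a * g⁻¹ * a⁻¹)⁻¹ * g := by group
            show g⁻¹ * a * g⁻¹⁻¹ * a⁻¹ ∈ V
            rw [e]; simpa using hVn.conj_mem _ (inv_mem hg) g⁻¹ }
      have hAcomm : ∀ b ∈ (A : Subgroup Y), b * a * b⁻¹ * a⁻¹ = 1 := fun b hb => by
        have h := hA _ (mul_mem hb ha)
        rw [inv_eq_of_mul_eq_one_right (hA b hb), inv_eq_of_mul_eq_one_right (hA a ha), mul_assoc (b * a) b a]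
        exact h
      have hAN : (A : Subgroup Y) ≤ N := fun b hb => show _ ∈ V by rw [hAcomm b hb]; exact one_mem _
      let φ : N →* Y :=
        { toFun := fun h => (h : Y) * a * (h : Y)⁻¹ * a⁻¹
          map_one' := by simp
          map_mul' := fun g h => by
            have hc := mem_center_iff.1 (hV h.2) (g : Y)
            show (g : Y) * h * a * ((g : Y) * h)⁻¹ * a⁻¹ = _
            rw [show (g : Y) * h * a * ((g : Y) * h)⁻¹ * a⁻¹ =
              ((g : Y) * ((h : Y) * a * (h : Y)⁻¹ * a⁻¹) * (g : Y)⁻¹) * ((g : Y) * a * (g : Y)⁻¹ * a⁻¹) by group,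
              hc, mul_inv_cancel_right]
            exact (mem_center_iff.1 (hV h.2) _).symm }
      have hle : (A : Subgroup Y).subgroupOf N ≤ φ.ker := fun b hb => hAcomm _ (mem_subgroupOf.1 hb)
      have hrange : Odd (Nat.card φ.range) := by
        rw [← Subgroup.index_ker, ← Nat.not_even_iff_odd, even_iff_two_dvd]
        exact fun h => A.not_dvd_index ((h.trans (index_dvd_of_le hle)).trans (relIndex_dvd_index_of_le hAN))
      have hyN : y ∈ N := show y * a * y⁻¹ * a⁻¹ ∈ V from (QuotientGroup.eq_one_iff _).1 (by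
        have := mem_centralizer_singleton_iff.1 hg
        show mk (y * a * y⁻¹ * a⁻¹) = 1
        rw [map_mul, map_mul, map_mul, map_inv, map_inv, this, mul_inv_cancel_right, mul_inv_cancel])
      have h1 : y * a * y⁻¹ * a⁻¹ = 1 := by
        by_contra hne1
        have h2 : orderOf (y * a * y⁻¹ * a⁻¹) = 2 :=
          orderOf_eq_prime (by rw [pow_two]; exact hA _ (hVA hyN)) hne1
        exact Nat.not_even_iff_odd.2 hrange (even_iff_two_dvd.2
          (h2 ▸ Subgroup.orderOf_dvd_natCard φ.range ⟨⟨y, hyN⟩, rfl⟩))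
      have hya : Commute y a := mul_inv_eq_iff_eq_mul.1 (mul_inv_eq_one.1 h1)
      rw [← Subgroup.map_sup]
      refine mem_map_of_mem mk (hcv (mem_centralizer_singleton_iff.2 ?_))
      exact (hya.mul_right (show Commute y v from mem_center_iff.1 (hV hv) y)).eq
  -- pass to the quotient by the odd core
  set Q := Y ⧸ V
  set O := oddCore Q
  have hOodd : Odd (Nat.card O) := Nat.coprime_two_right.1 (Cfsg.Lib.Core.pPrimeCore_coprime 2 Q)
  have hbot := (D.map (QuotientGroup.mk' O) (QuotientGroup.mk'_surjective O)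
    (by rw [QuotientGroup.ker_mk']; exact hOodd)).eq_bot Cfsg.Lib.Core.pPrimeCore_quotient_eq_bot
  rw [Subgroup.map_eq_bot_iff, QuotientGroup.ker_mk'] at hbot
  -- the odd elements of the preimage form a normal odd subgroup
  set K := O.comap mk
  haveI hKn : K.Normal := Normal.comap (inferInstance : O.Normal) mk
  have hVK : V ≤ K := fun v hv => mem_comap.2 (by rw [show mk v = 1 from (QuotientGroup.eq_one_iff v).2 hv]; exact one_mem _)
  obtain ⟨n, hn⟩ := IsPGroup.iff_card.1 (A.isPGroup'.to_le hVA)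
  have hcard : Nat.card K = Nat.card O * Nat.card V := by
    rw [Cfsg.Lib.Core.card_comap_eq mk hmk, QuotientGroup.ker_mk', mul_comm]
  have hrel : (V.subgroupOf K).index = Nat.card O := by
    have h := card_mul_index (V.subgroupOf K)
    rw [Nat.card_congr (subgroupOfEquivOfLe hVK).toEquiv, hcard, mul_comm (Nat.card O)] at h
    exact Nat.eq_of_mul_eq_mul_left Nat.card_pos h
  obtain ⟨C, hC'⟩ := exists_right_complement'_of_coprime (N := V.subgroupOf K) (by
    rw [hrel, Nat.card_congr (subgroupOfEquivOfLe hVK).toEquiv, hn]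
    exact Nat.Coprime.pow_left _ (Nat.coprime_two_left.2 hOodd))
  have hCodd : Odd (Nat.card C) := by
    rw [← hC'.symm.index_eq_card, hrel]; exact hOodd
  have hmemC : ∀ k : K, Odd (orderOf k) → k ∈ C := by
    intro k hk
    obtain ⟨⟨v, c⟩, hvc⟩ := hC'.2 k
    simp only at hvc
    have hcom : Commute ((v : K)) ((c : K)) := Subtype.ext
      ((mem_center_iff.1 (hV (mem_subgroupOf.1 v.2)) ((c : K) : Y)).symm)
    have hv1 : (v : K) = 1 := by
      by_contra hne
      have h2 : orderOf (v : K) = 2 := orderOf_eq_prime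
        (by rw [pow_two]; exact Subtype.ext (hA _ (hVA (mem_subgroupOf.1 v.2)))) hne
      have e : (v : K) = k * (c : K)⁻¹ := eq_mul_inv_of_mul_eq hvc
      have hodd : Odd (orderOf (v : K)) := by
        rw [e]
        refine Odd.of_dvd_nat ?_ (Commute.orderOf_mul_dvd_mul_orderOf
          (by rw [← hvc]; exact ((hcom.mul_left (Commute.refl _)).inv_right)))
        rw [orderOf_inv]
        exact hk.mul (hCodd.of_dvd_nat (Subgroup.orderOf_dvd_natCard C c.2))
      rw [h2] at hodd
      exact absurd hodd (by decide)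
    rw [← hvc, hv1, one_mul]; exact c.2
  have hCn : (C.map K.subtype).Normal := by
    refine ⟨fun x hx g => ?_⟩
    obtain ⟨c, hc, rfl⟩ := hx
    refine ⟨⟨g * c * g⁻¹, hKn.conj_mem _ c.2 g⟩, hmemC _ ?_, rfl⟩
    rw [← Subgroup.orderOf_coe]
    show Odd (orderOf (g * (c : Y) * g⁻¹))
    rw [Invol.orderOf_conj_eq, Subgroup.orderOf_coe]
    exact hCodd.of_dvd_nat (Subgroup.orderOf_dvd_natCard C hc)
  refine le_trans (fun x hx => ?_) (Cfsg.Lib.Core.le_pPrimeCore' hCn
    (by rw [card_map_of_injective (subtype_injective _)]; exact Nat.coprime_two_right.2 hCodd))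
  have hxK : x ∈ K := mem_comap.2 (hbot (mem_map_of_mem mk hx))
  exact ⟨⟨x, hxK⟩, hmemC _ (by
    rw [← Subgroup.orderOf_coe]; exact hXodd.of_dvd_nat (Subgroup.orderOf_dvd_natCard X hx)), rfl⟩

end Cfsg.Lib.AltEightSyl
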