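import Cfsg.Agent.Lib.AltEightSyl.SigGen
import Cfsg.Agent.Lib.AltEightSyl.FourEmb
import Cfsg.Agent.Lib.EightThree.Tools

/-!
The centraliser of a four-group normalises the subgroup generated by its signalizers.
-/

set_option autoImplicit false
set_option linter.style.haveILetI false

namespace Cfsg.Lib.AltEightSyl

open Subgroup Cfsg Cfsg.Lib

/-- The centraliser of the four-group `{1, u, x, u * x}` normalises `W`. -/
theorem inf_centralizer_le {G : Type*} [Group G] [Finite G] (W A Z : Subgroup G) (u x : G)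
    (hWodd : Odd (Nat.card W)) (hsq : ∀ a ∈ A, a * a = 1) (h16 : Nat.card A = 16)
    (hAM : A ≤ normalizer (W : Set G))
    (huA : u ∈ A) (hxA : x ∈ A) (hu : u ≠ 1) (hx : x ≠ 1) (hux : u ≠ x)
    (hmax : ∀ R : Subgroup G, R ≤ centralizer {u} ⊓ centralizer {x} → IsPGroup 2 R → A ≤ R → R ≤ A)
    (hZA : Z ≤ A) (hZ4 : Nat.card Z = 4) (hZV : ∀ t ∈ Z, t = u ∨ t = x ∨ t = u * x → False)
    (hD : ∀ t ∈ Z, t ≠ 1 → centralizer {t} ⊓ (centralizer {u} ⊓ centralizer {x}) ≤
      A ⊔ (W ⊓ (centralizer {u} ⊓ centralizer {x})))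
    (hth : ∀ v, v = u ∨ v = x ∨ v = u * x → Syl34.th v ≤ W)
    (hcov : ∀ v, v = u ∨ v = x ∨ v = u * x → ∀ g ∈ centralizer {v}, ∃ o ∈ Syl34.th v,
      ∃ n ∈ centralizer {v}, g = o * n ∧ ∀ w, w = u ∨ w = x ∨ w = u * x →
        n * w * n⁻¹ = u ∨ n * w * n⁻¹ = x ∨ n * w * n⁻¹ = u * x) :
    centralizer {u} ⊓ centralizer {x} ≤ normalizer (W : Set G) := by
  classical
  haveI : Fact (Nat.Prime 2) := ⟨Nat.prime_two⟩
  by_contra hle
  set Y := centralizer ({u} : Set G) ⊓ centralizer ({x} : Set G) with hY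
  have hcA : ∀ a ∈ A, ∀ b ∈ A, Commute a b := fun a ha b hb => commute hsq ha hb
  have hAY : A ≤ Y := fun a ha => Subgroup.mem_inf.2
    ⟨mem_centralizer_singleton_iff.2 (hcA a ha u huA).eq, mem_centralizer_singleton_iff.2 (hcA a ha x hxA).eq⟩
  have hYc : ∀ y ∈ Y, Commute y u ∧ Commute y x ∧ Commute y (u * x) := fun y hy => by
    have h1 : Commute y u := mem_centralizer_singleton_iff.1 (Subgroup.mem_inf.1 hy).1
    have h2 : Commute y x := mem_centralizer_singleton_iff.1 (Subgroup.mem_inf.1 hy).2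
    exact ⟨h1, h2, h1.mul_right h2⟩
  let V : Subgroup G :=
    { carrier := {v | v = 1 ∨ v = u ∨ v = x ∨ v = u * x}
      one_mem' := Or.inl rfl
      mul_mem' := by
        have e : x * u = u * x := (hcA x hxA u huA).eq
        have hu2 := hsq u huA
        have hx2 := hsq x hxA
        have f1 : u * (u * x) = x := by rw [← mul_assoc, hu2, one_mul]
        have f2 : x * (u * x) = u := by rw [← mul_assoc, e, mul_assoc, hx2, mul_one]
        have f3 : u * x * u = x := by rw [mul_assoc, e, f1]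
        have f4 : u * x * x = u := by rw [mul_assoc, hx2, mul_one]
        have f5 : u * x * (u * x) = 1 := hsq _ (mul_mem huA hxA)
        intro a b ha hb
        simp only [Set.mem_setOf_eq] at ha hb ⊢
        rcases ha with rfl | rfl | rfl | rfl <;> rcases hb with rfl | rfl | rfl | rfl <;>
          simp only [one_mul, mul_one, hu2, hx2, e, f1, f2, f3, f4, f5, true_or, or_true]
      inv_mem' := by
        rintro a (rfl | rfl | rfl | rfl)
        · exact Or.inl inv_one
        · exact Or.inr (Or.inl (inv_eq_of_mul_eq_one_right (hsq _ huA)))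
        · exact Or.inr (Or.inr (Or.inl (inv_eq_of_mul_eq_one_right (hsq _ hxA))))
        · exact Or.inr (Or.inr (Or.inr (inv_eq_of_mul_eq_one_right (hsq _ (mul_mem huA hxA))))) }
  have hVA : V ≤ A := by
    rintro v (rfl | rfl | rfl | rfl)
    exacts [one_mem A, huA, hxA, mul_mem huA hxA]
  have hux1 : u * x ≠ 1 := fun e => hux (by
    rw [eq_inv_of_mul_eq_one_left e, inv_eq_of_mul_eq_one_right (hsq x hxA)])
  have hV4 : Nat.card V = 4 := by
    have hset : (V : Set G) = (({1, u, x, u * x} : Finset G) : Set G) := by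
      ext v; simp [V]
    rw [← SetLike.coe_sort_coe, hset, Nat.card_coe_set_eq, Set.ncard_coe_finset]
    rw [Finset.card_eq_of_equiv_fin]
    refine (Finset.equivFinOfCardEq ?_)
    simp [Ne.symm hu, Ne.symm hx, Ne.symm hux1, hux, hux.symm, hu, hx]
  -- the odd part of the centraliser
  set A' : Subgroup Y := A.subgroupOf Y
  have hA'p : IsPGroup 2 A' := fun a => ⟨1, Subtype.ext (Subtype.ext (by
    simpa [pow_two] using hsq _ (mem_subgroupOf.1 a.2)))⟩
  let SA : Sylow 2 Y :=
    { toSubgroup := A'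
      isPGroup' := hA'p
      is_maximal' := fun {R} hR hAR => le_antisymm (fun r hr => mem_subgroupOf.2
        (hmax (R.map Y.subtype) (map_subtype_le _) (hR.map _)
          (fun a ha => ⟨⟨a, hAY ha⟩, hAR (mem_subgroupOf.2 ha), rfl⟩) ⟨r, hr, rfl⟩)) hAR }
  have hcardA : Nat.card A' = 16 := (Nat.card_congr (subgroupOfEquivOfLe hAY).toEquiv).trans h16
  have hcardV : Nat.card (V.subgroupOf Y) = 4 :=
    (Nat.card_congr (subgroupOfEquivOfLe (hVA.trans hAY)).toEquiv).trans hV4
  have hX : (W ⊓ Y).subgroupOf Y ≤ Cfsg.oddCore ↥Y := by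
    refine le_oddCore_of_four (V.subgroupOf Y) ?_ SA (fun v hv => hVA hv) ?_ ?_
      ((normalizer (W : Set G)).subgroupOf Y) _ ?_ (fun a ha => hAM ha) ?_ ?_ ?_ ?_
    · intro v hv
      rw [mem_center_iff]
      intro y
      refine Subtype.ext ?_
      obtain ⟨h1, h2, h3⟩ := hYc y y.2
      rcases mem_subgroupOf.1 hv with e | e | e | e <;> rw [coe_mul, coe_mul, e]
      exacts [by simp, h1.eq, h2.eq, h3.eq]
    · exact fun a ha => Subtype.ext (hsq _ (mem_subgroupOf.1 ha))
    · rw [show Nat.card (SA : Subgroup Y) = Nat.card A' from rfl, hcardA, hcardV]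
    · exact fun e => hle (subgroupOf_eq_top.1 e)
    · intro y hy
      exact le_normalizer (show (y : G) ∈ W from (Subgroup.mem_inf.1 (mem_subgroupOf.1 hy)).1)
    · intro y hy
      refine mem_normalizer_fintype fun r hr => ?_
      have hr' := Subgroup.mem_inf.1 (mem_subgroupOf.1 hr)
      exact mem_subgroupOf.2 (Subgroup.mem_inf.2
        ⟨(mem_normalizer_iff.1 (mem_subgroupOf.1 hy) _).1 hr'.1, (y * r * y⁻¹).2⟩)
    · rw [Nat.card_congr (subgroupOfEquivOfLe inf_le_right).toEquiv]
      exact hWodd.of_dvd_nat (card_dvd_of_le inf_le_left)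
    · intro t ht htV
      have hVZ : V ⊔ Z = A := by
        refine eq_of_le_of_card_ge (sup_le hVA hZA) ?_
        have hinj : Function.Injective fun p : V × Z =>
            (⟨(p.1 : G) * p.2, mul_mem (mem_sup_left p.1.2) (mem_sup_right p.2.2)⟩ : ↥(V ⊔ Z)) := by
          rintro ⟨a, b⟩ ⟨c, d⟩ h
          have h' : (a : G) * b = c * d := congrArg Subtype.val h
          have hz : (c : G)⁻¹ * a = d * (b : G)⁻¹ := by
            calc (c : G)⁻¹ * a = (c : G)⁻¹ * (a * b) * (b : G)⁻¹ := by group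
              _ = d * (b : G)⁻¹ := by rw [h']; group
          have h1 : (c : G)⁻¹ * a = 1 := by
            rcases (mul_mem (inv_mem c.2) a.2 : (c : G)⁻¹ * a ∈ V) with e | e | e | e
            · exact e
            all_goals exact (hZV _ (hz ▸ mul_mem d.2 (inv_mem b.2)) (by simp [e])).elim
          have h2 : (d : G) * (b : G)⁻¹ = 1 := hz ▸ h1
          exact Prod.ext (Subtype.ext (inv_mul_eq_one.1 h1).symm) (Subtype.ext (mul_inv_eq_one.1 h2).symm)
        have := Nat.card_le_card_of_injective _ hinj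
        rw [Nat.card_prod, hV4, hZ4] at this
        rw [h16]; omega
      obtain ⟨v, hv, z, hz, hvz⟩ : ∃ v ∈ V, ∃ z ∈ Z, v * z = (t : G) := by
        let P : Subgroup G :=
          { carrier := {g | ∃ v ∈ V, ∃ z ∈ Z, v * z = g}
            one_mem' := ⟨1, one_mem V, 1, one_mem Z, one_mul 1⟩
            mul_mem' := by
              rintro _ _ ⟨v, hv, z, hz, rfl⟩ ⟨v', hv', z', hz', rfl⟩
              exact ⟨v * v', mul_mem hv hv', z * z', mul_mem hz hz',
                (hcA z (hZA hz) v' (hVA hv')).symm.mul_mul_mul_comm v z'⟩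
            inv_mem' := by
              rintro _ ⟨v, hv, z, hz, rfl⟩
              exact ⟨v⁻¹, inv_mem hv, z⁻¹, inv_mem hz, by
                rw [mul_inv_rev, ((hcA v (hVA hv) z (hZA hz)).inv_inv).eq]⟩ }
        have hP : V ⊔ Z ≤ P := sup_le (fun v hv => ⟨v, hv, 1, one_mem Z, mul_one v⟩)
          (fun z hz => ⟨1, one_mem V, z, hz, one_mul z⟩)
        exact hP (hVZ.symm ▸ mem_subgroupOf.1 ht)
      refine ⟨⟨v, hAY (hVA hv)⟩, mem_subgroupOf.2 hv, fun c hc => ?_⟩
      have htv : (t : G) * v = z := by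
        rw [← hvz, (hcA v (hVA hv) z (hZA hz)).eq, mul_assoc, hsq v (hVA hv), mul_one]
      have hz1 : z ≠ 1 := fun e => htV (mem_subgroupOf.2 (by rw [← hvz, e, mul_one]; exact hv))
      have hcz : (c : G) ∈ centralizer ({z} : Set G) := by
        rw [← htv]
        exact mem_centralizer_singleton_iff.2 (congrArg Subtype.val (mem_centralizer_singleton_iff.1 hc))
      have h := hD z hz hz1 (Subgroup.mem_inf.2 ⟨hcz, c.2⟩)
      have hle' : A ⊔ W ⊓ Y ≤ ((SA : Subgroup Y) ⊔ (W ⊓ Y).subgroupOf Y).map Y.subtype :=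
        sup_le (fun a ha => ⟨⟨a, hAY ha⟩, mem_sup_left (mem_subgroupOf.2 ha), rfl⟩)
          (fun a ha => ⟨⟨a, (Subgroup.mem_inf.1 ha).2⟩, mem_sup_right (mem_subgroupOf.2 ha), rfl⟩)
      obtain ⟨c', hc', e⟩ := hle' h
      rwa [← Y.subtype_injective e]
  set O := PNil.coreOf Y with hO
  have hXO : W ⊓ Y ≤ O := fun y hy => ⟨⟨y, (Subgroup.mem_inf.1 hy).2⟩, hX (mem_subgroupOf.2 hy), rfl⟩
  -- the core lies in the three signalizers
  have hOth : ∀ v, v = u ∨ v = x ∨ v = u * x → O ≤ Syl34.th v := by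
    intro v hv
    have hYv : Y ≤ centralizer ({v} : Set G) := fun y hy => by
      obtain ⟨h1, h2, h3⟩ := hYc y hy
      rcases hv with rfl | rfl | rfl
      exacts [mem_centralizer_singleton_iff.2 h1.eq, mem_centralizer_singleton_iff.2 h2.eq,
        mem_centralizer_singleton_iff.2 h3.eq]
    have hOC : O ≤ centralizer ({v} : Set G) := (PNil.coreOf_le Y).trans hYv
    have hn : O ≤ normalizer (Syl34.th v : Set G) := hOC.trans (Syl34.cent_le_norm_th v)
    refine le_trans le_sup_right (Syl34.le_th (R := Syl34.th v ⊔ O) (sup_le (Syl34.th_le v) hOC) ?_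
      (EightThree.odd_sup hn (Syl34.odd_th v) (PNil.coreOf_odd Y)))
    intro g hg
    obtain ⟨o, ho, n, hn', rfl, hperm⟩ := hcov v hv g hg
    refine mul_mem (le_normalizer (mem_sup_left (T := O) ho)) (EightThree.mem_normalizer_sup
      (Syl34.cent_le_norm_th v hn') (EightThree.normalizer_le_normalizer_coreOf Y ?_))
    refine mem_normalizer_fintype fun y hy => ?_
    obtain ⟨h1, h2, h3⟩ := hYc y hy
    have hVc : ∀ a, (a = u ∨ a = x ∨ a = u * x) → Commute y a := by
      rintro a (rfl | rfl | rfl) <;> assumption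
    -- `n⁻¹` permutes the three involutions as well
    have hinv : ∀ w, (w = u ∨ w = x ∨ w = u * x) → Commute (n * y * n⁻¹) w := by
      intro w hw
      have hinjn : Function.Injective fun a : {a : G // a = u ∨ a = x ∨ a = u * x} =>
          (⟨n * a.1 * n⁻¹, hperm a.1 a.2⟩ : {a : G // a = u ∨ a = x ∨ a = u * x}) := fun a b e =>
        Subtype.ext (mul_left_cancel (mul_right_cancel (congrArg Subtype.val e)))
      haveI : Finite {a : G // a = u ∨ a = x ∨ a = u * x} := inferInstance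
      obtain ⟨⟨a, ha⟩, e⟩ := Finite.injective_iff_surjective.1 hinjn ⟨w, hw⟩
      have e' : n * a * n⁻¹ = w := congrArg Subtype.val e
      rw [← e']
      exact (hVc a ha).map (MulAut.conj n).toMonoidHom
    exact Subgroup.mem_inf.2 ⟨mem_centralizer_singleton_iff.2 (hinv u (Or.inl rfl)).eq,
      mem_centralizer_singleton_iff.2 (hinv x (Or.inr (Or.inl rfl))).eq⟩
  -- the centralisers in `W` of the three involutions
  have hWv : ∀ v, v = u ∨ v = x ∨ v = u * x → W ⊓ centralizer ({v} : Set G) ≤ Syl34.th v := by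
    intro v hv d hd
    obtain ⟨hdW, hdv⟩ := Subgroup.mem_inf.1 hd
    obtain ⟨o, ho, n, hn, rfl, hperm⟩ := hcov v hv d hdv
    have hnv : n * v * n⁻¹ = v := by rw [mem_centralizer_singleton_iff.1 hn, mul_inv_cancel_right]
    have hinj : ∀ {a b}, n * a * n⁻¹ = n * b * n⁻¹ → a = b := fun e => mul_left_cancel (mul_right_cancel e)
    have hsqfix : ∀ w, (w = u ∨ w = x ∨ w = u * x) → n * (n * w * n⁻¹) * n⁻¹ = w := by
      intro w hw
      by_cases hwv : w = v
      · rw [hwv, hnv, hnv]
      by_cases hfix : n * w * n⁻¹ = w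
      · rw [hfix, hfix]
      have h1 := hperm w hw
      have h2 := hperm _ h1
      have hne1 : n * w * n⁻¹ ≠ v := fun e => hwv (hinj (e.trans hnv.symm))
      have hne2 : n * (n * w * n⁻¹) * n⁻¹ ≠ v := fun e => hne1 (hinj (e.trans hnv.symm))
      have hne3 : n * (n * w * n⁻¹) * n⁻¹ ≠ n * w * n⁻¹ := fun e => hfix (hinj e)
      generalize n * w * n⁻¹ = a at *
      generalize n * a * n⁻¹ = b at *
      rcases hv with rfl | rfl | rfl <;> rcases hw with rfl | rfl | rfl <;>
        rcases h1 with rfl | rfl | rfl <;> rcases h2 with rfl | rfl | rfl <;>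
        first | rfl | contradiction | simp_all
    have hn2 : n * n ∈ W ⊓ Y := by
      have hY2 : n * n ∈ Y := by
        refine Subgroup.mem_inf.2 ⟨?_, ?_⟩ <;> rw [mem_centralizer_singleton_iff, ← mul_inv_eq_iff_eq_mul]
        · rw [mul_inv_rev, show n * n * u * (n⁻¹ * n⁻¹) = n * (n * u * n⁻¹) * n⁻¹ by group]
          exact hsqfix u (Or.inl rfl)
        · rw [mul_inv_rev, show n * n * x * (n⁻¹ * n⁻¹) = n * (n * x * n⁻¹) * n⁻¹ by group]
          exact hsqfix x (Or.inr (Or.inl rfl))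
      refine Subgroup.mem_inf.2 ⟨?_, hY2⟩
      have h1 : n ∈ W := by
        have := mul_mem (inv_mem (hth v hv ho)) hdW
        rwa [inv_mul_cancel_left] at this
      exact mul_mem h1 h1
    refine Syl34.mem_of_pow_two (k := 1) ((hWodd).of_dvd_nat (orderOf_dvd_natCard W hdW)) ?_
    rw [pow_one, pow_two, show o * n * (o * n) = o * (n * o * n⁻¹) * (n * n) by group]
    exact mul_mem (mul_mem ho ((mem_normalizer_iff.1 (Syl34.cent_le_norm_th v hn) o).1 ho))
      (hOth v hv (hXO hn2))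
  -- generation
  haveI : IsMulCommutative V := ⟨⟨fun a b => Subtype.ext (hcA a (hVA a.2) b (hVA b.2)).eq⟩⟩
  have hWeq : W ≤ ⨆ v : {v : G // v = u ∨ v = x ∨ v = u * x}, Syl34.th (v : G) := by
    refine (Coprime.le_iSup_centralizer_cocyclic (A := V) W (hVA.trans hAM)
      (by rw [hV4]; exact (Nat.coprime_two_left.2 hWodd).pow_left 2)).trans (iSup₂_le fun B hB => ?_)
    obtain ⟨b, hb, hb1⟩ := B.bot_or_exists_ne_one.resolve_left
      (Sig.SSFT.cocyclic_ne_bot (p := 2) (fun a ha => by rw [sq]; exact hsq a (hVA ha)) (by rw [hV4]; norm_num) hB)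
    have hbv : b = u ∨ b = x ∨ b = u * x := (hB.1 hb).resolve_left hb1
    refine le_trans ?_ ((hWv b hbv).trans (le_iSup_of_le ⟨b, hbv⟩ le_rfl))
    exact inf_le_inf_left _ fun y hy =>
      mem_centralizer_singleton_iff.2 ((mem_centralizer_iff.1 hy) b hb).symm
  refine hle fun g hg => mem_normalizer_fintype fun w hw => ?_
  have hmap : (⨆ v : {v : G // v = u ∨ v = x ∨ v = u * x}, Syl34.th (v : G)).map (MulAut.conj g).toMonoidHom ≤ W := by
    rw [Subgroup.map_iSup]
    refine iSup_le fun v => ?_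
    rintro _ ⟨c, hc, rfl⟩
    obtain ⟨h1, h2, h3⟩ := hYc g hg
    have hgv : g ∈ centralizer ({(v : G)} : Set G) := mem_centralizer_singleton_iff.2 (by
      rcases v.2 with e | e | e <;> rw [e]
      exacts [h1.eq, h2.eq, h3.eq])
    exact hth v v.2 ((mem_normalizer_iff.1 (Syl34.cent_le_norm_th _ hgv) c).1 hc)
  exact hmap ⟨w, hWeq hw, rfl⟩

end Cfsg.Lib.AltEightSyl
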