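import Cfsg.Agent.Lib.AltEightSyl.Data
import Cfsg.Agent.Lib.EightThree.Tools
import Cfsg.Agent.Lib.Invol.SylowTools
import Cfsg.Agent.Lib.Invol.Basic
import Cfsg.Agent.S0111

/-!
# A Sylow 2-subgroup of the type of `A₈`, by indices, and the fusion it controls

Fully centralised conjugates of involutions, the unique elementary abelian subgroup of order sixteen, and
the control of fusion in it by its normaliser.
-/

set_option autoImplicit false
set_option linter.style.haveILetI false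
set_option linter.unusedSectionVars false
set_option maxRecDepth 100000

namespace Cfsg.Lib.AltEightSyl

open Cfsg Cfsg.Lib Subgroup

universe u

/-- A Sylow 2-subgroup indexed by the Sylow subgroup of `A₈`. -/
structure Frame (G : Type u) [Group G] where
  /-- the Sylow subgroup -/
  P : Sylow 2 G
  /-- the indexing -/
  f : Fin 64 → G
  inj : ∀ i j, f i = f j → i = j
  fmul : ∀ i j, f (aMul i j) = f i * f j
  mem_iff : ∀ g : G, g ∈ (P : Subgroup G) ↔ ∃ i, f i = g

theorem exists_frame {G : Type u} [Group G] [Finite G] (S : Sylow 2 G)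
    (hS : ∀ Q : Sylow 2 ↥(alternatingGroup (Fin 8)),
      Nonempty (↥(S : Subgroup G) ≃* ↥(Q : Subgroup ↥(alternatingGroup (Fin 8))))) :
    ∃ F : Frame G, F.P = S := by
  haveI : Fact (Nat.Prime 2) := ⟨Nat.prime_two⟩
  let ea : Fin 64 → ↥(alternatingGroup (Fin 8)) := fun i => ⟨el i, Equiv.Perm.mem_alternatingGroup.2 (el_sign i)⟩
  have hea : Function.Injective ea := fun i j h => el_injective (congrArg Subtype.val h)
  have hem : ∀ i j, ea (aMul i j) = ea i * ea j := fun i j => Subtype.ext (el_mul i j)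
  have h0 : ea 0 = 1 := by
    have h := hem 0 0
    rw [(aMul_inv 0).2.2.1] at h
    exact left_eq_mul.1 h
  let K : Subgroup ↥(alternatingGroup (Fin 8)) :=
    { carrier := Set.range ea
      one_mem' := ⟨0, h0⟩
      mul_mem' := by rintro _ _ ⟨i, rfl⟩ ⟨j, rfl⟩; exact ⟨_, hem i j⟩
      inv_mem' := by
        rintro _ ⟨i, rfl⟩
        exact ⟨aInv i, eq_inv_of_mul_eq_one_left (by rw [← hem, (aMul_inv i).2.1, h0])⟩ }
  have hK : Nat.card K = 64 := by
    show Nat.card (Set.range ea) = 64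
    rw [Nat.card_range_of_injective hea, Nat.card_fin]
  have hfac : 2 ^ (Nat.card ↥(alternatingGroup (Fin 8))).factorization 2 = 64 := by
    rw [nat_card_alternatingGroup, Nat.card_eq_fintype_card, Fintype.card_fin,
      show (Nat.factorial 8) / 2 = 2 ^ 6 * 315 by decide, Nat.factorization_mul (by norm_num) (by norm_num),
      Finsupp.add_apply, Nat.Prime.factorization_pow Nat.prime_two, Finsupp.single_eq_same,
      Nat.factorization_eq_zero_of_not_dvd (show ¬ 2 ∣ 315 by norm_num)]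
    norm_num
  obtain ⟨φ⟩ := hS (Sylow.ofCard K (by rw [hK, hfac]))
  have hmem : ∀ i, ea i ∈ ((Sylow.ofCard K (by rw [hK, hfac]) : Sylow 2 _) : Subgroup _) := fun i => by
    show ea i ∈ K
    exact Set.mem_range_self i
  let f : Fin 64 → G := fun i => ((φ.symm ⟨ea i, hmem i⟩ : (S : Subgroup G)) : G)
  refine ⟨⟨S, f, fun i j h => hea ?_, fun i j => ?_, fun g => ⟨fun hg => ?_, ?_⟩⟩, rfl⟩
  · exact congrArg Subtype.val (φ.symm.injective (Subtype.ext h))
  · show _ = ((φ.symm _ : (S : Subgroup G)) : G) * ((φ.symm _ : (S : Subgroup G)) : G)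
    rw [← coe_mul, ← map_mul]
    exact congrArg (fun x => ((φ.symm x : (S : Subgroup G)) : G)) (Subtype.ext (hem i j))
  · obtain ⟨i, hi⟩ : ((φ ⟨g, hg⟩ : ↥(alternatingGroup (Fin 8)))) ∈ Set.range ea := (φ ⟨g, hg⟩).2
    refine ⟨i, ?_⟩
    show ((φ.symm ⟨ea i, hmem i⟩ : (S : Subgroup G)) : G) = g
    rw [show (⟨ea i, hmem i⟩ : ((Sylow.ofCard K (by rw [hK, hfac]) : Sylow 2 _) : Subgroup _)) = φ ⟨g, hg⟩ from
      Subtype.ext hi, MulEquiv.symm_apply_apply]
  · rintro ⟨i, rfl⟩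
    exact SetLike.coe_mem _

namespace Frame

variable {G : Type u} [Group G] (F : Frame G)

/-- The central involution. -/
def z : G := F.f 5

theorem fone : F.f 0 = 1 := by
  have h := F.fmul 0 0
  rw [(aMul_inv 0).2.2.1] at h
  exact left_eq_mul.1 h

theorem finv (i : Fin 64) : F.f (aInv i) = (F.f i)⁻¹ :=
  eq_inv_of_mul_eq_one_left (by rw [← F.fmul, (aMul_inv i).2.1, F.fone])

theorem fconj (h i : Fin 64) : F.f (aConj h i) = F.f h * F.f i * (F.f h)⁻¹ := by
  rw [aConj, F.fmul, F.fmul, F.finv]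

theorem fcomm (i j : Fin 64) : F.f (aComm i j) = F.f i * F.f j * ((F.f i)⁻¹ * (F.f j)⁻¹) := by
  rw [aComm, F.fmul, F.fmul, F.fmul, F.finv, F.finv]

theorem f_mem (i : Fin 64) : F.f i ∈ (F.P : Subgroup G) := (F.mem_iff _).2 ⟨i, rfl⟩

theorem comm_iff (i j : Fin 64) : Commute (F.f i) (F.f j) ↔ aCm i j = true := by
  simp only [aCm, beq_iff_eq]
  refine ⟨fun h => F.inj _ _ (by rw [F.fmul, F.fmul]; exact h), fun h => ?_⟩
  show F.f i * F.f j = F.f j * F.f i
  rw [← F.fmul, h, F.fmul]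

theorem eq_one_iff (i : Fin 64) : F.f i = 1 ↔ i = 0 :=
  ⟨fun h => F.inj _ _ (h.trans F.fone.symm), fun h => h ▸ F.fone⟩

theorem sq_iff (i : Fin 64) : F.f i * F.f i = 1 ↔ aMul i i = 0 := by
  rw [← F.fmul, F.eq_one_iff]

theorem order_two_iff (i : Fin 64) : orderOf (F.f i) = 2 ↔ aCl i ≠ 0 := by
  rw [← (aCl_facts i).1, ← F.sq_iff]
  exact ⟨fun h => ⟨Invol.inv_mul_self h, fun h0 => Invol.ne_one h ((F.eq_one_iff i).2 h0)⟩,
    fun h => Invol.orderOf_eq_two_of (fun h1 => h.2 ((F.eq_one_iff i).1 h1)) h.1⟩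

theorem exists_idx {g : G} (hg : g ∈ (F.P : Subgroup G)) (h2 : orderOf g = 2) :
    ∃ i, F.f i = g ∧ aCl i ≠ 0 := by
  obtain ⟨i, rfl⟩ := (F.mem_iff g).1 hg
  exact ⟨i, rfl, (F.order_two_iff i).1 h2⟩

theorem z_mem : F.z ∈ (F.P : Subgroup G) := F.f_mem 5

theorem orderOf_z : orderOf F.z = 2 := (F.order_two_iff 5).2 (by decide +kernel)

theorem comm_z (i : Fin 64) : Commute F.z (F.f i) := (F.comm_iff 5 i).2 (centre_facts.1 i)

theorem z_unique {g : G} (hg : g ∈ (F.P : Subgroup G)) (hc : ∀ s ∈ (F.P : Subgroup G), s * g = g * s)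
    (h2 : orderOf g = 2) : g = F.z := by
  obtain ⟨i, rfl⟩ := (F.mem_iff g).1 hg
  rcases centre_facts.2 i (fun j => (F.comm_iff i j).1 (hc _ (F.f_mem j)).symm) with rfl | rfl
  · rw [F.fone, orderOf_one] at h2
    norm_num at h2
  · rfl

theorem P_le_centralizer : (F.P : Subgroup G) ≤ centralizer ({F.z} : Set G) := fun g hg => by
  obtain ⟨i, rfl⟩ := (F.mem_iff g).1 hg
  exact mem_centralizer_singleton_iff.2 (F.comm_z i).symm

/-- Two indices with conjugate elements. -/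
def Cj (i j : Fin 64) : Prop := IsConj (F.f i) (F.f j)

theorem cj_cl {i : Fin 64} (hi : aCl i ≠ 0) : F.Cj (aCl i) i := by
  obtain ⟨h, -, hh⟩ := List.any_eq_true.1 (aCl_wit i hi)
  exact isConj_iff.2 ⟨F.f h, by rw [← F.fconj, beq_iff_eq.1 hh]⟩

theorem cj_same {i j : Fin 64} (hi : aCl i ≠ 0) (h : aCl i = aCl j) : F.Cj i j :=
  (F.cj_cl hi).symm.trans (h ▸ F.cj_cl (h ▸ hi))

theorem cj_of_conj {g : G} {i j : Fin 64} (h : g * F.f i * g⁻¹ = F.f j) : F.Cj i j :=
  isConj_iff.2 ⟨g, h⟩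

/-- Composition with an automorphism of the Sylow subgroup. -/
def precomp (α : Fin 64 → Fin 64) (hm : ∀ i j, α (aMul i j) = aMul (α i) (α j))
    (hi : Function.Injective α) : Frame G where
  P := F.P
  f := fun i => F.f (α i)
  inj := fun i j e => hi (F.inj _ _ e)
  fmul := fun i j => by rw [hm, F.fmul]
  mem_iff := fun g => by
    rw [F.mem_iff]
    refine ⟨fun ⟨i, e⟩ => ?_, fun ⟨i, e⟩ => ⟨α i, e⟩⟩
    obtain ⟨j, rfl⟩ := (Finite.injective_iff_surjective.1 hi) i
    exact ⟨j, e⟩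

/-- The subgroup of a closed set of indices. -/
def sub (p : Fin 64 → Bool) (h0 : p 0 = true) (hm : ∀ i j, p i = true → p j = true → p (aMul i j) = true)
    (hv : ∀ i, p i = true → p (aInv i) = true) : Subgroup G where
  carrier := {g | ∃ i, p i = true ∧ F.f i = g}
  one_mem' := ⟨0, h0, F.fone⟩
  mul_mem' := by
    rintro _ _ ⟨i, hi, rfl⟩ ⟨j, hj, rfl⟩
    exact ⟨aMul i j, hm i j hi hj, F.fmul i j⟩
  inv_mem' := by
    rintro _ ⟨i, hi, rfl⟩
    exact ⟨aInv i, hv i hi, F.finv i⟩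

theorem card_of_pred (p : Fin 64 → Bool) (K : Subgroup G)
    (hK : ∀ g, g ∈ K ↔ ∃ i, p i = true ∧ F.f i = g) : Nat.card K = ((List.finRange 64).filter p).length := by
  let Φ : {i : Fin 64 // p i = true} → K := fun i => ⟨F.f i.1, (hK _).2 ⟨i.1, i.2, rfl⟩⟩
  have hΦ : Function.Bijective Φ := by
    refine ⟨fun i j h => Subtype.ext (F.inj _ _ (congrArg Subtype.val h)), ?_⟩
    rintro ⟨g, hg⟩
    obtain ⟨i, hi, rfl⟩ := (hK g).1 hg
    exact ⟨⟨i, hi⟩, rfl⟩
  rw [← Nat.card_eq_of_bijective Φ hΦ, Nat.card_eq_fintype_card, Fintype.card_subtype,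
    ← List.toFinset_card_of_nodup ((List.nodup_finRange 64).filter p)]
  congr 1
  ext i
  simp

theorem card_P : Nat.card (F.P : Subgroup G) = 64 :=
  (F.card_of_pred (fun _ => true) _ (fun g => by rw [F.mem_iff]; simp)).trans (by decide +kernel)

/-- The centraliser of an indexed element in the Sylow subgroup. -/
def centS (v : Fin 64) : Subgroup G := (F.P : Subgroup G) ⊓ centralizer ({F.f v} : Set G)

theorem mem_centS (v : Fin 64) (g : G) : g ∈ F.centS v ↔ ∃ i, aCm v i = true ∧ F.f i = g := by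
  simp only [centS, mem_inf, mem_centralizer_singleton_iff, F.mem_iff]
  constructor
  · rintro ⟨⟨i, rfl⟩, h⟩
    exact ⟨i, (F.comm_iff v i).1 h.symm, rfl⟩
  · rintro ⟨i, hc, rfl⟩
    exact ⟨⟨i, rfl⟩, ((F.comm_iff v i).2 hc).eq.symm⟩

theorem card_centS (v : Fin 64) :
    Nat.card (F.centS v) = ((List.finRange 64).filter (aCm v)).length :=
  F.card_of_pred _ _ (F.mem_centS v)

/-- The elementary abelian subgroup of order sixteen. -/
def aGrp : Subgroup G :=
  F.sub inA sub_facts.1.1 (fun i j hi hj => (sub_facts.1.2.1 i j hi hj).1) (fun i hi => (sub_facts.1.2.2.1 i hi).1)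

theorem f_mem_aGrp {i : Fin 64} (hi : inA i = true) : F.f i ∈ F.aGrp := ⟨i, hi, rfl⟩

theorem mem_aGrp_iff {i : Fin 64} : F.f i ∈ F.aGrp ↔ inA i = true :=
  ⟨fun ⟨j, hj, e⟩ => F.inj j i e ▸ hj, F.f_mem_aGrp⟩

theorem aGrp_le : F.aGrp ≤ (F.P : Subgroup G) := by
  rintro _ ⟨i, -, rfl⟩
  exact F.f_mem i

theorem card_aGrp : Nat.card F.aGrp = 16 :=
  (F.card_of_pred inA _ fun _ => Iff.rfl).trans sub_facts.1.2.2.2

theorem aGrp_sq {a : G} (ha : a ∈ F.aGrp) : a * a = 1 := by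
  obtain ⟨i, hi, rfl⟩ := ha
  exact (F.sq_iff i).2 (sub_facts.1.2.2.1 i hi).2

theorem aGrp_comm {a b : G} (ha : a ∈ F.aGrp) (hb : b ∈ F.aGrp) : Commute a b := by
  obtain ⟨i, hi, rfl⟩ := ha
  obtain ⟨j, hj, rfl⟩ := hb
  exact (F.comm_iff i j).2 (by simp only [aCm, beq_iff_eq]; exact (sub_facts.1.2.1 i j hi hj).2)

theorem z_mem_aGrp : F.z ∈ F.aGrp := F.f_mem_aGrp (by decide +kernel)

theorem aGrp_le_centralizer {a : G} (ha : a ∈ F.aGrp) : F.aGrp ≤ centralizer ({a} : Set G) :=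
  fun _ hb => mem_centralizer_singleton_iff.2 (F.aGrp_comm hb ha).eq

/-- An elementary abelian subgroup of order sixteen of the Sylow subgroup is the distinguished one. -/
theorem eq_aGrp {E : Subgroup G} (hE : E ≤ (F.P : Subgroup G)) (hcomm : ∀ x ∈ E, ∀ y ∈ E, Commute x y)
    (hsq : ∀ x ∈ E, x * x = 1) (h16 : Nat.card E = 16) : E = F.aGrp := by
  haveI : Finite F.P := Nat.finite_of_card_ne_zero (by rw [F.card_P]; norm_num)
  haveI : Finite F.aGrp := Nat.finite_of_card_ne_zero (by rw [F.card_aGrp]; norm_num)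
  refine eq_of_le_of_card_ge (fun x hx => ?_) (by rw [h16, F.card_aGrp])
  obtain ⟨i, rfl⟩ := (F.mem_iff x).1 (hE hx)
  by_contra hA
  have hiA : inA i ≠ true := fun h => hA (F.f_mem_aGrp h)
  have hi : aCl i ≠ 0 := (aCl_facts i).1.1 ⟨(F.sq_iff i).1 (hsq _ hx), fun h => hiA (h ▸ sub_facts.1.1)⟩
  have hcls : aCl i = 16 ∨ aCl i = 32 ∨ aCl i = 48 := by
    have := (aCl_facts i).2 hi
    by_contra hc
    push Not at hc
    exact hiA (this.2.1.2 hc)
  have hle : E ≤ F.centS i := fun y hy => mem_inf.2 ⟨hE hy, mem_centralizer_singleton_iff.2 (hcomm y hy _ hx).eq⟩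
  haveI : Finite (F.centS i) := Nat.finite_of_card_ne_zero (by
    rw [F.card_centS, ((card_cent i hi).2.2.2 hcls).1]; norm_num)
  have heq : E = F.centS i :=
    eq_of_le_of_card_ge hle (by rw [h16, F.card_centS, ((card_cent i hi).2.2.2 hcls).1])
  obtain ⟨j, hj, hk'⟩ := List.any_eq_true.1 (cent_nonab i hcls)
  obtain ⟨k, hk, e⟩ := List.any_eq_true.1 hk'
  have hj' : F.f j ∈ E := heq ▸ (F.mem_centS i _).2 ⟨j, (List.mem_filter.1 hj).2, rfl⟩
  have hk'' : F.f k ∈ E := heq ▸ (F.mem_centS i _).2 ⟨k, (List.mem_filter.1 hk).2, rfl⟩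
  have h1 := F.fcomm j k
  rw [beq_iff_eq.1 e, (hcomm _ hj' _ hk'').eq] at h1
  have h2 : F.f 5 = 1 := h1.trans (by group)
  exact absurd ((F.eq_one_iff 5).1 h2) (by decide)

variable [Finite G]

/-- An element moving the subgroup of order sixteen into the Sylow subgroup normalises it. -/
theorem mem_normalizer_of_le {g : G} (hg : ∀ a ∈ F.aGrp, g * a * g⁻¹ ∈ (F.P : Subgroup G)) :
    g ∈ normalizer (F.aGrp : Set G) := by
  have he : F.aGrp.map (MulAut.conj g).toMonoidHom = F.aGrp := by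
    refine F.eq_aGrp ?_ ?_ ?_ ?_
    · rintro _ ⟨a, ha, rfl⟩; exact hg a ha
    · rintro _ ⟨a, ha, rfl⟩ _ ⟨b, hb, rfl⟩; exact (F.aGrp_comm ha hb).map _
    · rintro _ ⟨a, ha, rfl⟩; rw [← map_mul, F.aGrp_sq ha, map_one]
    · rw [card_map_of_injective (MulAut.conj g).injective, F.card_aGrp]
  exact EightThree.mem_normalizer_of_forall fun a ha => he.le ⟨a, ha, rfl⟩

theorem P_le_normalizer : (F.P : Subgroup G) ≤ normalizer (F.aGrp : Set G) := fun g hg =>
  F.mem_normalizer_of_le fun a ha => mul_mem (mul_mem hg (F.aGrp_le ha)) (inv_mem hg)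

/-- An element of the normaliser of the subgroup of order sixteen, by indices. -/
theorem exists_normalizer_idx {n : G} (hn : n ∈ normalizer (F.aGrp : Set G)) {i : Fin 64} (hi : inA i = true) :
    ∃ j, inA j = true ∧ n * F.f i * n⁻¹ = F.f j := by
  obtain ⟨j, hj, e⟩ := (mem_normalizer_iff.1 hn _).1 (F.f_mem_aGrp hi)
  exact ⟨j, hj, e.symm⟩

/-- The normaliser of the subgroup of order sixteen controls the fusion of its subsets. -/
theorem fusion {g : G} (s : Set G) (hs : s ⊆ F.aGrp) (h : ∀ x ∈ s, g * x * g⁻¹ ∈ F.aGrp) :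
    ∃ n ∈ normalizer (F.aGrp : Set G), ∀ x ∈ s, n * x * n⁻¹ = g * x * g⁻¹ := by
  haveI : Fact (Nat.Prime 2) := ⟨Nat.prime_two⟩
  set C := centralizer ((fun x => g * x * g⁻¹) '' s) with hC
  have h1 : F.aGrp ≤ C := fun a ha => mem_centralizer_iff.2 (by
    rintro _ ⟨x, hx, rfl⟩
    exact (F.aGrp_comm (h x hx) ha).eq)
  have h2 : F.aGrp.map (MulAut.conj g).toMonoidHom ≤ C := by
    rintro _ ⟨a, ha, rfl⟩
    refine mem_centralizer_iff.2 ?_
    rintro _ ⟨x, hx, rfl⟩
    exact ((F.aGrp_comm (hs hx) ha).map (MulAut.conj g).toMonoidHom).eq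
  have hAp : IsPGroup 2 F.aGrp := F.P.isPGroup'.to_le F.aGrp_le
  obtain ⟨R, hR⟩ := (hAp.comap_of_injective C.subtype C.subtype_injective :
    IsPGroup 2 (F.aGrp.subgroupOf C)).exists_le_sylow
  obtain ⟨c, hc⟩ := Invol.exists_conj_mem_sylow R ((hAp.map (MulAut.conj g).toMonoidHom).comap_of_injective C.subtype
    C.subtype_injective : IsPGroup 2 ((F.aGrp.map (MulAut.conj g).toMonoidHom).subgroupOf C))
  obtain ⟨d, hd⟩ := Invol.exists_conj_mem_sylow F.P (R.isPGroup'.map C.subtype)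
  have hdn : d ∈ normalizer (F.aGrp : Set G) := F.mem_normalizer_of_le fun a ha =>
    hd a ⟨⟨a, h1 ha⟩, hR ha, rfl⟩
  have hdc : d * ((c : G) * g) ∈ normalizer (F.aGrp : Set G) := F.mem_normalizer_of_le fun a ha => by
    have h3 : g * a * g⁻¹ ∈ F.aGrp.map (MulAut.conj g).toMonoidHom := ⟨a, ha, rfl⟩
    have h4 : c * ⟨g * a * g⁻¹, h2 h3⟩ * c⁻¹ ∈ (R : Subgroup C) := hc ⟨_, h2 h3⟩ h3
    have h5 := hd _ ⟨_, h4, rfl⟩
    simp only [coe_subtype, Subgroup.coe_mul, InvMemClass.coe_inv] at h5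
    convert h5 using 1
    group
  refine ⟨(c : G) * g, by simpa using mul_mem (inv_mem hdn) hdc, fun x hx => ?_⟩
  have hcx : Commute (g * x * g⁻¹) (c : G) := mem_centralizer_iff.1 c.2 _ ⟨x, hx, rfl⟩
  calc (c : G) * g * x * ((c : G) * g)⁻¹ = c * (g * x * g⁻¹) * (c : G)⁻¹ := by group
    _ = g * x * g⁻¹ := by rw [← hcx.eq]; group

theorem fusion_one {i j : Fin 64} (hi : inA i = true) (hj : inA j = true) (h : F.Cj i j) :
    ∃ n ∈ normalizer (F.aGrp : Set G), n * F.f i * n⁻¹ = F.f j := by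
  obtain ⟨g, hg⟩ := isConj_iff.1 h
  obtain ⟨n, hn, e⟩ := F.fusion (g := g) {F.f i} (Set.singleton_subset_iff.2 (F.f_mem_aGrp hi))
    (fun x hx => by rw [Set.mem_singleton_iff.1 hx, hg]; exact F.f_mem_aGrp hj)
  exact ⟨n, hn, (e _ rfl).trans hg⟩

/-- An element of the normaliser whose fourth power centralises the subgroup of order sixteen has its
square centralising it. -/
theorem sq_fix {n : G} (hn : n ∈ normalizer (F.aGrp : Set G))
    (h4 : ∀ a ∈ F.aGrp, Commute (n ^ 4) a) {a : G} (ha : a ∈ F.aGrp) : Commute (n ^ 2) a := by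
  haveI : Fact (Nat.Prime 2) := ⟨Nat.prime_two⟩
  obtain ⟨k, l, hl, hkl⟩ := Nat.exists_eq_two_pow_mul_odd (orderOf_pos n).ne'
  set N := normalizer (F.aGrp : Set G)
  -- the 2-part is conjugate into the Sylow subgroup inside the normaliser
  have h2 : IsPGroup 2 (zpowers (n ^ l)) := by
    have hd : orderOf (n ^ l) ∣ 2 ^ k := orderOf_dvd_of_pow_eq_one (by
      rw [← pow_mul, mul_comm, ← hkl, pow_orderOf_eq_one])
    obtain ⟨m, -, hm⟩ := (Nat.dvd_prime_pow Nat.prime_two).1 hd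
    exact IsPGroup.of_card (n := m) (by rw [Nat.card_zpowers, hm])
  obtain ⟨c, hc, hcP⟩ := EightThree.exists_conj_le F.P_le_normalizer F.P.isPGroup'
    (fun R _ hR hle => (F.P.3 hR hle).le) (zpowers_le.2 (pow_mem hn l)) h2
  have hfix : ∀ b ∈ F.aGrp, Commute (n ^ l * n ^ l) b := by
    intro b hb
    obtain ⟨i, hi⟩ := (F.mem_iff _).1 (hcP _ (mem_zpowers _))
    obtain ⟨j, hj, hbj⟩ := (mem_normalizer_iff.1 hc b).1 hb
    have h1 : Commute (F.f (aMul i i)) (F.f j) := (F.comm_iff _ _).2 (sq_cm i j hj)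
    rw [F.fmul, hi, hbj, show c * n ^ l * c⁻¹ * (c * n ^ l * c⁻¹) = c * (n ^ l * n ^ l) * c⁻¹ by group] at h1
    exact (Commute.conj_iff c).1 h1
  -- the square lies in the group generated by this and the fourth power
  have h2l : Commute (n ^ (2 * l)) a := by
    rw [two_mul, pow_add]
    exact hfix a ha
  obtain ⟨m, hm⟩ := hl
  have e : n ^ (2 * l) = (n ^ 4) ^ m * n ^ 2 := by
    rw [← pow_mul, ← pow_add, hm]
    congr 1
    omega
  rw [e] at h2l
  have h4m : Commute ((n ^ 4) ^ m)⁻¹ a := ((h4 a ha).pow_left m).inv_left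
  have := h4m.mul_left h2l
  rwa [inv_mul_cancel_left] at this
where
  sq_cm : ∀ i j : Fin 64, inA j = true → aCm (aMul i i) j = true := by decide +kernel

/-- A conjugate in the Sylow subgroup whose centraliser there is a Sylow subgroup of the centraliser. -/
theorem exists_full {u : Fin 64} (hu : aCl u ≠ 0) :
    ∃ (g : G) (j : Fin 64), g * F.f u * g⁻¹ = F.f j ∧
      (∀ i, aCm u i = true → ∃ k, g * F.f i * g⁻¹ = F.f k) ∧
      ∀ R : Subgroup G, IsPGroup 2 R → R ≤ centralizer ({F.f j} : Set G) → Nat.card R ≤ Nat.card (F.centS j) := by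
  haveI : Fact (Nat.Prime 2) := ⟨Nat.prime_two⟩
  set C := centralizer ({F.f u} : Set G) with hC
  obtain ⟨R₀, hR₀⟩ := (((F.P.isPGroup'.to_le inf_le_left : IsPGroup 2 (F.centS u))).comap_of_injective C.subtype
    C.subtype_injective : IsPGroup 2 ((F.centS u).subgroupOf C)).exists_le_sylow
  obtain ⟨g, hg⟩ := Invol.exists_conj_mem_sylow F.P (R₀.isPGroup'.map C.subtype)
  have hcu : ∀ i, aCm u i = true → F.f i ∈ ((R₀ : Subgroup C).map C.subtype) := fun i hi =>
    ⟨⟨F.f i, mem_centralizer_singleton_iff.2 ((F.comm_iff u i).2 hi).eq.symm⟩,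
      hR₀ ((F.mem_centS u _).2 ⟨i, hi, rfl⟩), rfl⟩
  obtain ⟨j, hj⟩ := (F.mem_iff _).1 (hg _ (hcu u (by simp [aCm])))
  refine ⟨g, j, hj.symm, fun i hi => ?_, fun R hR hRC => ?_⟩
  · obtain ⟨k, hk⟩ := (F.mem_iff _).1 (hg _ (hcu i hi))
    exact ⟨k, hk.symm⟩
  · have hle : R.map (MulAut.conj g⁻¹).toMonoidHom ≤ C := by
      rintro _ ⟨r, hr, rfl⟩
      refine mem_centralizer_singleton_iff.2 ?_
      have h1 : Commute r (g * F.f u * g⁻¹) := hj ▸ mem_centralizer_singleton_iff.1 (hRC hr)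
      have h2 := h1.map (MulAut.conj g⁻¹).toMonoidHom
      simp only [MulEquiv.coe_toMonoidHom, MulAut.conj_apply, inv_inv] at h2 ⊢
      rw [show g⁻¹ * (g * F.f u * g⁻¹) * g = F.f u by group] at h2
      exact h2.eq
    obtain ⟨S', hS'⟩ := ((hR.map (MulAut.conj g⁻¹).toMonoidHom).comap_of_injective C.subtype
      C.subtype_injective : IsPGroup 2 ((R.map (MulAut.conj g⁻¹).toMonoidHom).subgroupOf C)).exists_le_sylow
    calc Nat.card R = Nat.card (R.map (MulAut.conj g⁻¹).toMonoidHom) :=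
          (card_map_of_injective (MulAut.conj g⁻¹).injective).symm
      _ = Nat.card ((R.map (MulAut.conj g⁻¹).toMonoidHom).subgroupOf C) :=
          (Nat.card_congr (subgroupOfEquivOfLe hle).toEquiv).symm
      _ ≤ Nat.card (S' : Subgroup C) := card_le_of_le hS'
      _ = Nat.card (R₀ : Subgroup C) := by rw [S'.card_eq_multiplicity, R₀.card_eq_multiplicity]
      _ = Nat.card (((R₀ : Subgroup C).map C.subtype).map (MulAut.conj g).toMonoidHom) := by
          rw [card_map_of_injective (MulAut.conj g).injective, card_map_of_injective C.subtype_injective]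
      _ ≤ Nat.card (F.centS j) := card_le_of_le (by
          rintro _ ⟨x, hx, rfl⟩
          refine mem_inf.2 ⟨hg x hx, mem_centralizer_singleton_iff.2 ?_⟩
          have h1 : Commute x (F.f u) := mem_centralizer_singleton_iff.1 (map_subtype_le _ hx)
          rw [hj]
          exact (h1.map (MulAut.conj g).toMonoidHom).eq)

end Frame

end Cfsg.Lib.AltEightSyl
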