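import Cfsg.Agent.Lib.AltEightSyl.Real
import Cfsg.Agent.Lib.ZStar.Main

/-!
# Fusion of involutions in a group with a Sylow 2-subgroup of the type of `A₈`

Every involution is conjugate to one of 5, 1, 10, 11, 16, 32, 48; the last three are either all conjugate
into the subgroup of order sixteen, and then to 1, 10 or 11 inside the centraliser of the central
involution, or none is.
-/

set_option autoImplicit false
set_option linter.style.haveILetI false
set_option linter.unusedSectionVars false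
set_option maxRecDepth 100000

namespace Cfsg.Lib.AltEightSyl

open Cfsg Cfsg.Lib Subgroup

universe u

theorem half_facts :
    (∀ i j : Fin 64, (decide (i.val < 32)) = true → (decide (j.val < 32)) = true →
      (decide ((aMul i j).val < 32)) = true ∧ (decide ((aInv i).val < 32)) = true) ∧
    (∀ i j : Fin 64, (decide (i.val < 16) || decide (32 ≤ i.val ∧ i.val < 48)) = true →
      (decide (j.val < 16) || decide (32 ≤ j.val ∧ j.val < 48)) = true →
      (decide ((aMul i j).val < 16) || decide (32 ≤ (aMul i j).val ∧ (aMul i j).val < 48)) = true ∧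
        (decide ((aInv i).val < 16) || decide (32 ≤ (aInv i).val ∧ (aInv i).val < 48)) = true) ∧
    (∀ i j : Fin 64, (decide (i.val < 16) || decide (48 ≤ i.val)) = true →
      (decide (j.val < 16) || decide (48 ≤ j.val)) = true →
      (decide ((aMul i j).val < 16) || decide (48 ≤ (aMul i j).val)) = true ∧
        (decide ((aInv i).val < 16) || decide (48 ≤ (aInv i).val)) = true) ∧
    ((List.finRange 64).filter fun i : Fin 64 => decide (i.val < 32)).length = 32 ∧
    ((List.finRange 64).filter fun i : Fin 64 => decide (i.val < 16) || decide (32 ≤ i.val ∧ i.val < 48)).length = 32 ∧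
    ((List.finRange 64).filter fun i : Fin 64 => decide (i.val < 16) || decide (48 ≤ i.val)).length = 32 ∧
    (∀ i : Fin 64, aCl i ≠ 0 → i.val < 32 → inA i = true ∨ aCl i = 16) ∧
    (∀ i : Fin 64, aCl i ≠ 0 → (i.val < 16 ∨ 48 ≤ i.val) → inA i = true ∨ aCl i = 48) ∧
    (∀ i : Fin 64, aCl i ≠ 0 → (i.val < 16 ∨ (32 ≤ i.val ∧ i.val < 48)) → inA i = true ∨ aCl i = 32) := by
  refine ⟨?_, ?_, ?_, ?_, ?_, ?_, ?_, ?_, ?_⟩ <;> decide +kernel

theorem pair_cent : ∀ j : Fin 64, aCl j = 5 ∨ aCl j = 1 ∨ aCl j = 10 ∨ aCl j = 11 →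
    ∀ k : Fin 64, inD k = true → k ≠ 0 →
      (32 ≤ ((List.finRange 64).filter fun i => aCm j i && aCm k i).length) ∨
      (((List.finRange 64).filter fun i => aCm j i && aCm k i).all fun p =>
        ((List.finRange 64).filter fun i => aCm j i && aCm k i).all fun q => aComm p q == 0) = true := by
  decide +kernel

theorem unfused_facts :
    aCm 32 10 = true ∧ aCm 48 11 = true ∧
    (∀ k : Fin 64, aCm 16 k = true → inA k = true → k = 0 ∨ k = 5 ∨ aCl k = 1) ∧
    (∀ u : Fin 64, u = 16 ∨ u = 32 ∨ u = 48 → aCl u = u ∧ aCl u ≠ 0 ∧ inA u = false) := by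
  decide +kernel

variable {G : Type u} [Group G] [Finite G]

/-- An element of odd order lies in every subgroup of index two. -/
theorem index_ne_two (hO : Cfsg.pResidual 2 G = ⊤) (H : Subgroup G) : H.index ≠ 2 := by
  intro h
  have hle : Cfsg.pResidual 2 G ≤ H := by
    refine (closure_le _).2 fun g hg => ?_
    obtain ⟨m, hm⟩ := Nat.coprime_two_right.1 (show Nat.Coprime (orderOf g) 2 from hg)
    have hsq : g * g ∈ H := Subgroup.mul_self_mem_of_index_two h g
    have e : (g * g) ^ (m + 1) = g := by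
      rw [← pow_two, ← pow_mul, show 2 * (m + 1) = orderOf g + 1 by omega, pow_succ, pow_orderOf_eq_one, one_mul]
    exact e ▸ pow_mem hsq _
  rw [hO, top_le_iff] at hle
  rw [hle, index_top] at h
  norm_num at h

/-- The hypotheses of the recognition. -/
structure Good (F : Frame G) : Prop where
  hO2 : Cfsg.pResidual 2 G = ⊤
  hcore2 : Cfsg.pCore 2 G = ⊥
  hodd : Cfsg.oddCore G = ⊥
  hsol : Group.IsSolvable (centralizer ({F.z} : Set G))
  hiso : ∃ Q : Sylow 2 ↥(alternatingGroup (Fin 8)),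
    Nonempty (↥(F.P : Subgroup G) ≃* ↥(Q : Subgroup ↥(alternatingGroup (Fin 8))))

namespace Frame

variable (F : Frame G)

theorem cj_rep {i : Fin 64} (hi : aCl i ≠ 0) : F.Cj i (aCl i) := (F.cj_cl hi).symm

theorem z_conj_zero {i : Fin 64} (h : F.Cj 5 i) : aCl i ≠ 0 := by
  obtain ⟨g, hg⟩ := isConj_iff.1 h
  rw [← F.order_two_iff, ← hg, Invol.orderOf_conj_eq]
  exact F.orderOf_z

theorem cl_of_cj {i j : Fin 64} (h : F.Cj i j) (hi : aCl i ≠ 0) : aCl j ≠ 0 := by
  obtain ⟨g, hg⟩ := isConj_iff.1 h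
  rw [← F.order_two_iff, ← hg, Invol.orderOf_conj_eq, F.order_two_iff]
  exact hi

theorem x_cl {i : Fin 64} (hi : aCl i ≠ 0) :
    ∃ h ∈ centralizer ({F.z} : Set G), h * F.f i * h⁻¹ = F.f (aCl i) := by
  obtain ⟨h, -, hh⟩ := List.any_eq_true.1 (aCl_wit i hi)
  refine ⟨(F.f h)⁻¹, inv_mem (F.P_le_centralizer (F.f_mem h)), ?_⟩
  conv_lhs => rw [← beq_iff_eq.1 hh, F.fconj]
  group

theorem not_centralizer_top (hG : Good F) : centralizer ({F.z} : Set G) ≠ ⊤ := by
  intro h
  have hn : (zpowers F.z).Normal := ⟨fun x hx g => by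
    obtain ⟨k, rfl⟩ := hx
    have hc : Commute g F.z := mem_centralizer_singleton_iff.1 (h ▸ mem_top g)
    show g * F.z ^ k * g⁻¹ ∈ zpowers F.z
    rw [(hc.zpow_right k).eq, mul_inv_cancel_right]
    exact zpow_mem (mem_zpowers _) _⟩
  have hp : IsPGroup 2 (zpowers F.z) :=
    IsPGroup.of_card (n := 1) (by rw [Nat.card_zpowers, F.orderOf_z, pow_one])
  have hle : zpowers F.z ≤ Cfsg.pCore 2 G := le_sSup ⟨hn, hp⟩
  rw [hG.hcore2, le_bot_iff, zpowers_eq_bot] at hle
  exact Invol.ne_one F.orderOf_z hle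

/-- The central involution is not isolated. -/
theorem exists_z_conj (hG : Good F) : ∃ i : Fin 64, i ≠ 5 ∧ F.Cj 5 i := by
  haveI : Fact (Nat.Prime 2) := ⟨Nat.prime_two⟩
  by_contra hno
  push Not at hno
  refine F.not_centralizer_top hG (eq_top_iff.2 fun g _ => ?_)
  have hiso : IsIsolatedInvolution F.z := ⟨F.orderOf_z, fun x hx => by
    by_contra hne
    set y := x * F.z * x⁻¹
    have hy : orderOf y = 2 := by rw [Invol.orderOf_conj_eq, F.orderOf_z]
    have hyC : zpowers y ≤ centralizer ({F.z} : Set G) :=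
      zpowers_le.2 (mem_centralizer_singleton_iff.2 hx.symm.eq)
    obtain ⟨c, hc, hcP⟩ := EightThree.exists_conj_le F.P_le_centralizer F.P.isPGroup'
      (fun R _ hR hle => (F.P.3 hR hle).le) hyC (IsPGroup.of_card (n := 1) (by rw [Nat.card_zpowers, hy, pow_one]))
    obtain ⟨i, hi⟩ := (F.mem_iff _).1 (hcP y (mem_zpowers y))
    refine hno i ?_ (isConj_iff.2 ⟨c * x, by rw [hi]; show c * x * F.z * (c * x)⁻¹ = c * (x * F.z * x⁻¹) * c⁻¹; group⟩)
    rintro rfl
    have hcz : Commute c F.z := mem_centralizer_singleton_iff.1 hc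
    have h1 : c * F.z * c⁻¹ = c * y * c⁻¹ := by rw [hcz.eq, mul_inv_cancel_right]; exact hi
    exact hne (mul_left_cancel (mul_right_cancel h1)).symm⟩
  exact mem_centralizer_singleton_iff.2 (mem_center_iff.1 (ZStar.mem_center_of_isolated hG.hodd hiso) g)

/-- Thompson's transfer lemma for a subgroup of index two by indices. -/
theorem transfer_fused (hG : Good F) (p : Fin 64 → Bool) (h0 : p 0 = true)
    (hm : ∀ i j, p i = true → p j = true → p (aMul i j) = true) (hv : ∀ i, p i = true → p (aInv i) = true)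
    (h32 : ((List.finRange 64).filter p).length = 32) {u : Fin 64} (hu : aCl u ≠ 0) (hup : p u ≠ true) :
    ∃ i, p i = true ∧ F.Cj u i := by
  have hle : F.sub p h0 hm hv ≤ (F.P : Subgroup G) := by
    rintro _ ⟨i, -, rfl⟩
    exact F.f_mem i
  have hrel : (F.sub p h0 hm hv).relIndex (F.P : Subgroup G) = 2 := by
    have h1 := ((F.sub p h0 hm hv).subgroupOf (F.P : Subgroup G)).index_mul_card
    rw [Nat.card_congr (subgroupOfEquivOfLe hle).toEquiv, F.card_of_pred p _ fun _ => Iff.rfl, h32,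
      F.card_P] at h1
    rw [relIndex]
    omega
  have hout : F.f u ∉ F.sub p h0 hm hv := by
    rintro ⟨i, hi, e⟩
    exact hup (F.inj _ _ e ▸ hi)
  rcases Cfsg.Agent.S0111.result F.P _ hle hrel (F.f u) ((F.order_two_iff u).2 hu) (F.f_mem u) hout with
    ⟨M, -, hMi, -⟩ | ⟨g, i, hi, e⟩
  · exact absurd hMi (index_ne_two hG.hO2 M)
  · exact ⟨i, hi, isConj_iff.2 ⟨g, e.symm⟩⟩

theorem exists_cent_max {u : Fin 64} {n : ℕ}
    (h : ∀ j, F.Cj u j → Nat.card (F.centS j) ≤ n) {R : Subgroup G} (hR : IsPGroup 2 R)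
    (hRu : R ≤ centralizer ({F.f u} : Set G)) : Nat.card R ≤ n := by
  obtain ⟨c, hc⟩ := Invol.exists_conj_mem_sylow F.P
    (show IsPGroup 2 ↥(R ⊔ zpowers (F.f u)) from (by
      refine IsPGroup.to_sup_of_normal_left' hR (F.P.isPGroup'.to_le (zpowers_le.2 (F.f_mem u)))
        (zpowers_le.2 (EightThree.mem_normalizer_of_forall fun r hr => ?_))
      rwa [← (show Commute r (F.f u) from mem_centralizer_singleton_iff.1 (hRu hr)).eq, mul_inv_cancel_right]))
  obtain ⟨j, hj⟩ := (F.mem_iff _).1 (hc _ (mem_sup_right (mem_zpowers _)))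
  refine le_trans ?_ (h j (F.cj_of_conj hj.symm))
  rw [← card_map_of_injective (K := R) (f := (MulAut.conj c).toMonoidHom) (MulAut.conj c).injective]
  refine card_le_of_le ?_
  rintro _ ⟨r, hr, rfl⟩
  refine mem_inf.2 ⟨hc r (mem_sup_left hr), mem_centralizer_singleton_iff.2 ?_⟩
  have hcm : Commute r (F.f u) := mem_centralizer_singleton_iff.1 (hRu hr)
  rw [hj]
  exact (hcm.map (MulAut.conj c).toMonoidHom).eq

theorem card_centS_le {j : Fin 64} (hj : aCl j ≠ 0)
    (h : aCl j ≠ 5 ∧ aCl j ≠ 1 ∧ aCl j ≠ 10 ∧ aCl j ≠ 11) : Nat.card (F.centS j) ≤ 16 := by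
  rw [F.card_centS]
  obtain ⟨-, -, h26, h168⟩ := card_cent j hj
  rcases ((aCl_facts j).2 hj).1 with e | e | e | e | e | e | e | e | e
  · exact absurd e h.1
  · exact absurd e h.2.1
  · rw [List.filter_congr (q := inA) fun k _ => h26 (Or.inl e) k]; exact sub_facts.1.2.2.2.le
  · rw [List.filter_congr (q := inA) fun k _ => h26 (Or.inr e) k]; exact sub_facts.1.2.2.2.le
  · exact absurd e h.2.2.1
  · exact absurd e h.2.2.2
  · exact (h168 (Or.inl e)).1.le
  · exact (h168 (Or.inr (Or.inl e))).1.le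
  · exact (h168 (Or.inr (Or.inr e))).1.le

/-- The elements 2 and 6 are conjugate to 5, 1, 10 or 11. -/
theorem cj_bd (hG : Good F) {v : Fin 64} (hv : v = 2 ∨ v = 6) :
    ∃ w : Fin 64, (w = 5 ∨ w = 1 ∨ w = 10 ∨ w = 11) ∧ F.Cj v w := by
  obtain ⟨-, -, ⟨q0, qm, qv, -, q32⟩⟩ := sub_facts
  have hv0 : aCl v = v ∧ aCl v ≠ 0 ∧ inQ v ≠ true ∧ (∀ j, aCm v j = inA j) := by
    rcases hv with rfl | rfl <;>
      exact ⟨by decide +kernel, by decide +kernel, by decide +kernel,
        (card_cent _ (by decide +kernel)).2.2.1 (by decide +kernel)⟩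
  obtain ⟨i, hi, hvi⟩ := F.transfer_fused hG inQ q0 qm qv q32 hv0.2.1 hv0.2.2.1
  by_contra hno
  push Not at hno
  have hbig : ∀ j, F.Cj v j → aCl j ≠ 5 ∧ aCl j ≠ 1 ∧ aCl j ≠ 10 ∧ aCl j ≠ 11 := by
    intro j hj
    have hr := IsConj.trans hj (F.cj_rep (F.cl_of_cj hj hv0.2.1))
    refine ⟨?_, ?_, ?_, ?_⟩ <;> intro e <;> rw [e] at hr
    exacts [hno 5 (Or.inl rfl) hr, hno 1 (Or.inr (Or.inl rfl)) hr, hno 10 (Or.inr (Or.inr (Or.inl rfl))) hr,
      hno 11 (Or.inr (Or.inr (Or.inr rfl))) hr]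
  have hi0 := F.cl_of_cj hvi hv0.2.1
  have hicls : aCl i = 16 ∨ aCl i = 32 ∨ aCl i = 48 := by
    have h1 := hbig i hvi
    obtain ⟨hcl, -, -, hQ⟩ := (aCl_facts i).2 hi0
    rcases hcl with e | e | e | e | e | e | e | e | e
    · exact absurd e h1.1
    · exact absurd e h1.2.1
    · rw [hQ, e] at hi; exact absurd hi (by decide +kernel)
    · rw [hQ, e] at hi; exact absurd hi (by decide +kernel)
    · exact absurd e h1.2.2.1
    · exact absurd e h1.2.2.2
    · exact Or.inl e
    · exact Or.inr (Or.inl e)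
    · exact Or.inr (Or.inr e)
  obtain ⟨g, hg⟩ := isConj_iff.1 hvi.symm
  have hAC : F.aGrp ≤ centralizer ({F.f v} : Set G) := by
    rintro _ ⟨k, hk, rfl⟩
    exact mem_centralizer_singleton_iff.2 ((F.comm_iff v k).2 ((hv0.2.2.2 k).trans hk)).symm.eq
  have hKC : (F.centS i).map (MulAut.conj g).toMonoidHom ≤ centralizer ({F.f v} : Set G) := by
    rintro _ ⟨x, hx, rfl⟩
    have hcm : Commute x (F.f i) := mem_centralizer_singleton_iff.1 (mem_inf.1 hx).2
    refine mem_centralizer_singleton_iff.2 ?_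
    rw [← hg]
    exact (hcm.map (MulAut.conj g).toMonoidHom).eq
  obtain ⟨c, -, hcA⟩ := EightThree.exists_conj_le hAC (F.P.isPGroup'.to_le F.aGrp_le)
    (fun R hRC hR hle => (eq_of_le_of_card_ge hle (by
      rw [F.card_aGrp]
      exact F.exists_cent_max (fun j hj => F.card_centS_le (F.cl_of_cj hj hv0.2.1) (hbig j hj)) hR hRC)).ge)
    hKC ((F.P.isPGroup'.to_le inf_le_left).map _)
  obtain ⟨j, hj, hk'⟩ := List.any_eq_true.1 (cent_nonab i hicls)
  obtain ⟨k, hk, e⟩ := List.any_eq_true.1 hk'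
  have hin : ∀ l, aCm i l = true → c * (g * F.f l * g⁻¹) * c⁻¹ ∈ F.aGrp := fun l hl =>
    hcA _ ⟨F.f l, (F.mem_centS i _).2 ⟨l, hl, rfl⟩, rfl⟩
  have hcm := F.aGrp_comm (hin j (List.mem_filter.1 hj).2) (hin k (List.mem_filter.1 hk).2)
  rw [Commute.conj_iff, Commute.conj_iff] at hcm
  have h1 := F.fcomm j k
  rw [beq_iff_eq.1 e, hcm.eq] at h1
  exact absurd ((F.eq_one_iff 5).1 (h1.trans (by group))) (by decide)

/-- An involution of the classes 16, 32, 48 conjugate into the subgroup of order sixteen is conjugate to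
1, 10 or 11 in the centraliser of the central involution. -/
theorem fused_x (hG : Good F) {u : Fin 64} (hu : u = 16 ∨ u = 32 ∨ u = 48)
    (hf : ∃ i, inA i = true ∧ F.Cj u i) :
    ∃ x ∈ centralizer ({F.z} : Set G), ∃ w : Fin 64, (w = 1 ∨ w = 10 ∨ w = 11) ∧ x * F.f u * x⁻¹ = F.f w := by
  haveI : Fact (Nat.Prime 2) := ⟨Nat.prime_two⟩
  obtain ⟨i, hiA, hui⟩ := hf
  obtain ⟨hucl, hu0, huA⟩ := unfused_facts.2.2.2 u hu
  obtain ⟨w0, hw0, huw⟩ : ∃ w, (w = 5 ∨ w = 1 ∨ w = 10 ∨ w = 11) ∧ F.Cj u w := by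
    have hi0 := F.cl_of_cj hui hu0
    obtain ⟨hcl, -, hA, -⟩ := (aCl_facts i).2 hi0
    have hr := IsConj.trans hui (F.cj_rep hi0)
    rcases hcl with e | e | e | e | e | e | e | e | e
    all_goals rw [e] at hr
    all_goals rw [hA, e] at hiA
    · exact ⟨5, by decide, hr⟩
    · exact ⟨1, by decide, hr⟩
    · obtain ⟨w, hw, h⟩ := F.cj_bd hG (v := 2) (Or.inl rfl)
      exact ⟨w, hw, IsConj.trans hr h⟩
    · obtain ⟨w, hw, h⟩ := F.cj_bd hG (v := 6) (Or.inr rfl)
      exact ⟨w, hw, IsConj.trans hr h⟩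
    · exact ⟨10, by decide, hr⟩
    · exact ⟨11, by decide, hr⟩
    all_goals exact absurd hiA (by decide +kernel)
  obtain ⟨g, j, hgj, hgP, hmax⟩ := F.exists_full hu0
  have hj : aCl j = 5 ∨ aCl j = 1 ∨ aCl j = 10 ∨ aCl j = 11 := by
    by_contra hc
    push Not at hc
    obtain ⟨h, hh⟩ := isConj_iff.1 (IsConj.trans huw.symm (F.cj_of_conj hgj))
    have hw32 : 32 ≤ Nat.card (F.centS w0) := by
      rw [F.card_centS]
      rcases hw0 with rfl | rfl | rfl | rfl <;> decide +kernel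
    have hle := hmax ((F.centS w0).map (MulAut.conj h).toMonoidHom)
      ((F.P.isPGroup'.to_le inf_le_left).map _) (by
        rintro _ ⟨x, hx, rfl⟩
        have hcm : Commute x (F.f w0) := mem_centralizer_singleton_iff.1 (mem_inf.1 hx).2
        refine mem_centralizer_singleton_iff.2 ?_
        rw [← hh]
        exact (hcm.map (MulAut.conj h).toMonoidHom).eq)
    rw [card_map_of_injective (MulAut.conj h).injective] at hle
    have h16 := F.card_centS_le (F.cl_of_cj (F.cj_of_conj hgj) hu0) hc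
    omega
  have hucls : aCl u = 16 ∨ aCl u = 32 ∨ aCl u = 48 := by rwa [hucl]
  obtain ⟨p, hp, hq'⟩ := List.any_eq_true.1 (cent_nonab u hucls)
  obtain ⟨q, hq, e⟩ := List.any_eq_true.1 hq'
  obtain ⟨p', hp'⟩ := hgP p (List.mem_filter.1 hp).2
  obtain ⟨q', hq''⟩ := hgP q (List.mem_filter.1 hq).2
  set k := aComm p' q'
  have hk : g * F.z * g⁻¹ = F.f k := by
    show g * F.f 5 * g⁻¹ = F.f (aComm p' q')
    rw [← beq_iff_eq.1 e, F.fcomm, F.fcomm, ← hp', ← hq'']
    group
  have hk0 : k ≠ 0 := fun h => Invol.ne_one F.orderOf_z (by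
    rw [h, F.fone, mul_inv_eq_one] at hk; exact mul_eq_left.1 hk)
  -- the images commute with both
  have hin : ∀ l, aCm u l = true → ∀ l', g * F.f l * g⁻¹ = F.f l' → (aCm j l' && aCm k l') = true := by
    intro l hl l' hl'
    refine Bool.and_eq_true_iff.2 ⟨(F.comm_iff j l').1 ?_, (F.comm_iff k l').1 ?_⟩
    · rw [← hgj, ← hl', Commute.conj_iff]; exact (F.comm_iff u l).2 hl
    · rw [← hk, ← hl', Commute.conj_iff]; exact F.comm_z l
  have h32 : 32 ≤ ((List.finRange 64).filter fun i => aCm j i && aCm k i).length := by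
    refine (pair_cent j hj k (sub_facts.2.1.2.1 p' q') hk0).resolve_right fun hab => hk0 ?_
    exact beq_iff_eq.1 (List.all_eq_true.1 (List.all_eq_true.1 hab p' (List.mem_filter.2 ⟨List.mem_finRange _,
      hin p (List.mem_filter.1 hp).2 p' hp'⟩)) q' (List.mem_filter.2 ⟨List.mem_finRange _,
      hin q (List.mem_filter.1 hq).2 q' hq''⟩))
  -- a subgroup of order at least 32 of the centraliser of both
  set R := (F.centS j ⊓ centralizer ({F.f k} : Set G)).map (MulAut.conj g⁻¹).toMonoidHom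
  have hRcard : 32 ≤ Nat.card R := by
    rw [card_map_of_injective (MulAut.conj g⁻¹).injective]
    refine h32.trans (ge_of_eq (F.card_of_pred _ _ fun x => ?_))
    constructor
    · intro hx
      obtain ⟨hxP, hxk⟩ := mem_inf.1 hx
      obtain ⟨l, hl, rfl⟩ := (F.mem_centS j x).1 hxP
      exact ⟨l, by rw [Bool.and_eq_true]; exact ⟨hl, (F.comm_iff k l).1 (mem_centralizer_singleton_iff.1 hxk).symm⟩, rfl⟩
    · rintro ⟨l, hl, rfl⟩
      rw [Bool.and_eq_true] at hl
      exact mem_inf.2 ⟨(F.mem_centS j _).2 ⟨l, hl.1, rfl⟩,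
        mem_centralizer_singleton_iff.2 ((F.comm_iff k l).2 hl.2).symm.eq⟩
  have hRc : ∀ r ∈ R, Commute r F.z ∧ Commute r (F.f u) := by
    rintro _ ⟨x, hx, rfl⟩
    have hxj : Commute x (F.f j) := mem_centralizer_singleton_iff.1 (mem_inf.1 (mem_inf.1 hx).1).2
    have hxk : Commute x (F.f k) := mem_centralizer_singleton_iff.1 (mem_inf.1 hx).2
    have e1 : F.z = g⁻¹ * F.f k * g := by rw [← hk]; group
    have e2 : F.f u = g⁻¹ * F.f j * g := by rw [← hgj]; group
    constructor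
    · rw [e1]; simpa using hxk.map (MulAut.conj g⁻¹).toMonoidHom
    · rw [e2]; simpa using hxj.map (MulAut.conj g⁻¹).toMonoidHom
  have hR2 : IsPGroup 2 ↥(R ⊔ zpowers (F.f u)) := by
    refine IsPGroup.to_sup_of_normal_left' (((F.P.isPGroup'.to_le inf_le_left).to_le inf_le_left).map _)
      (F.P.isPGroup'.to_le (zpowers_le.2 (F.f_mem u)))
      (zpowers_le.2 (EightThree.mem_normalizer_of_forall fun r hr => ?_))
    rwa [← (hRc r hr).2.eq, mul_inv_cancel_right]
  obtain ⟨x, hx, hxP⟩ := EightThree.exists_conj_le F.P_le_centralizer F.P.isPGroup'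
    (fun R' _ hR' hle => (F.P.3 hR' hle).le)
    (sup_le (fun r hr => mem_centralizer_singleton_iff.2 (hRc r hr).1.eq)
      (zpowers_le.2 (mem_centralizer_singleton_iff.2 (F.comm_z u).symm.eq)) :
      R ⊔ zpowers (F.f u) ≤ centralizer ({F.z} : Set G)) hR2
  obtain ⟨l, hl⟩ := (F.mem_iff _).1 (hxP _ (mem_sup_right (mem_zpowers _)))
  have hl0 : aCl l ≠ 0 := by rw [← F.order_two_iff, hl, Invol.orderOf_conj_eq, F.order_two_iff]; exact hu0
  have hlbig : aCl l = 5 ∨ aCl l = 1 ∨ aCl l = 10 ∨ aCl l = 11 := by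
    by_contra hc
    push Not at hc
    have h16 := F.card_centS_le hl0 hc
    have h2 : R.map (MulAut.conj x).toMonoidHom ≤ F.centS l := by
      rintro _ ⟨r, hr, rfl⟩
      refine mem_inf.2 ⟨hxP r (mem_sup_left hr), mem_centralizer_singleton_iff.2 ?_⟩
      rw [hl]
      exact ((hRc r hr).2.map (MulAut.conj x).toMonoidHom).eq
    have h3 := card_le_of_le h2
    rw [card_map_of_injective (MulAut.conj x).injective] at h3
    omega
  obtain ⟨h, hh, hhl⟩ := F.x_cl hl0
  refine ⟨h * x, mul_mem hh hx, aCl l, ?_, by rw [← hhl, hl]; group⟩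
  rcases hlbig with e | e | e | e
  · exfalso
    have hl5 := (aCl_list l).1.1 e
    rw [hl5] at hl
    have hc : Commute x F.z := mem_centralizer_singleton_iff.1 hx
    have h1 : x * F.z * x⁻¹ = x * F.f u * x⁻¹ := by rw [hc.eq, mul_inv_cancel_right]; exact hl
    have h5 : (5 : Fin 64) = u := F.inj _ _ (mul_left_cancel (mul_right_cancel h1))
    rw [← h5] at huA
    exact absurd huA (by decide +kernel)
  · exact Or.inl e
  · exact Or.inr (Or.inl e)
  · exact Or.inr (Or.inr e)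

/-- The three classes outside the subgroup of order sixteen are all fused into it or pairwise conjugate. -/
theorem fused_or_conj (hG : Good F) :
    (∀ u : Fin 64, u = 16 ∨ u = 32 ∨ u = 48 → ∃ i, inA i = true ∧ F.Cj u i) ∨
    ((∀ u : Fin 64, u = 16 ∨ u = 32 ∨ u = 48 → ¬ ∃ i, inA i = true ∧ F.Cj u i) ∧
      F.Cj 32 16 ∧ F.Cj 48 16) := by
  obtain ⟨h1, h2, h3, h1c, h2c, h3c, h1i, h3i, h2i⟩ := half_facts
  have stepA : ∀ u : Fin 64, u = 32 ∨ u = 48 → (∃ i, inA i = true ∧ F.Cj u i) ∨ F.Cj u 16 := by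
    intro u hu
    have hu' : aCl u ≠ 0 ∧ decide (u.val < 32) ≠ true := by rcases hu with rfl | rfl <;> decide +kernel
    obtain ⟨i, hi, hui⟩ := F.transfer_fused hG (fun i => decide (i.val < 32)) rfl (fun i j hi hj => (h1 i j hi hj).1)
      (fun i hi => (h1 i i hi hi).2) h1c hu'.1 hu'.2
    have hi0 := F.cl_of_cj hui hu'.1
    rcases h1i i hi0 (of_decide_eq_true hi) with hA | e
    · exact Or.inl ⟨i, hA, hui⟩
    · exact Or.inr (e ▸ IsConj.trans hui (F.cj_rep hi0))
  have stepB : (∃ i, inA i = true ∧ F.Cj 16 i) ∨ F.Cj 16 32 := by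
    obtain ⟨i, hi, hui⟩ := F.transfer_fused hG (fun i => decide (i.val < 16) || decide (32 ≤ i.val ∧ i.val < 48))
      rfl (fun i j hi hj => (h2 i j hi hj).1) (fun i hi => (h2 i i hi hi).2) h2c (u := 16) (by decide +kernel)
      (by decide)
    have hi0 := F.cl_of_cj hui (by decide +kernel)
    simp only [Bool.or_eq_true, decide_eq_true_eq] at hi
    rcases h2i i hi0 hi with hA | e
    · exact Or.inl ⟨i, hA, hui⟩
    · exact Or.inr (e ▸ IsConj.trans hui (F.cj_rep hi0))
  have stepC : (∃ i, inA i = true ∧ F.Cj 16 i) ∨ F.Cj 16 48 := by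
    obtain ⟨i, hi, hui⟩ := F.transfer_fused hG (fun i => decide (i.val < 16) || decide (48 ≤ i.val))
      rfl (fun i j hi hj => (h3 i j hi hj).1) (fun i hi => (h3 i i hi hi).2) h3c (u := 16) (by decide +kernel)
      (by decide)
    have hi0 := F.cl_of_cj hui (by decide +kernel)
    simp only [Bool.or_eq_true, decide_eq_true_eq] at hi
    rcases h3i i hi0 hi with hA | e
    · exact Or.inl ⟨i, hA, hui⟩
    · exact Or.inr (e ▸ IsConj.trans hui (F.cj_rep hi0))
  have via : ∀ {u v : Fin 64}, F.Cj u v → (∃ i, inA i = true ∧ F.Cj v i) → ∃ i, inA i = true ∧ F.Cj u i :=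
    fun h ⟨i, hi, hv⟩ => ⟨i, hi, IsConj.trans h hv⟩
  by_cases h16 : ∃ i, inA i = true ∧ F.Cj 16 i
  · left
    intro u hu
    rcases hu with rfl | hu
    · exact h16
    · exact (stepA u hu).elim id fun h => via h h16
  · right
    have h1632 := stepB.resolve_left h16
    have h1648 := stepC.resolve_left h16
    refine ⟨fun u hu => ?_, h1632.symm, h1648.symm⟩
    rcases hu with rfl | rfl | rfl
    exacts [h16, fun h => h16 (via h1632 h), fun h => h16 (via h1648 h)]

end Frame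

end Cfsg.Lib.AltEightSyl
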