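import Cfsg.Agent.Lib.AltEightSyl.Data

/-!
# The automorphisms of the subgroup of order sixteen, by the images of the four generators

Words in the two elements of the Sylow subgroup and in given automorphisms: no realised automorphism has
order four, and this leaves few possibilities for those moving the central involution.
-/

set_option autoImplicit false
set_option maxRecDepth 100000
set_option linter.style.longLine false

namespace Cfsg.Lib.AltEightSyl

/-- The images of 1, 2, 4, 8. -/
abbrev M4 := Fin 16 × Fin 16 × Fin 16 × Fin 16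

/-- The image of an element. -/
def app (m : M4) (v : Fin 16) : Fin 16 :=
  (if v.val.testBit 0 then m.1 else 0) ^^^ (if v.val.testBit 1 then m.2.1 else 0) ^^^
    (if v.val.testBit 2 then m.2.2.1 else 0) ^^^ (if v.val.testBit 3 then m.2.2.2 else 0)

/-- The identity. -/
def mId : M4 := (1, 2, 4, 8)

/-- The composite. -/
def mmul (a b : M4) : M4 := (app a b.1, app a b.2.1, app a b.2.2.1, app a b.2.2.2)

/-- The actions of the two generators of the complement. -/
def mC : M4 := (1, 3, 4, 12)

/-- The actions of the two generators of the complement. -/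
def mF : M4 := (4, 8, 1, 2)

/-- The value of a word. -/
def ev (gs : List M4) (w : List ℕ) : M4 := w.foldl (fun x j => mmul x (gs.getD j mId)) mId

/-- Order four. -/
def bad (y : M4) : Bool := !(mmul y y == mId) && (mmul (mmul y y) (mmul y y) == mId)

/-- Some word in the two generators and the given elements has order four. -/
def badIn (ms : List M4) (ws : List (List ℕ)) : Bool := ws.any fun w => bad (ev (mC :: mF :: ms) w)

/-- No nonzero element goes to zero. -/
def nsing (m : M4) : Bool := (List.finRange 16).all fun v => v == 0 || !(app m v == 0)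

/-- Words covering the singly generated overgroups with an element of order four. -/
def covW : List (List ℕ) :=
  [[0, 2, 2], [1, 2, 2], [0, 2, 1, 2], [0, 1, 2, 2, 2], [0, 1, 2, 2], [0, 1, 2, 0, 2], [1, 2, 1, 2, 2], [0, 1, 2, 1, 2, 2, 2], [0, 2, 0, 2, 1, 2], [0, 2, 2, 2, 1, 2, 2, 2], [0, 2, 2, 2], [0, 1, 2, 1, 2], [0, 2, 2, 2, 1, 2], [0, 2, 1, 2, 2, 2], [0, 1, 2], [2], [0, 2, 2, 1, 2, 2], [0, 2, 0, 2, 2], [0, 2, 2, 2, 2], [0, 1, 2, 2, 0, 2, 2, 2, 2], [0, 1, 2, 2, 1, 2, 2, 2, 2]]

/-- The possibilities moving 5 to 1. -/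
def zaL : List M4 := [(4, 8, 5, 10), (4, 8, 5, 14), (4, 12, 5, 11), (4, 12, 5, 15), (5, 10, 4, 8), (5, 11, 4, 12), (5, 14, 4, 8), (5, 15, 4, 12)]

/-- The possibilities moving 5 to 10. -/
def zeL : List M4 := [(2, 1, 8, 4), (2, 3, 8, 12), (7, 11, 13, 14), (7, 12, 13, 3), (8, 4, 2, 1), (8, 12, 2, 3), (13, 3, 7, 12), (13, 14, 7, 11)]

/-- The possibilities moving 5 to 11. -/
def zEL : List M4 := [(3, 1, 8, 12), (3, 2, 8, 4), (6, 10, 13, 2), (6, 12, 13, 15), (8, 4, 3, 2), (8, 12, 3, 1), (13, 2, 6, 10), (13, 15, 6, 12)]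

/-- The possibilities moving 5 to 2. -/
def zbL : List M4 := [(4, 8, 6, 3), (4, 11, 6, 5), (4, 12, 6, 5), (4, 15, 6, 3), (6, 3, 4, 8), (6, 3, 4, 15), (6, 5, 4, 11), (6, 5, 4, 12), (8, 4, 10, 5), (8, 12, 10, 15), (9, 5, 11, 8), (9, 12, 11, 3), (10, 5, 8, 4), (10, 15, 8, 12), (11, 3, 9, 12), (11, 8, 9, 5), (12, 4, 14, 11), (12, 8, 14, 5), (13, 5, 15, 3), (13, 8, 15, 12), (14, 5, 12, 8), (14, 11, 12, 4), (15, 3, 13, 5), (15, 12, 13, 8)]

/-- The possibilities moving 5 to 6. -/
def zdL : List M4 := [(2, 1, 4, 12), (2, 1, 4, 15), (2, 3, 4, 8), (2, 3, 4, 11), (4, 8, 2, 3), (4, 11, 2, 3), (4, 12, 2, 1), (4, 15, 2, 1), (8, 3, 14, 15), (8, 11, 14, 1), (9, 2, 15, 3), (9, 11, 15, 12), (10, 1, 12, 3), (10, 11, 12, 15), (11, 3, 13, 15), (11, 8, 13, 2), (12, 3, 10, 1), (12, 15, 10, 11), (13, 2, 11, 8), (13, 15, 11, 3), (14, 1, 8, 11), (14, 15, 8, 3), (15, 3, 9, 2), (15, 12, 9, 11)]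

theorem xor_eq : ∀ a c t : Fin 16, a ^^^ c = t → c = a ^^^ t := by decide +kernel

/-- A list contains all the admissible maps sending 5 to the target. -/
def complete (t : Fin 16) (L : List M4) : Bool :=
  (List.finRange 16).all fun a => (List.finRange 16).all fun b => (List.finRange 16).all fun d =>
    L.contains (a, b, a ^^^ t, d) || !nsing (a, b, a ^^^ t, d) || badIn [(a, b, a ^^^ t, d)] covW

theorem za_complete : complete 1 zaL = true := by decide +kernel

theorem ze_complete : complete 10 zeL = true := by decide +kernel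

theorem zE_complete : complete 11 zEL = true := by decide +kernel

theorem zb_complete : complete 2 zbL = true := by decide +kernel

theorem zd_complete : complete 6 zdL = true := by decide +kernel

theorem mem_of_complete {t : Fin 16} {L : List M4} (h : complete t L = true) {m : M4}
    (hns : nsing m = true) (hb : badIn [m] covW = false) (h5 : app m 5 = t) : m ∈ L := by
  obtain ⟨a, b, c, d⟩ := m
  have hc : c = a ^^^ t := xor_eq a c t (by rw [← h5]; exact app_five a b c d)
  subst hc
  have := List.all_eq_true.1 (List.all_eq_true.1 (List.all_eq_true.1 h a (List.mem_finRange a)) b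
    (List.mem_finRange b)) d (List.mem_finRange d)
  simp only [hns, hb, Bool.not_true, Bool.or_false, List.contains_eq_mem, decide_eq_true_eq] at this
  exact this
where
  app_five (a b c d : Fin 16) : a ^^^ c = app (a, b, c, d) 5 := by
    have h0 : ∀ x : Fin 16, x ^^^ 0 = x := by decide +kernel
    simp only [app, show (5 : Fin 16).val.testBit 0 = true by decide,
      show (5 : Fin 16).val.testBit 1 = false by decide, show (5 : Fin 16).val.testBit 2 = true by decide,
      show (5 : Fin 16).val.testBit 3 = false by decide, if_true, Bool.false_eq_true, if_false, h0]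

/-- Three maps moving 5 into the three classes generate an element of order four. -/
theorem triple_cert : (zaL.all fun m => zeL.all fun k => zEL.all fun l =>
    badIn [m, k, l] [[2, 3], [2, 4], [3, 4], [0, 2, 3], [0, 2, 4], [1, 3, 4]]) = true := by
  decide +kernel

/-- With 5 going to 1 the classes of 10 and 11 contain 2 and 6 in some order. -/
theorem za_cert : (zaL.all fun m =>
    let hit := fun (v : Fin 16) (us : List (Fin 16)) =>
      [[2], [2, 1], [2, 0], [2, 0, 1], [2, 2], [1, 2], [0, 2]].any fun w => us.contains (app (ev [mC, mF, m] w) v)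
    (hit 2 [10, 15] && hit 6 [11, 14]) || (hit 6 [10, 15] && hit 2 [11, 14])) = true := by
  decide +kernel

/-- No map preserving the four-group {0, 1, 4, 5} moves 10 to 11 or 14. -/
theorem four_cert : ([1, 4, 5].all fun a => [1, 4, 5].all fun c => (List.finRange 16).all fun b =>
    [11, 14].all fun t => let m : M4 := (a, b, c, b ^^^ t)
      !nsing m || !([1, 4, 5] : List (Fin 16)).contains (a ^^^ c) ||
        badIn [m] [[2], [1, 2], [0, 2], [0, 1, 2]]) = true := by
  decide +kernel

/-- With 5 going to 2 either 5 also goes to one of 1, 4, 10, 15, 11, 14, or some word fixes 5 and cycles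
these three classes while some word moves 6 into the first. -/
theorem zb_cert : (zbL.all fun m =>
    ([[2, 2], [2, 0, 2], [2, 1, 2]].any fun w =>
      ([1, 4, 10, 15, 11, 14] : List (Fin 16)).contains (app (ev [mC, mF, m] w) 5)) ||
    (([[2, 0, 2, 2], [2, 2, 0, 2], [2, 0, 1, 2, 1, 2], [2, 1, 2, 0, 1, 2], [2, 0, 1, 2, 0, 2], [2, 1, 2, 2],
        [2, 2, 1, 2], [2, 0, 2, 0, 1, 2], [2, 0, 2, 1, 2], [2, 2, 0, 1, 2], [2, 0, 1, 2, 2], [2, 1, 2, 0, 2]].any fun w =>
      app (ev [mC, mF, m] w) 5 == 5 && ([10, 15] : List (Fin 16)).contains (app (ev [mC, mF, m] w) 1) &&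
        ([11, 14] : List (Fin 16)).contains (app (ev [mC, mF, m] w) 10)) &&
      ([[2], [2, 0], [2, 1], [2, 0, 1]].any fun w =>
        ([1, 4] : List (Fin 16)).contains (app (ev [mC, mF, m] w) 6)))) = true := by
  decide +kernel

/-- With 5 going to 2 and to 6 either 5 goes to one of 1, 4, 10, 15, 11, 14 or some word has order four. -/
theorem zbd_cert : (zbL.all fun m =>
    ([[2, 2], [2, 0, 2], [2, 1, 2]].any fun w =>
      ([1, 4, 10, 15, 11, 14] : List (Fin 16)).contains (app (ev [mC, mF, m] w) 5)) ||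
    zdL.all fun k => badIn [m, k] [[2, 3], [0, 2, 3], [1, 2, 3], [0, 3, 2], [0, 1, 2, 3], [1, 3, 2],
      [2, 2, 3], [2, 3, 3], [0, 1, 3, 2], [0, 2, 1, 3]]) = true := by
  decide +kernel

end Cfsg.Lib.AltEightSyl
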