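import Cfsg.Agent.Lib.AltEightSyl.SigBase

/-!
# Elements of odd order centralising the central involution and another involution

When every realised rotation is one in opposite senses, an element of odd order centralising the central
involution and an involution of the subgroup of order sixteen other than it lies in the odd core.
-/

set_option autoImplicit false
set_option linter.style.haveILetI false
set_option linter.unusedSectionVars false
set_option maxRecDepth 100000

namespace Cfsg.Lib.AltEightSyl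

open Cfsg Cfsg.Lib Subgroup Syl34

universe u

theorem a_facts : ∀ v : Fin 64, inA v = true → v ≠ 0 → v ≠ 5 →
    (inQ v = true ∧ (aCl v = 1 ∨ aCl v = 10 ∨ aCl v = 11)) ∨ inQ v = false := by
  decide +kernel

theorem pRep_inQ : ∀ k : Fin 6, inQ (pRep k) = true := by decide +kernel

theorem fix_facts : (∀ k : Fin 3 × Fin 3, k.1 + k.2 = 0 → k.1 = k.2 → k = (0, 0)) ∧
    ∀ k : Fin 3 × Fin 3, k.1 + k.2 = 0 → ∀ r : Fin 64, (r = 1 ∨ r = 10 ∨ r = 11) → rotCls k r = r → k = (0, 0) :=
  ⟨by decide +kernel, antidiag_facts.2.2.2.2.2.2.2⟩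

namespace Frame

variable {G : Type u} [Group G] (F : Frame G) [Finite G]

theorem perm_of_th {n : F.nq} (h : (n : G) ∈ th F.z) : F.perm n = 1 := by
  refine Equiv.ext fun k => ?_
  obtain ⟨b, -, e, hb⟩ := F.pimg_conj n (pair_facts.1 k).1
  have hbk : b = pRep k := by
    refine F.md_eq ?_
    rw [← e]
    exact F.md_of_th h (F.comm_z _).symm
  rw [hbk, (pair_facts.1 k).2] at hb
  rw [F.perm_apply, Equiv.Perm.one_apply]
  exact hb.symm

/-- An element of odd order is congruent to one of odd order normalising the extraspecial subgroup. -/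
theorem exists_odd_acts (hG : Good F) {g : G} (hg : Commute g F.z) (ho : Odd (orderOf g)) :
    ∃ n : F.nq, Odd (orderOf (n : G)) ∧ F.Md g (n : G) := by
  obtain ⟨o, hoo, n, hn, e⟩ := F.exists_acts hG hg
  have key : ∀ j : ℕ, F.Md (g ^ j) (n ^ j) := by
    intro j
    induction j with
    | zero => simpa using F.md_refl 1
    | succ j ih =>
      have h1 := mul_mem (F.conj_th (hg.pow_left j) hoo) ih
      show g ^ (j + 1) * (n ^ (j + 1))⁻¹ ∈ th F.z
      have h2 : g ^ (j + 1) * (n ^ (j + 1))⁻¹ = g ^ j * o * (g ^ j)⁻¹ * (g ^ j * (n ^ j)⁻¹) := by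
        conv_lhs => arg 1; rw [pow_succ]; arg 2; rw [e]
        rw [pow_succ']
        group
      rw [h2]
      exact h1
  obtain ⟨s, r, hr, hsr⟩ := Nat.exists_eq_pow_mul_and_not_dvd (orderOf_pos n).ne' 2 (by norm_num)
  obtain ⟨d, hd⟩ := exists_pow_eq_self_of_coprime (x := g) (n := 2 ^ s)
    (Nat.Coprime.pow_left s ho.coprime_two_left)
  refine ⟨⟨n ^ (2 ^ s * d), pow_mem (F.mem_nq.2 hn) _⟩, ?_, ?_⟩
  · refine (Nat.not_even_iff_odd.1 (fun h => hr (even_iff_two_dvd.1 h))).of_dvd_nat (orderOf_dvd_of_pow_eq_one ?_)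
    show (n ^ (2 ^ s * d)) ^ r = 1
    rw [← pow_mul, show 2 ^ s * d * r = orderOf n * d by rw [hsr]; ring, pow_mul, pow_orderOf_eq_one, one_pow]
  · have h := key (2 ^ s * d)
    rwa [pow_mul g, hd] at h

theorem odd_mem_th (hG : Good F) (hrot : ∀ k, F.Rot k → k.1 + k.2 = 0) {g : G} (hg : Commute g F.z)
    (ho : Odd (orderOf g)) {v : Fin 64} (hv : inA v = true) (h0 : v ≠ 0) (h5 : v ≠ 5)
    (hgv : Commute g (F.f v)) : g ∈ th F.z := by
  obtain ⟨n, hn, hm⟩ := F.exists_odd_acts hG hg ho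
  suffices hth : (n : G) ∈ th F.z by
    have := mul_mem hm hth
    rwa [inv_mul_cancel_right] at this
  have hnodd : Odd (orderOf n) := by rwa [← Subgroup.orderOf_coe]
  obtain ⟨k, hk⟩ := F.perm_odd n hnodd
  have hksum := hrot k ⟨n, hk⟩
  -- the image of the involution
  have hnv : F.Md ((n : G) * F.f v * (n : G)⁻¹) (F.f v) := by
    refine F.md_symm ?_
    have hcx : Commute ((n : G) * F.f v * (n : G)⁻¹) F.z :=
      (((F.mem_nq.1 n.2).1).mul_left (F.comm_z v).symm).mul_left (F.mem_nq.1 n.2).1.inv_left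
    have h := F.md_of_th (o := g * (n : G)⁻¹) hm hcx
    rwa [show g * (n : G)⁻¹ * ((n : G) * F.f v * (n : G)⁻¹) * (g * (n : G)⁻¹)⁻¹ = g * F.f v * g⁻¹ by group,
      hgv.eq, mul_inv_cancel_right] at h
  have hk0 : k = (0, 0) := by
    rcases a_facts v hv h0 h5 with ⟨hQ, hcl⟩ | hQ
    · obtain ⟨l, e, hl⟩ := F.rot_class hk hcl
      have := F.acts_congr (F.mem_nq.1 n.2) hQ hnv
      rw [e] at this
      rw [F.inj _ _ this] at hl
      exact fix_facts.2 k hksum _ hcl hl.symm
    · refine fix_facts.1 k hksum ?_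
      have h1 : F.perm (n * ⟨F.f v, F.nq_f v⟩ * n⁻¹ * ⟨F.f v, F.nq_f v⟩⁻¹) = 1 := F.perm_of_th hnv
      rw [map_mul, map_mul, map_mul, map_inv, map_inv, hk, F.perm_f, if_neg (by rw [hQ]; decide),
        mul_inv_eq_one, mul_inv_eq_iff_eq_mul] at h1
      have h2 : sig * rot k * sig = rot k := by rw [← h1, mul_assoc, rot_facts.2.2.2.2, mul_one]
      rw [(rot_facts.2.2.1 k).1] at h2
      exact (congrArg Prod.fst ((rot_facts.2.1 _ _).2 h2)).symm
  refine F.mem_th_of_perm hG ?_ hn
  rw [hk, hk0]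
  exact (rot_facts.2.2.1 (0, 0)).2.2

end Frame

end Cfsg.Lib.AltEightSyl
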