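import Cfsg.Agent.Lib.EightThree.Pairs
import Cfsg.Agent.S0205

/-!
The centraliser of a central involution `a` modulo its odd core when an involution `x` is, in a Sylow
subgroup, conjugate only to itself and to `x * a`.
-/

set_option autoImplicit false
set_option linter.style.haveILetI false

namespace Cfsg.Lib.AltEightSyl

open Subgroup Cfsg.Lib Cfsg.Lib.EightThree

/-- The conjugates of `x` in `K` are `x` and `x * a` modulo the odd core. -/
theorem cover_pair {G : Type*} [Group G] [Finite G] {K S : Subgroup G} {a x : G} (hSK : S ≤ K)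
    (hS : IsPGroup 2 S) (hmax : ∀ R : Subgroup G, R ≤ K → IsPGroup 2 R → S ≤ R → R ≤ S)
    (haS : a ∈ S) (ha : orderOf a = 2) (hac : ∀ g ∈ K, Commute g a) (hxS : x ∈ S) (hx : orderOf x = 2)
    (hxa : x ≠ a) (huniq : ∀ g ∈ K, g * x * g⁻¹ ∈ S → g * x * g⁻¹ = x ∨ g * x * g⁻¹ = x * a) :
    ∀ g ∈ K, ∃ o ∈ PNil.coreOf K, ∃ n ∈ K, g = o * n ∧ (n * x * n⁻¹ = x ∨ n * x * n⁻¹ = x * a) := by
  haveI : Fact (Nat.Prime 2) := ⟨Nat.prime_two⟩
  intro g hg
  have ha2 : a * a = 1 := Invol.inv_mul_self ha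
  have hx2 : x * x = 1 := Invol.inv_mul_self hx
  have hxK : x ∈ K := hSK hxS
  set W := zpowers a
  have hWK : W ≤ K := zpowers_le.2 (hSK haS)
  have hW2 : ∀ c ∈ W, c * c = 1 := fun c hc => by
    rcases (mem_zpowers_two ha2).1 hc with rfl | rfl
    exacts [one_mul 1, ha2]
  have hcen : ∀ y ∈ K, ∀ c ∈ W, Commute y c := by
    rintro y hy c ⟨k, rfl⟩
    exact (hac y hy).zpow_right k
  haveI : (W.subgroupOf K).Normal := ⟨fun c hc y => by
    rw [mem_subgroupOf] at hc ⊢
    push_cast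
    rwa [(hcen y y.2 c hc).eq, mul_inv_cancel_right]⟩
  set q := QuotientGroup.mk' (W.subgroupOf K) with hq
  have hq1 : ∀ y : ↥K, q y = 1 ↔ (y : G) ∈ W := fun y => QuotientGroup.eq_one_iff y
  have hxW : x ∉ W := fun hc => by
    rcases (mem_zpowers_two ha2).1 hc with e | e
    · rw [e, orderOf_one] at hx; norm_num at hx
    · exact hxa e
  have hiso : Cfsg.IsIsolatedInvolution (q ⟨x, hxK⟩) := by
    refine ⟨orderOf_eq_prime ?_ (fun e => hxW ((hq1 _).1 e)), fun γ hγ => ?_⟩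
    · rw [← map_pow]
      exact (hq1 _).2 (by rw [SubmonoidClass.coe_pow, pow_two, hx2]; exact one_mem _)
    obtain ⟨h, rfl⟩ := QuotientGroup.mk'_surjective (W.subgroupOf K) γ
    set y : G := (h : G) * x * (h : G)⁻¹ with hy
    have hy2 : orderOf y = 2 := by rw [hy, Invol.orderOf_conj_eq, hx]
    have hyK : y ∈ K := mul_mem (mul_mem h.2 hxK) (inv_mem h.2)
    have hc : (x * y) * (x * y) ∈ W := by
      refine (hq1 ⟨_, mul_mem (mul_mem hxK hyK) (mul_mem hxK hyK)⟩).1 ?_
      show q ((⟨x, hxK⟩ * (h * ⟨x, hxK⟩ * h⁻¹)) * (⟨x, hxK⟩ * (h * ⟨x, hxK⟩ * h⁻¹))) = 1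
      simp only [map_mul, map_inv]
      rw [hγ.symm.mul_mul_mul_comm]
      have h2 : q ⟨x, hxK⟩ * q ⟨x, hxK⟩ = 1 := by
        rw [← map_mul]; exact (hq1 _).2 (by rw [Subgroup.coe_mul, hx2]; exact one_mem _)
      rw [h2, one_mul]
      calc q h * q ⟨x, hxK⟩ * (q h)⁻¹ * (q h * q ⟨x, hxK⟩ * (q h)⁻¹)
          = q h * (q ⟨x, hxK⟩ * q ⟨x, hxK⟩) * (q h)⁻¹ := by group
        _ = 1 := by rw [h2]; group
    have hP : IsPGroup 2 (closure ({x, y} : Set G)) := by
      intro k
      refine ⟨2, Subtype.ext ?_⟩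
      rw [SubmonoidClass.coe_pow, OneMemClass.coe_one, show (2 : ℕ) ^ 2 = 2 * 2 from rfl, pow_mul]
      have h4 : ((x * y) * (x * y)) ^ 2 = 1 := by rw [pow_two]; exact hW2 _ hc
      obtain ⟨m, hm | hm⟩ := (Invol.mem_closure_pair hx hy2).1 k.2
      · rw [hm, ← pow_mul, ← zpow_natCast, ← zpow_mul, mul_comm, zpow_mul, zpow_natCast, pow_mul,
          pow_two (x * y), h4, one_zpow]
      · rw [hm, pow_two (x * _), Invol.mul_zpow_sq hx2 (Invol.conj_mul_left hx hy2) m, one_pow]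
    set D := closure ({x, y} : Set G)
    have hDK : D ≤ K := (closure_le _).2 (by rintro _ (rfl | rfl); exacts [hxK, hyK])
    have hD' : IsPGroup 2 ↥(D ⊔ W : Subgroup G) := hP.to_sup_of_normal_right' (isPGroup_zpowers_two ha2)
      (fun k hk => mem_normalizer_zpowers (hac k (hDK hk)))
    obtain ⟨c, hcK, hcS⟩ := exists_conj_le hSK hS hmax (sup_le hDK hWK) hD'
    have hcx := huniq c hcK (hcS x (mem_sup_left (subset_closure (Or.inl rfl))))
    have e0 : c * y * c⁻¹ = c * h * x * (c * h)⁻¹ := by rw [hy]; group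
    have hcy := huniq (c * h) (mul_mem hcK h.2) (e0 ▸ hcS y (mem_sup_left (subset_closure (Or.inr rfl))))
    rw [← e0] at hcy
    have hca : c * a * c⁻¹ = a := by rw [(hac c hcK).eq, mul_inv_cancel_right]
    have hyx : y = x ∨ y = x * a := by
      have key : ∀ {u v : G}, c * u * c⁻¹ = v → u = c⁻¹ * v * c := fun e => by rw [← e]; group
      rcases hcx with e1 | e1 <;> rcases hcy with e2 | e2
      · exact Or.inl ((key e2).trans (key e1).symm)
      · refine Or.inr ((key e2).trans (key (v := x * a) ?_).symm)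
        rw [show c * (x * a) * c⁻¹ = c * x * c⁻¹ * (c * a * c⁻¹) by group, e1, hca]
      · refine Or.inr ((key e2).trans (key (v := x) ?_).symm)
        rw [show c * (x * a) * c⁻¹ = c * x * c⁻¹ * (c * a * c⁻¹) by group, e1, hca, mul_assoc, ha2, mul_one]
      · exact Or.inl ((key e2).trans (key e1).symm)
    show q h * q ⟨x, hxK⟩ * (q h)⁻¹ = q ⟨x, hxK⟩
    rw [← map_inv, ← map_mul, ← map_mul]
    rcases hyx with e | e
    · exact congrArg q (Subtype.ext e)
    · have h2 : h * ⟨x, hxK⟩ * h⁻¹ = (⟨x, hxK⟩ : ↥K) * ⟨a, hSK haS⟩ := Subtype.ext e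
      rw [h2, map_mul, (hq1 ⟨a, _⟩).2 (mem_zpowers a), mul_one]
  have h1 := ZStar.zStarHolds (↥K ⧸ W.subgroupOf K) _ hiso (q ⟨g, hg⟩)
  rw [← map_inv, ← map_inv, ← map_mul, ← map_mul, ← map_mul] at h1
  obtain ⟨c, hc, o, ho, e⟩ := exists_mul_core hWK hW2 hcen
    (x := x * g * x⁻¹ * g⁻¹) (mul_mem (mul_mem (mul_mem hxK hg) (inv_mem hxK)) (inv_mem hg)) h1
  have hxi : x⁻¹ = x := inv_eq_of_mul_eq_one_right hx2
  have hu : orderOf (x * c) = 2 := by
    refine orderOf_eq_prime ?_ fun e1 => hxW ?_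
    · rw [pow_two, show x * c * (x * c) = x * (c * x) * c by group, ← (hcen x hxK c hc).eq,
        show x * (x * c) * c = x * x * (c * c) by group, hx2, hW2 c hc, mul_one]
    · rw [eq_inv_of_mul_eq_one_left e1]; exact inv_mem hc
  have e' : g * x * g⁻¹ = x * c * o := by
    rw [mul_assoc x, ← e, hxi]
    rw [← mul_assoc, ← mul_assoc, ← mul_assoc, hx2, one_mul]
  obtain ⟨d, hd, hdu⟩ := exists_conj_core hx hu ho e'
  refine ⟨d, hd, d⁻¹ * g, mul_mem (inv_mem (PNil.coreOf_le K hd)) hg, by group, ?_⟩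
  rcases (mem_zpowers_two ha2).1 hc with rfl | rfl
  · exact Or.inl (by rw [hdu, mul_one])
  · exact Or.inr hdu

/-- Solvability of `K` from that of the centraliser of `x` in it. -/
theorem solvable_of_pair {G : Type*} [Group G] [Finite G] {K S : Subgroup G} {a x : G} (hSK : S ≤ K)
    (hS : IsPGroup 2 S) (hmax : ∀ R : Subgroup G, R ≤ K → IsPGroup 2 R → S ≤ R → R ≤ S)
    (haS : a ∈ S) (ha : orderOf a = 2) (hac : ∀ g ∈ K, Commute g a) (hxS : x ∈ S) (hx : orderOf x = 2)
    (hxa : x ≠ a) (huniq : ∀ g ∈ K, g * x * g⁻¹ ∈ S → g * x * g⁻¹ = x ∨ g * x * g⁻¹ = x * a)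
    (h : Group.IsSolvable ↥(K ⊓ centralizer ({x} : Set G))) : Group.IsSolvable K := by
  classical
  have ha2 : a * a = 1 := Invol.inv_mul_self ha
  have hxK := hSK hxS
  haveI := h
  -- the stabiliser of the pair
  have hswap : ∀ {n : G}, n ∈ K → n * x * n⁻¹ = x * a → n * (x * a) * n⁻¹ = x := fun {n} hn e => by
    rw [show n * (x * a) * n⁻¹ = n * x * n⁻¹ * (n * a * n⁻¹) by group, e, (hac n hn).eq,
      mul_inv_cancel_right, mul_assoc, ha2, mul_one]
  have hfix : ∀ {n : G}, n ∈ K → n * x * n⁻¹ = x → n * (x * a) * n⁻¹ = x * a := fun {n} hn e => by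
    rw [show n * (x * a) * n⁻¹ = n * x * n⁻¹ * (n * a * n⁻¹) by group, e, (hac n hn).eq, mul_inv_cancel_right]
  let D : Subgroup G :=
    { carrier := {n | n ∈ K ∧ (n * x * n⁻¹ = x ∨ n * x * n⁻¹ = x * a)}
      one_mem' := ⟨one_mem K, Or.inl (by group)⟩
      mul_mem' := by
        rintro m n ⟨hm, em⟩ ⟨hn, en⟩
        refine ⟨mul_mem hm hn, ?_⟩
        rw [show m * n * x * (m * n)⁻¹ = m * (n * x * n⁻¹) * m⁻¹ by group]
        rcases en with e | e <;> rw [e]
        · exact em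
        · rcases em with e' | e'
          · exact Or.inr (hfix hm e')
          · exact Or.inl (hswap hm e')
      inv_mem' := by
        rintro n ⟨hn, en⟩
        refine ⟨inv_mem hn, ?_⟩
        rw [inv_inv]
        rcases en with e | e
        · exact Or.inl (by conv_lhs => rw [← e]
                           group)
        · refine Or.inr ?_
          conv_lhs => rw [← hswap hn e]
          group }
  have hD : ∀ n : D, (n : G) * x * (n : G)⁻¹ = x ∨ (n : G) * x * (n : G)⁻¹ = x * a := fun n => n.2.2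
  have ha1 : x * a ≠ x := fun e => by
    rw [mul_eq_left] at e
    rw [e, orderOf_one] at ha
    norm_num at ha
  let χ : D →* ℤˣ :=
    { toFun := fun n => if (n : G) * x * (n : G)⁻¹ = x then 1 else -1
      map_one' := by simp
      map_mul' := fun m n => by
        have e : ((m * n : D) : G) * x * ((m * n : D) : G)⁻¹ = m * ((n : G) * x * (n : G)⁻¹) * (m : G)⁻¹ := by
          rw [coe_mul]; group
        rcases hD m with e1 | e1 <;> rcases hD n with e2 | e2 <;>
          simp only [e, e1, e2, hfix m.2.1, hswap m.2.1, if_true, if_neg ha1, one_mul, mul_one,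
            neg_mul, neg_neg] }
  haveI : Group.IsSolvable D := by
    refine Group.isSolvable_of_ker_le_range
      (inclusion (show K ⊓ centralizer ({x} : Set G) ≤ D from fun n hn => ⟨hn.1, Or.inl (by
        rw [mem_centralizer_singleton_iff.1 hn.2, mul_inv_cancel_right])⟩)) χ fun n hn => ?_
    have hn' : (n : G) * x * (n : G)⁻¹ = x := by
      by_contra hne
      have h1 : χ n = -1 := if_neg hne
      rw [MonoidHom.mem_ker.1 hn] at h1
      exact absurd h1 (by decide)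
    exact ⟨⟨n, n.2.1, mem_centralizer_singleton_iff.2 (mul_inv_eq_iff_eq_mul.1 hn')⟩, rfl⟩
  haveI : Group.IsSolvable (Cfsg.oddCore ↥K) := by
    refine Cfsg.Agent.S0205.result ?_
    have := PNil.coreOf_odd K
    rwa [PNil.coreOf, card_map_of_injective K.subtype_injective] at this
  haveI : Group.IsSolvable (↥K ⧸ Cfsg.oddCore ↥K) := by
    refine Group.isSolvable_of_surjective
      (f := (QuotientGroup.mk' (Cfsg.oddCore ↥K)).comp (inclusion (show D ≤ K from fun n hn => hn.1)))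
      fun y => ?_
    obtain ⟨⟨g, hg⟩, rfl⟩ := QuotientGroup.mk'_surjective _ y
    obtain ⟨o, ho, n, hn, e, hn'⟩ := cover_pair hSK hS hmax haS ha hac hxS hx hxa huniq g hg
    obtain ⟨o', ho', rfl⟩ := ho
    refine ⟨⟨n, hn, hn'⟩, ?_⟩
    show QuotientGroup.mk' _ (⟨n, hn⟩ : ↥K) = QuotientGroup.mk' _ ⟨g, hg⟩
    rw [show (⟨g, hg⟩ : ↥K) = o' * ⟨n, hn⟩ from Subtype.ext e, map_mul,
      show QuotientGroup.mk' _ o' = 1 from (QuotientGroup.eq_one_iff _).2 ho', one_mul]
  exact Group.isSolvable_of_ker_le_range (Cfsg.oddCore ↥K).subtype (QuotientGroup.mk' (Cfsg.oddCore ↥K))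
    (by rw [QuotientGroup.ker_mk', range_subtype])

end Cfsg.Lib.AltEightSyl
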