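import Cfsg.Agent.Lib.AltEightSyl.OneOdd
import Cfsg.Agent.Lib.AltEightSyl.PairIso

/-!
# The four-group of three conjugates of 10

With the central involution conjugate to 1, not to 10, and 2 conjugate to 10, the centraliser of each of
10, 2, 8 is covered by its odd core and the elements permuting the three.
-/

set_option autoImplicit false
set_option linter.style.haveILetI false
set_option linter.unusedSectionVars false
set_option maxRecDepth 100000

namespace Cfsg.Lib.AltEightSyl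

open Cfsg Cfsg.Lib Subgroup Syl34

universe u

/-- The conjugates of 10 in the subgroup of order sixteen. -/
def inU (j : Fin 64) : Bool := [10, 15, 2, 3, 8, 12].contains j

/-- The three involutions of the four-group. -/
def inT3 (j : Fin 64) : Bool := [10, 2, 8].contains j

theorem u_facts :
    (∀ v j : Fin 64, inT3 v = true → inU j = true → inU (aMul j v) = true →
      inT3 j = true ∧ inT3 (aMul j v) = true ∧ ∀ w : Fin 64, inT3 w = true → w = v ∨ w = j ∨ w = aMul j v) ∧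
    (∀ y' y : Fin 64, inU y' = true → inU y = true → inU (aMul y y') = true →
      ∀ i : Fin 64, aCm y' i = true → aCm y i = true → inA i = true) ∧
    (∀ y : Fin 64, aCl y = 32 → aCm 10 y = true →
      aCm 15 y = true ∧ aCl (aMul 15 y) = 32 ∧ aMul y 10 ≠ 15) ∧
    (∀ y : Fin 64, inU y = true → inU (aMul y 10) = true → y = 2 ∨ y = 8) ∧
    (aMul 2 10 = 8 ∧ aMul 10 2 = 8 ∧ aCm 10 32 = true ∧ aConj 32 8 = 2 ∧ aCm 10 2 = true ∧ inA 10 = true ∧
      inA 2 = true ∧ inA 8 = true ∧ aCl 8 = 2) ∧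
    (∀ v : Fin 64, inT3 v = true → inA v = true ∧ v ≠ 0 ∧ v ≠ 5 ∧ inU v = true) := by
  refine ⟨?_, ?_, ?_, ?_, ⟨?_, ?_, ?_, ?_, ?_, ?_, ?_, ?_, ?_⟩, ?_⟩ <;> decide +kernel

theorem inT3_iff : ∀ v : Fin 64, inT3 v = true ↔ v = 10 ∨ v = 2 ∨ v = 8 := by decide +kernel

theorem inU_cls : ∀ j : Fin 64, inA j = true → (aCl j = 10 ∨ aCl j = 2) → inU j = true := by decide +kernel

theorem z1_not_t3 : ∀ i : Fin 64, inZ1 i = true → inT3 i = true → False := by decide +kernel

theorem u_two : ∀ a : Fin 64, inU a = true → inU (aMul a 2) = true → a = 10 ∨ a = 8 := by decide +kernel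

theorem inA_out : ∀ j : Fin 64, aCl j = 32 → inA j = false := by decide +kernel

namespace Frame

variable {G : Type u} [Group G] (F : Frame G) [Finite G]

namespace CaseOne

variable {F}

theorem base (h : F.CaseOne) (hG : Good F) : F.Base := by
  refine ⟨hG, ?_⟩
  obtain ⟨g, hg⟩ := isConj_iff.1 h.1
  exact solvable_cent_conj hg hG.hsol

/-- The classes of the conjugates of 10. -/
theorem u_classes (h : F.CaseOne) (hG : Good F) {j : Fin 64} (hj : F.Cj 10 j) :
    aCl j = 10 ∨ aCl j = 2 ∨ aCl j = 32 := by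
  have h0 := F.cl_of_cj hj (by decide +kernel)
  have hc : F.Cj 10 (aCl j) := IsConj.trans hj (F.cj_rep h0)
  obtain ⟨c1, c10, c11⟩ := F.cj_anti hG
  rcases ((aCl_facts j).2 h0).1 with e | e | e | e | e | e | e | e | e <;> rw [e] at hc
  · exact absurd hc.symm h.2.1
  · exact absurd (IsConj.trans h.1 hc.symm) h.2.1
  · exact Or.inr (Or.inl e)
  · exact absurd hc.symm h.not_de
  · exact Or.inl e
  · exact absurd hc h.not_Ee
  · exact absurd (IsConj.trans h.1 (IsConj.trans c1 hc.symm)) h.2.1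
  · exact Or.inr (Or.inr e)
  · exact absurd (IsConj.trans hc c11.symm) h.not_Ee

theorem mem_u (h : F.CaseOne) (hG : Good F) {j : Fin 64} (hA : inA j = true) (hj : F.Cj 10 j) :
    inU j = true := by
  rcases h.u_classes hG hj with e | e | e
  · exact inU_cls j hA (Or.inl e)
  · exact inU_cls j hA (Or.inr e)
  · rw [inA_out j e] at hA; exact absurd hA (by decide)

theorem cj_t3 (h : F.CaseOne) {v : Fin 64} (hv : inT3 v = true) : F.Cj 10 v := by
  rcases (inT3_iff v).1 hv with rfl | rfl | rfl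
  · exact IsConj.refl _
  · exact h.2.2.symm
  · exact IsConj.trans h.2.2.symm (F.cj_same (by decide +kernel) (by decide +kernel))

/-- An element moving 10 and 2 into the subgroup of order sixteen sends them to conjugates of 10. -/
theorem images (h : F.CaseOne) (hG : Good F) {n : G} (hn : n ∈ normalizer (F.aGrp : Set G)) :
    ∃ y' y : Fin 64, n * F.f 10 * n⁻¹ = F.f y' ∧ n * F.f 2 * n⁻¹ = F.f y ∧
      n * F.f 8 * n⁻¹ = F.f (aMul y y') ∧ inU y' = true ∧ inU y = true ∧ inU (aMul y y') = true := by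
  obtain ⟨⟨h210, -, -, -, -, hA10, hA2, hA8, -⟩, -⟩ := u_facts.2.2.2.2
  obtain ⟨y', hy'A, e'⟩ := F.exists_normalizer_idx hn hA10
  obtain ⟨y, hyA, e⟩ := F.exists_normalizer_idx hn hA2
  have e8 : n * F.f 8 * n⁻¹ = F.f (aMul y y') := by
    rw [← h210, F.fmul, F.fmul, ← e, ← e']; group
  exact ⟨y', y, e', e, e8, h.mem_u hG hy'A (F.cj_of_conj e'),
    h.mem_u hG hyA (IsConj.trans h.2.2.symm (F.cj_of_conj e)),
    h.mem_u hG ((sub_facts.1.2.1 y y' hyA hy'A).1)
      (IsConj.trans (h.cj_t3 (v := 8) (by decide +kernel)) (F.cj_of_conj e8))⟩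

/-- The subgroup of order sixteen is a maximal 2-subgroup of the centraliser of 10 and 2. -/
theorem max_aGrp (h : F.CaseOne) (hG : Good F) :
    ∀ R : Subgroup G, R ≤ centralizer ({F.f 10} : Set G) ⊓ centralizer ({F.f 2} : Set G) → IsPGroup 2 R →
      F.aGrp ≤ R → R ≤ F.aGrp := by
  intro R hR hRp hle r hr
  obtain ⟨c, hc⟩ := Invol.exists_conj_mem_sylow F.P hRp
  have hcn : c ∈ normalizer (F.aGrp : Set G) := F.mem_normalizer_of_le fun a ha => hc a (hle ha)
  obtain ⟨y', y, e', e, -, hy', hy, hyy⟩ := h.images hG hcn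
  obtain ⟨i, hi⟩ := (F.mem_iff _).1 (hc r hr)
  obtain ⟨hr10, hr2⟩ := mem_inf.1 (hR hr)
  have hcm : ∀ {v k : Fin 64}, Commute r (F.f v) → c * F.f v * c⁻¹ = F.f k → aCm k i = true := by
    intro v k hcm hk
    refine (F.comm_iff k i).1 ?_
    rw [← hk, hi]
    exact (hcm.symm.map (MulAut.conj c).toMonoidHom)
  have hiA := u_facts.2.1 y' y hy' hy hyy i (hcm (mem_centralizer_singleton_iff.1 hr10) e')
    (hcm (mem_centralizer_singleton_iff.1 hr2) e)
  refine (mem_normalizer_iff.1 hcn r).2 ?_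
  rw [← hi]
  exact F.f_mem_aGrp hiA

theorem cent_max (h : F.CaseOne) : ∀ R : Subgroup G, R ≤ centralizer ({F.f 10} : Set G) → IsPGroup 2 R →
    F.centS 10 ≤ R → R ≤ F.centS 10 := by
  intro R hR hRp hle
  refine (eq_of_le_of_card_ge hle ?_).ge
  rw [(F.card_centS 10).trans ((card_cent 10 (by decide +kernel)).2.1 (by decide +kernel))]
  refine F.exists_cent_max (fun j hj => ?_) hRp hR
  have hj0 : aCl j ≠ 0 := F.cl_of_cj hj (by decide +kernel)
  by_cases h5 : aCl j = 5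
  · rw [(aCl_list j).1.1 h5] at hj
    exact absurd hj.symm h.2.1
  by_cases hc : aCl j = 1 ∨ aCl j = 10 ∨ aCl j = 11
  · rw [F.card_centS, (card_cent j hj0).2.1 hc]
  · simp only [not_or] at hc
    exact (F.card_centS_le hj0 ⟨h5, hc⟩).trans (by norm_num)

theorem huniq (h : F.CaseOne) (hG : Good F) {g : G} (hg : g ∈ centralizer ({F.f 10} : Set G))
    (hgS : g * F.f 2 * g⁻¹ ∈ F.centS 10) :
    g * F.f 2 * g⁻¹ = F.f 2 ∨ g * F.f 2 * g⁻¹ = F.f 2 * F.f 10 := by
  obtain ⟨h210, -, -, -, h102, hA10, hA2, -, -⟩ := u_facts.2.2.2.2.1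
  obtain ⟨y, hy, e⟩ := (F.mem_centS 10 _).1 hgS
  have hgc : Commute g (F.f 10) := mem_centralizer_singleton_iff.1 hg
  have e8 : g * F.f 8 * g⁻¹ = F.f (aMul y 10) := by
    rw [← h210, F.fmul, F.fmul, e]
    calc g * (F.f 2 * F.f 10) * g⁻¹ = g * F.f 2 * g⁻¹ * (g * F.f 10 * g⁻¹) := by group
      _ = g * F.f 2 * g⁻¹ * F.f 10 := by rw [hgc.eq, mul_inv_cancel_right]
  have hyj : F.Cj 10 y := IsConj.trans h.2.2.symm (F.cj_of_conj e.symm)
  have hy8 : F.Cj 10 (aMul y 10) := IsConj.trans (h.cj_t3 (v := 8) (by decide +kernel)) (F.cj_of_conj e8)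
  by_cases hA : inA y = true
  · rcases u_facts.2.2.2.1 y (h.mem_u hG hA hyj) (h.mem_u hG (sub_facts.1.2.1 y 10 hA hA10).1 hy8) with rfl | rfl
    · exact Or.inl e.symm
    · exact Or.inr (by rw [← e, ← F.fmul, h210])
  exfalso
  have h32 : aCl y = 32 := by
    rcases h.u_classes hG hyj with e' | e' | e'
    · exact absurd (((aCl_facts y).2 (e' ▸ by decide)).2.1.2 (by rw [e']; decide)) hA
    · exact absurd (((aCl_facts y).2 (e' ▸ by decide)).2.1.2 (by rw [e']; decide)) hA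
    · exact e'
  obtain ⟨h15y, hcl15, hne⟩ := u_facts.2.2.1 y h32 hy
  have h15 : aCm 15 10 = true := by decide +kernel
  -- pull 15 back
  set r := g⁻¹ * F.f 15 * g⁻¹⁻¹ with hr
  have hfix : g⁻¹ * F.f 10 * g⁻¹⁻¹ = F.f 10 := by rw [hgc.inv_left.eq, mul_inv_cancel_right]
  have hfix2 : g⁻¹ * F.f y * g⁻¹⁻¹ = F.f 2 := by rw [e]; group
  have hrR : zpowers r ≤ centralizer ({F.f 10} : Set G) ⊓ centralizer ({F.f 2} : Set G) := by
    refine zpowers_le.2 (mem_inf.2 ⟨mem_centralizer_singleton_iff.2 ?_, mem_centralizer_singleton_iff.2 ?_⟩)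
    · have := ((F.comm_iff 15 10).2 h15).map (MulAut.conj g⁻¹).toMonoidHom
      rw [← hfix]; exact this.eq
    · have := ((F.comm_iff 15 y).2 h15y).map (MulAut.conj g⁻¹).toMonoidHom
      rw [← hfix2]; exact this.eq
  have hr2 : orderOf r = 2 := by rw [hr, Invol.orderOf_conj_eq, F.order_two_iff]; decide +kernel
  obtain ⟨c, hcY, hc⟩ := EightThree.exists_conj_le (C := centralizer ({F.f 10} : Set G) ⊓ centralizer ({F.f 2} : Set G))
    (P := F.aGrp) (le_inf (F.aGrp_le_centralizer (F.f_mem_aGrp hA10)) (F.aGrp_le_centralizer (F.f_mem_aGrp hA2)))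
    (F.P.isPGroup'.to_le F.aGrp_le) (h.max_aGrp hG) hrR
    (IsPGroup.of_card (n := 1) (by rw [Nat.card_zpowers, hr2, pow_one]))
  obtain ⟨a, haA, ea⟩ := hc r (mem_zpowers r)
  have hc2 : Commute c (F.f 2) := mem_centralizer_singleton_iff.1 (mem_inf.1 hcY).2
  have hc10 : Commute c (F.f 10) := mem_centralizer_singleton_iff.1 (mem_inf.1 hcY).1
  have haU : inU a = true := h.mem_u hG haA (IsConj.trans (F.cj_same (i := 10) (j := 15) (by decide +kernel)
    (by decide +kernel)) (isConj_iff.2 ⟨c * g⁻¹, by rw [ea, hr]; group⟩))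
  have haU2 : inU (aMul a 2) = true := by
    refine h.mem_u hG (sub_facts.1.2.1 a 2 haA hA2).1 (IsConj.trans (IsConj.trans (F.cj_anti hG).2.1
      (show F.Cj 32 (aMul 15 y) by
        have h' := F.cj_cl (i := aMul 15 y) (by rw [hcl15]; decide)
        rwa [hcl15] at h')) (isConj_iff.2 ⟨c * g⁻¹, ?_⟩))
    rw [F.fmul, F.fmul, ea, hr]
    calc c * g⁻¹ * (F.f 15 * F.f y) * (c * g⁻¹)⁻¹
        = c * (g⁻¹ * F.f 15 * g⁻¹⁻¹) * c⁻¹ * (c * (g⁻¹ * F.f y * g⁻¹⁻¹) * c⁻¹) := by group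
      _ = _ := by rw [hfix2, hc2.eq, mul_inv_cancel_right]
  rcases u_two a haU haU2 with rfl | rfl
  · refine absurd (F.inj 15 10 ?_) (by decide)
    have e' : r = F.f 10 := by
      have : c * r * c⁻¹ = c * F.f 10 * c⁻¹ := by rw [← ea, hc10.eq, mul_inv_cancel_right]
      exact mul_left_cancel (mul_right_cancel this)
    have e10 : g * F.f 10 * g⁻¹ = F.f 10 := by rw [hgc.eq, mul_inv_cancel_right]
    rw [← e10, ← e', hr]; group
  · refine absurd (F.inj (aMul y 10) 15 ?_) hne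
    have hc8 : Commute c (F.f 8) := by rw [← h210, F.fmul]; exact hc2.mul_right hc10
    have e' : r = F.f 8 := by
      have : c * r * c⁻¹ = c * F.f 8 * c⁻¹ := by rw [← ea, hc8.eq, mul_inv_cancel_right]
      exact mul_left_cancel (mul_right_cancel this)
    rw [← e8, ← e', hr]; group

/-- The centraliser of each of the three is covered by its odd core and the permutations of them. -/
theorem cover (h : F.CaseOne) (hG : Good F) {v : Fin 64} (hv : inT3 v = true) :
    ∀ g ∈ centralizer ({F.f v} : Set G), ∃ o ∈ th (F.f v), ∃ n ∈ centralizer ({F.f v} : Set G),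
      g = o * n ∧ ∀ w, inT3 w = true → ∃ w', inT3 w' = true ∧ n * F.f w * n⁻¹ = F.f w' := by
  obtain ⟨h210, -, -, -, h102, hA10, hA2, hA8, -⟩ := u_facts.2.2.2.2.1
  -- the centraliser of 10
  have h10 : ∀ g ∈ centralizer ({F.f 10} : Set G), ∃ o ∈ th (F.f 10), ∃ n ∈ centralizer ({F.f 10} : Set G),
      g = o * n ∧ ∀ w, inT3 w = true → ∃ w', inT3 w' = true ∧ n * F.f w * n⁻¹ = F.f w' := by
    intro g hg
    obtain ⟨o, ho, n, hn, e, hnx⟩ := cover_pair (S := F.centS 10) (x := F.f 2) inf_le_right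
      (F.P.isPGroup'.to_le inf_le_left) h.cent_max
      ((F.mem_centS 10 _).2 ⟨10, by decide +kernel, rfl⟩) ((F.order_two_iff 10).2 (by decide +kernel))
      (fun g hg => mem_centralizer_singleton_iff.1 hg)
      ((F.mem_centS 10 _).2 ⟨2, h102, rfl⟩) ((F.order_two_iff 2).2 (by decide +kernel))
      (fun e => absurd (F.inj _ _ e) (by decide)) (fun g hg hgS => h.huniq hG hg hgS) g hg
    refine ⟨o, ho, n, hn, e, ?_⟩
    have e10 : n * F.f 10 * n⁻¹ = F.f 10 := by
      rw [(mem_centralizer_singleton_iff.1 hn), mul_inv_cancel_right]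
    obtain ⟨y, hy, ey⟩ : ∃ y, (y = 2 ∨ y = 8) ∧ n * F.f 2 * n⁻¹ = F.f y := by
      rcases hnx with e' | e'
      · exact ⟨2, Or.inl rfl, e'⟩
      · exact ⟨8, Or.inr rfl, by rw [e', ← F.fmul, h210]⟩
    intro w hw
    rcases (inT3_iff w).1 hw with rfl | rfl | rfl
    · exact ⟨10, by decide +kernel, e10⟩
    · exact ⟨y, (inT3_iff y).2 (Or.inr hy), ey⟩
    · refine ⟨aMul y 10, by rcases hy with rfl | rfl <;> decide +kernel, ?_⟩
      rw [← h210, F.fmul, F.fmul, ← ey]
      conv_rhs => arg 2; rw [← e10]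
      group
  -- transport
  obtain ⟨m, hm, em⟩ := F.fusion_one hA10 (u_facts.2.2.2.2.2 v hv).1 (h.cj_t3 hv)
  obtain ⟨y', y, e', ey, e8, -, hy, hyy⟩ := h.images hG hm
  rw [F.inj _ _ (e'.symm.trans em)] at e8 hyy
  obtain ⟨hj3, hjv3, htri⟩ := u_facts.1 v y hv hy hyy
  have hm3 : ∀ w, inT3 w = true → ∃ w', inT3 w' = true ∧ m * F.f w * m⁻¹ = F.f w' := by
    intro w hw
    rcases (inT3_iff w).1 hw with rfl | rfl | rfl
    exacts [⟨v, hv, em⟩, ⟨y, hj3, ey⟩, ⟨_, hjv3, e8⟩]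
  have hm3' : ∀ w, inT3 w = true → ∃ w', inT3 w' = true ∧ m * F.f w' * m⁻¹ = F.f w := by
    intro w hw
    rcases htri w hw with rfl | rfl | rfl
    exacts [⟨10, by decide +kernel, em⟩, ⟨2, by decide +kernel, ey⟩, ⟨8, by decide +kernel, e8⟩]
  intro g hg
  have hg' : m⁻¹ * g * m ∈ centralizer ({F.f 10} : Set G) := by
    refine mem_centralizer_singleton_iff.2 ?_
    have hc : Commute g (m * F.f 10 * m⁻¹) := by rw [em]; exact mem_centralizer_singleton_iff.1 hg
    have := (hc.map (MulAut.conj m⁻¹).toMonoidHom).eq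
    simpa [mul_assoc] using this
  obtain ⟨o, ho, n, hn, e, hn3⟩ := h10 _ hg'
  refine ⟨m * o * m⁻¹, em ▸ th_conj m _ ho, m * n * m⁻¹, mem_centralizer_singleton_iff.2 ?_, ?_, ?_⟩
  · rw [← em]
    exact (Commute.map (mem_centralizer_singleton_iff.1 hn : Commute n (F.f 10)) (MulAut.conj m).toMonoidHom).eq
  · rw [show m * o * m⁻¹ * (m * n * m⁻¹) = m * (o * n) * m⁻¹ by group, ← e]; group
  · intro w hw
    obtain ⟨w1, hw1, e1⟩ := hm3' w hw
    obtain ⟨w2, hw2, e2⟩ := hn3 w1 hw1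
    obtain ⟨w3, hw3, e3⟩ := hm3 w2 hw2
    exact ⟨w3, hw3, by rw [← e3, ← e2, ← e1]; group⟩

end CaseOne

end Frame

end Cfsg.Lib.AltEightSyl
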