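import Cfsg.Agent.Lib.UFourThreeLocal.Model
import Mathlib.GroupTheory.SpecificGroups.Quaternion
import Mathlib.Data.Fintype.Prod

/-!
# The quaternion group and its automorphisms of order three, by table
-/

set_option autoImplicit false
set_option maxRecDepth 100000

namespace Cfsg.Lib.AltEightSyl.Quat

open QuaternionGroup
open Cfsg.Lib.UFourThreeLocal (qTab aTab)

/-- The quaternion group of order eight. -/
abbrev Q8 := QuaternionGroup 2

/-- The central involution. -/
def z : Q8 := a 2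

/-- The endomorphism candidate with given images of the two generators. -/
def F (pq : Q8 × Q8) : Q8 → Q8
  | a i => pq.1 ^ i.val
  | xa i => pq.2 * pq.1 ^ i.val

theorem eq_F {f : Q8 →* Q8} : ⇑f = F (f (a 1), f (xa 0)) := by
  funext x
  have h : ∀ i : ZMod (2 * 2), (a i : Q8) = a 1 ^ i.val ∧ (xa i : Q8) = xa 0 * a 1 ^ i.val := by decide +kernel
  cases x with
  | a i => show f (a i) = f (a 1) ^ i.val; rw [(h i).1, map_pow]
  | xa i => show f (xa i) = f (xa 0) * f (a 1) ^ i.val; rw [(h i).2, map_mul, map_pow]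

/-- A candidate is a homomorphism with cube the identity. -/
def good (pq : Q8 × Q8) : Bool :=
  decide ((∀ x y : Q8, F pq (x * y) = F pq x * F pq y) ∧ ∀ x : Q8, F pq (F pq (F pq x)) = x)

theorem good_of {f : Q8 →* Q8} (h : ∀ x, f (f (f x)) = x) : good (f (a 1), f (xa 0)) = true := by
  rw [good, decide_eq_true_iff, ← eq_F]
  exact ⟨map_mul f, h⟩

theorem sq_cases : ∀ x : Q8, (x * x = 1 ∨ x * x = z) ∧ (x * x = 1 ↔ x = 1 ∨ x = z) := by decide +kernel

theorem z_facts : z ≠ 1 ∧ z * z = 1 ∧ (∀ x : Q8, z * x = x * z) := by decide +kernel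

theorem nine : ∀ pq : Q8 × Q8, (∀ x y : Q8, F pq (x * y) = F pq x * F pq y) →
    (∀ x : Q8, (F pq)^[9] x = x) → ∀ x : Q8, F pq (F pq (F pq x)) = x := by decide +kernel

theorem cube_of_nine {f : Q8 →* Q8} (h : ∀ x, (⇑f)^[9] x = x) : ∀ x, f (f (f x)) = x := by
  intro x
  rw [eq_F] at h ⊢
  exact nine _ (fun x y => by rw [← eq_F]; exact map_mul f x y) h x

theorem two_gen : ∀ pq : Q8 × Q8, good pq = true → (∃ x : Q8, F pq x ≠ x) → ∀ pq' : Q8 × Q8, good pq' = true →
    (∀ x : Q8, F pq (F pq' x) = F pq' (F pq x)) →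
    (∀ x : Q8, F pq' x = x) ∨ (∀ x : Q8, F pq' x = F pq x) ∨ ∀ x : Q8, F pq' x = F pq (F pq x) := by
  decide +kernel

theorem fixed : ∀ pq : Q8 × Q8, good pq = true → (∃ x : Q8, F pq x ≠ x) → ∀ x : Q8,
    (F pq x = x → x = 1 ∨ x = z) ∧ F pq x ≠ x * z := by decide +kernel

theorem coord : ∀ pq : Q8 × Q8, good pq = true → (∃ x : Q8, F pq x ≠ x) → ∃ i : Q8, i * F pq i ≠ F pq i * i ∧
    (F pq (F pq i) = i * F pq i ∨ F pq (F pq i) = F pq i * i) := by decide +kernel

theorem inner : ∀ g : Q8, (∀ x, g * (g * (g * x * g⁻¹) * g⁻¹) * g⁻¹ = x) → ∀ x, g * x * g⁻¹ = x := by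
  decide +kernel

theorem central : ∀ u : Q8, (∀ x, u * x = x * u) → u = 1 ∨ u = z := by decide +kernel

theorem comm_sq : ∀ p q : Q8, p * p = z → q * q = z → p * q = q * p → q = p ∨ q = p * z := by decide +kernel

/-- The units in the order of the codes, for two anticommuting units. -/
def unit (i j : Q8) (n : ℕ) : Q8 := [1, i, j, i * j, z, z * i, z * j, z * (i * j)].getD n 1

theorem unit_table : ∀ i j : Q8, i * j ≠ j * i →
    (∀ m < 8, ∀ n < 8, qTab.getD (m * 8 + n) 0 < 8 ∧ unit i j (qTab.getD (m * 8 + n) 0) = unit i j m * unit i j n) ∧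
    (∀ m < 8, ∀ n < 8, unit i j m = unit i j n → m = n) ∧ (∀ x : Q8, ∃ n < 8, unit i j n = x) := by decide +kernel

theorem unit_act : ∀ pq : Q8 × Q8, good pq = true → ∀ i : Q8, i * F pq i ≠ F pq i * i →
    F pq (F pq i) = i * F pq i → ∀ k < 3, ∀ n < 8, aTab.getD (8 * k + n) 0 < 8 ∧
      unit i (F pq i) (aTab.getD (8 * k + n) 0) = (F pq)^[k] (unit i (F pq i) n) := by decide +kernel

/-- The other power of the automorphism has the product in the other order. -/
theorem coord_swap : ∀ pq : Q8 × Q8, good pq = true → ∀ i : Q8, i * F pq i ≠ F pq i * i →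
    F pq (F pq i) = F pq i * i → i * F pq (F pq i) ≠ F pq (F pq i) * i ∧
      F pq (F pq (F pq (F pq i))) = i * F pq (F pq i) := by decide +kernel

end Cfsg.Lib.AltEightSyl.Quat
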