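import Cfsg.Agent.Lib.AltEightSyl.Frame
import Cfsg.Agent.Lib.AltEightSyl.Mat

/-!
# The automorphisms of the subgroup of order sixteen realised by its normaliser

Consequences of the absence of elements of order four for the classes meeting it: the central involution
is conjugate to at most two of 1, 10, 11, and the classes of 2 and 6 are tied to these.
-/

set_option autoImplicit false
set_option linter.style.haveILetI false
set_option linter.unusedSectionVars false
set_option maxRecDepth 100000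

namespace Cfsg.Lib.AltEightSyl

open Cfsg Cfsg.Lib Subgroup

/-- The index of an element of the subgroup of order sixteen. -/
def iA (v : Fin 16) : Fin 64 := Fin.ofNat 64 v.val

theorem iA_facts : (∀ v : Fin 16, inA (iA v) = true) ∧ (∀ v w : Fin 16, iA (v ^^^ w) = aMul (iA v) (iA w)) ∧
    (∀ i : Fin 64, inA i = true → iA (Fin.ofNat 16 i.val) = i) ∧ (∀ v w : Fin 16, iA v = iA w → v = w) ∧
    iA 0 = 0 := by
  decide +kernel

theorem act_facts : (∀ v : Fin 16, aConj 16 (iA v) = iA (app mC v)) ∧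
    (∀ v : Fin 16, aConj 32 (iA v) = iA (app mF v)) ∧ (∀ v : Fin 16, app mId v = v) ∧
    (∀ v : Fin 16, app mC v = v → v = 0 ∨ v = 1 ∨ v = 4 ∨ v = 5) := by
  decide +kernel

theorem xor_ac : (∀ a b c : Fin 16, a ^^^ b ^^^ c = a ^^^ (b ^^^ c)) ∧ (∀ a b : Fin 16, a ^^^ b = b ^^^ a) ∧
    (∀ a : Fin 16, 0 ^^^ a = a ∧ a ^^^ 0 = a ∧ a ^^^ a = 0) ∧
    (∀ (p q : Bool) (c : Fin 16),
      (if (p ^^ q) then c else 0) = (if p then c else 0) ^^^ (if q then c else 0)) ∧
    (∀ (x y : Fin 16) (k : Fin 4), (x ^^^ y).val.testBit k.val = (x.val.testBit k.val ^^ y.val.testBit k.val)) := by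
  decide +kernel

theorem app_xor (m : M4) (x y : Fin 16) : app m (x ^^^ y) = app m x ^^^ app m y := by
  obtain ⟨assoc, comm, -, sel, tb⟩ := xor_ac
  have h0 := tb x y 0
  have h1 := tb x y 1
  have h2 := tb x y 2
  have h3 := tb x y 3
  simp only [Fin.val_zero, Fin.val_one] at h0 h1
  rw [show ((2 : Fin 4) : ℕ) = 2 from rfl] at h2
  rw [show ((3 : Fin 4) : ℕ) = 3 from rfl] at h3
  simp only [app, h0, h1, h2, h3, sel]
  haveI : Std.Associative (α := Fin 16) (· ^^^ ·) := ⟨assoc⟩
  haveI : Std.Commutative (α := Fin 16) (· ^^^ ·) := ⟨comm⟩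
  ac_rfl

theorem app_mmul (a b : M4) (v : Fin 16) : app (mmul a b) v = app a (app b v) := by
  have hz : app a 0 = 0 := by
    have h := app_xor a 0 0
    rw [show (0 : Fin 16) ^^^ 0 = 0 from rfl, (xor_ac.2.2.1 (app a 0)).2.2] at h
    exact h
  have hs : ∀ (p : Bool) (c : Fin 16), app a (if p then c else 0) = (if p then app a c else 0) := fun p c => by
    cases p
    · exact hz
    · rfl
  conv_rhs => arg 2; rw [app]
  rw [app_xor, app_xor, app_xor, hs, hs, hs, hs]
  rfl

theorem app_basis (m : M4) : app m 1 = m.1 ∧ app m 2 = m.2.1 ∧ app m 4 = m.2.2.1 ∧ app m 8 = m.2.2.2 ∧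
    app m 5 = m.1 ^^^ m.2.2.1 ∧ app m 10 = m.2.1 ^^^ m.2.2.2 := by
  have h0 := fun x => (xor_ac.2.2.1 x).1
  have h0' := fun x => (xor_ac.2.2.1 x).2.1
  refine ⟨?_, ?_, ?_, ?_, ?_, ?_⟩ <;> simp [app, Nat.testBit, Nat.shiftRight_eq_div_pow, h0, h0']

universe u

namespace Frame

variable {G : Type u} [Group G] (F : Frame G)

/-- A map realised by the normaliser of the subgroup of order sixteen. -/
def Real (m : M4) : Prop :=
  ∃ n ∈ normalizer (F.aGrp : Set G), ∀ v : Fin 16, n * F.f (iA v) * n⁻¹ = F.f (iA (app m v))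

theorem real_mul {a b : M4} (ha : F.Real a) (hb : F.Real b) : F.Real (mmul a b) := by
  obtain ⟨n, hn, hna⟩ := ha
  obtain ⟨n', hn', hnb⟩ := hb
  refine ⟨n * n', mul_mem hn hn', fun v => ?_⟩
  rw [app_mmul, ← hna, ← hnb]
  group

theorem real_id : F.Real mId := ⟨1, one_mem _, fun v => by rw [act_facts.2.2.1 v]; group⟩

theorem real_of_P [Finite G] {m : M4} (i : Fin 64) (h : ∀ v, aConj i (iA v) = iA (app m v)) : F.Real m :=
  ⟨F.f i, F.P_le_normalizer (F.f_mem i), fun v => by rw [← h v, F.fconj]⟩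

theorem real_ev (gs : List M4) (hgs : ∀ g ∈ gs, F.Real g) (w : List ℕ) : F.Real (ev gs w) := by
  have key : ∀ (w : List ℕ) (x : M4), F.Real x →
      F.Real (w.foldl (fun x j => mmul x (gs.getD j mId)) x) := by
    intro w
    induction w with
    | nil => exact fun x hx => hx
    | cons j w ih =>
      refine fun x hx => ih _ (F.real_mul hx ?_)
      rcases lt_or_ge j gs.length with hj | hj
      · rw [List.getD_eq_getElem _ _ hj]; exact hgs _ (List.getElem_mem hj)
      · rw [List.getD_eq_default _ _ hj]; exact F.real_id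
  exact key w _ F.real_id

variable [Finite G]

theorem real_words {ms : List M4} (hms : ∀ m ∈ ms, F.Real m) (w : List ℕ) :
    F.Real (ev (mC :: mF :: ms) w) := by
  refine F.real_ev _ (fun g hg => ?_) w
  simp only [List.mem_cons] at hg
  rcases hg with rfl | rfl | hg
  · exact F.real_of_P 16 act_facts.1
  · exact F.real_of_P 32 act_facts.2.1
  · exact hms g hg

theorem real_inj {m : M4} (h : F.Real m) {v w : Fin 16} (e : app m v = app m w) : v = w := by
  obtain ⟨n, -, hn⟩ := h
  have h1 : n * F.f (iA v) * n⁻¹ = n * F.f (iA w) * n⁻¹ := by rw [hn, hn, e]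
  exact iA_facts.2.2.2.1 _ _ (F.inj _ _ (mul_left_cancel (mul_right_cancel h1)))

theorem real_nsing {m : M4} (h : F.Real m) : nsing m = true := by
  have hz : app m 0 = 0 := by
    simp [app]
  refine List.all_eq_true.2 fun v _ => ?_
  by_cases hv : v = 0
  · simp [hv]
  · simp only [Bool.or_eq_true, Bool.not_eq_true', beq_eq_false_iff_ne, beq_iff_eq]
    exact Or.inr fun e => hv (F.real_inj h (e.trans hz.symm))

theorem real_not_bad {m : M4} (h : F.Real m) : bad m = false := by
  by_contra hb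
  simp only [Bool.not_eq_false, bad, Bool.and_eq_true, Bool.not_eq_true', beq_eq_false_iff_ne, beq_iff_eq] at hb
  obtain ⟨n, hn, hnv⟩ := h
  have hsq : ∀ v, n ^ 2 * F.f (iA v) * (n ^ 2)⁻¹ = F.f (iA (app (mmul m m) v)) := fun v => by
    rw [app_mmul, ← hnv, ← hnv, pow_two]; group
  have hfour : ∀ v, n ^ 4 * F.f (iA v) * (n ^ 4)⁻¹ = F.f (iA v) := fun v => by
    conv_rhs => rw [← act_facts.2.2.1 v, ← hb.2, app_mmul, ← hsq, ← hsq]
    group
  have h4 : ∀ a ∈ F.aGrp, Commute (n ^ 4) a := by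
    rintro _ ⟨i, hi, rfl⟩
    rw [← iA_facts.2.2.1 i hi]
    exact mul_inv_eq_iff_eq_mul.1 (hfour _)
  have hfix : ∀ v, app (mmul m m) v = v := fun v => by
    refine iA_facts.2.2.2.1 _ _ (F.inj _ _ ?_)
    rw [← hsq, (F.sq_fix hn h4 (F.f_mem_aGrp (iA_facts.1 v))).eq, mul_inv_cancel_right]
  refine hb.1 (Prod.ext (Eq.trans ?_ (hfix 1)) (Prod.ext (Eq.trans ?_ (hfix 2))
    (Prod.ext (Eq.trans ?_ (hfix 4)) (Eq.trans ?_ (hfix 8)))))
  exacts [(app_basis _).1.symm, (app_basis _).2.1.symm, (app_basis _).2.2.1.symm, (app_basis _).2.2.2.1.symm]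

theorem badIn_false {ms : List M4} (hms : ∀ m ∈ ms, F.Real m) (ws : List (List ℕ)) : badIn ms ws = false := by
  rw [badIn, List.any_eq_false]
  intro w _
  simp [F.real_not_bad (F.real_words hms w)]

theorem exists_real {n : G} (hn : n ∈ normalizer (F.aGrp : Set G)) :
    ∃ m, F.Real m ∧ ∀ v : Fin 16, n * F.f (iA v) * n⁻¹ = F.f (iA (app m v)) := by
  have him : ∀ v : Fin 16, ∃ w : Fin 16, n * F.f (iA v) * n⁻¹ = F.f (iA w) := fun v => by
    obtain ⟨j, hj, e⟩ := F.exists_normalizer_idx hn (iA_facts.1 v)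
    exact ⟨Fin.ofNat 16 j.val, by rw [iA_facts.2.2.1 j hj, e]⟩
  obtain ⟨w, hw⟩ := Classical.axiom_of_choice him
  refine ⟨(w 1, w 2, w 4, w 8), ?_⟩
  have hadd : ∀ x y, w (x ^^^ y) = w x ^^^ w y := fun x y => by
    refine iA_facts.2.2.2.1 _ _ (F.inj _ _ ?_)
    rw [← hw, iA_facts.2.1, iA_facts.2.1, F.fmul, F.fmul, ← hw, ← hw]
    group
  have h0 : w 0 = 0 := by
    have h := hadd 0 0
    rwa [show (0 : Fin 16) ^^^ 0 = 0 from rfl, (xor_ac.2.2.1 (w 0)).2.2] at h
  have hs : ∀ (p : Bool) (c : Fin 16), w (if p then c else 0) = (if p then w c else 0) := fun p c => by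
    cases p
    · exact h0
    · rfl
  have key : ∀ v, w v = app (w 1, w 2, w 4, w 8) v := fun v => by
    conv_lhs => rw [← act_facts.2.2.1 v, app, hadd, hadd, hadd, hs, hs, hs, hs]
    rfl
  exact ⟨⟨n, hn, fun v => by rw [hw, key]⟩, fun v => by rw [hw, key]⟩

theorem real_of_cj {v w : Fin 16} (h : F.Cj (iA v) (iA w)) : ∃ m, F.Real m ∧ app m v = w := by
  obtain ⟨n, hn, e⟩ := F.fusion_one (iA_facts.1 v) (iA_facts.1 w) h
  obtain ⟨m, hm, hmv⟩ := F.exists_real hn
  exact ⟨m, hm, iA_facts.2.2.2.1 _ _ (F.inj _ _ ((hmv v).symm.trans e))⟩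

theorem cj_of_real {m : M4} (h : F.Real m) {v w : Fin 16} (e : app m v = w) : F.Cj (iA v) (iA w) := by
  obtain ⟨n, -, hn⟩ := h
  exact isConj_iff.2 ⟨n, by rw [hn, e]⟩

theorem mem_list {t : Fin 16} {L : List M4} (hc : complete t L = true) (h : F.Cj 5 (iA t)) :
    ∃ m ∈ L, F.Real m := by
  obtain ⟨m, hm, e⟩ := F.real_of_cj (v := 5) (w := t) h
  exact ⟨m, mem_of_complete hc (F.real_nsing hm) (F.badIn_false (by simpa using hm) _) e, hm⟩

/-- The central involution is not conjugate to all of 1, 10, 11. -/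
theorem not_all_three (ha : F.Cj 5 1) (he : F.Cj 5 10) (hE : F.Cj 5 11) : False := by
  obtain ⟨m, hm, hmr⟩ := F.mem_list za_complete (show F.Cj 5 (iA 1) from ha)
  obtain ⟨k, hk, hkr⟩ := F.mem_list ze_complete (show F.Cj 5 (iA 10) from he)
  obtain ⟨l, hl, hlr⟩ := F.mem_list zE_complete (show F.Cj 5 (iA 11) from hE)
  have h := List.all_eq_true.1 (List.all_eq_true.1 (List.all_eq_true.1 triple_cert m hm) k hk) l hl
  rw [F.badIn_false (ms := [m, k, l]) (by simp [hmr, hkr, hlr])] at h
  exact absurd h (by decide)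

theorem cj_e {v : Fin 16} (h : v = 10 ∨ v = 15) : F.Cj (iA v) 10 := by
  rcases h with rfl | rfl
  · exact IsConj.refl _
  · exact F.cj_same (by decide +kernel) (by decide +kernel)

theorem cj_E {v : Fin 16} (h : v = 11 ∨ v = 14) : F.Cj (iA v) 11 := by
  rcases h with rfl | rfl
  · exact IsConj.refl _
  · exact F.cj_same (by decide +kernel) (by decide +kernel)

/-- With the central involution conjugate to 1, the classes of 10 and 11 contain 2 and 6. -/
theorem bd_of_za (ha : F.Cj 5 1) : (F.Cj 2 10 ∧ F.Cj 6 11) ∨ (F.Cj 6 10 ∧ F.Cj 2 11) := by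
  obtain ⟨m, hm, hmr⟩ := F.mem_list za_complete (show F.Cj 5 (iA 1) from ha)
  have h := List.all_eq_true.1 za_cert m hm
  simp only [Bool.or_eq_true, Bool.and_eq_true, List.any_eq_true, List.contains_eq_mem,
    decide_eq_true_eq, List.mem_cons, List.not_mem_nil, or_false] at h
  rcases h with ⟨⟨w, -, h1⟩, w', -, h2⟩ | ⟨⟨w, -, h1⟩, w', -, h2⟩
  · exact Or.inl ⟨IsConj.trans (F.cj_of_real (F.real_words (ms := [m]) (by simp [hmr]) w) (v := 2) rfl) (F.cj_e h1),
      IsConj.trans (F.cj_of_real (F.real_words (ms := [m]) (by simp [hmr]) w') (v := 6) rfl) (F.cj_E h2)⟩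
  · exact Or.inr ⟨IsConj.trans (F.cj_of_real (F.real_words (ms := [m]) (by simp [hmr]) w) (v := 6) rfl) (F.cj_e h1),
      IsConj.trans (F.cj_of_real (F.real_words (ms := [m]) (by simp [hmr]) w') (v := 2) rfl) (F.cj_E h2)⟩

/-- With the central involution conjugate to 1 and neither to 10 nor to 11, these are not conjugate. -/
theorem not_eE (ha : F.Cj 5 1) (he : ¬ F.Cj 5 10) (hE : ¬ F.Cj 5 11) : ¬ F.Cj 10 11 := by
  intro h
  obtain ⟨m, hm, e10⟩ := F.real_of_cj (v := 10) (w := 11) (show F.Cj (iA 10) (iA 11) from h)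
  have hz : ∀ v : Fin 16, v = 1 ∨ v = 4 ∨ v = 5 → app m v = 1 ∨ app m v = 4 ∨ app m v = 5 := by
    intro v hv
    have hzv : F.Cj 5 (iA v) := by
      rcases hv with rfl | rfl | rfl
      · exact ha
      · exact IsConj.trans ha (F.cj_same (by decide +kernel) (by decide +kernel))
      · exact IsConj.refl _
    have hzw : F.Cj 5 (iA (app m v)) := IsConj.trans hzv (F.cj_of_real hm rfl)
    have hne : app m v ≠ 0 := fun e => by
      have := F.real_inj hm (v := v) (w := 0) (e.trans (by simp [app]))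
      rcases hv with rfl | rfl | rfl <;> exact absurd this (by decide)
    have hcls : ∀ x : Fin 16, x ≠ 0 → x = 1 ∨ x = 4 ∨ x = 5 ∨ (aCl (iA x) = 10 ∨ aCl (iA x) = 11) ∨
        aCl (iA x) = 2 ∨ aCl (iA x) = 6 := by decide +kernel
    rcases hcls _ hne with e | e | e | he' | e | e
    · exact Or.inl e
    · exact Or.inr (Or.inl e)
    · exact Or.inr (Or.inr e)
    · rcases he' with e | e
      · exact absurd (IsConj.trans hzw (F.cj_same (j := 10) (by rw [e]; decide) (e.trans (by decide +kernel)))) he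
      · exact absurd (IsConj.trans hzw (F.cj_same (j := 11) (by rw [e]; decide) (e.trans (by decide +kernel)))) hE
    · have h2 : F.Cj 5 2 := IsConj.trans hzw (F.cj_same (j := 2) (by rw [e]; decide) (e.trans (by decide +kernel)))
      rcases F.bd_of_za ha with ⟨h', -⟩ | ⟨-, h'⟩
      · exact absurd (IsConj.trans h2 h') he
      · exact absurd (IsConj.trans h2 h') hE
    · have h6 : F.Cj 5 6 := IsConj.trans hzw (F.cj_same (j := 6) (by rw [e]; decide) (e.trans (by decide +kernel)))
      rcases F.bd_of_za ha with ⟨-, h'⟩ | ⟨h', -⟩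
      · exact absurd (IsConj.trans h6 h') hE
      · exact absurd (IsConj.trans h6 h') he
  obtain ⟨a, b, c, d⟩ := m
  obtain ⟨e1, -, e4, -, e5, e10'⟩ := app_basis (a, b, c, d)
  have ha' : a ∈ ([1, 4, 5] : List (Fin 16)) := by have := hz 1 (Or.inl rfl); rw [e1] at this; simpa using this
  have hc' : c ∈ ([1, 4, 5] : List (Fin 16)) := by have := hz 4 (Or.inr (Or.inl rfl)); rw [e4] at this; simpa using this
  have h5' : ([1, 4, 5] : List (Fin 16)).contains (a ^^^ c) = true := by
    have := hz 5 (Or.inr (Or.inr rfl)); rw [e5] at this; simpa using this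
  have hd : d = b ^^^ 11 := xor_eq b d 11 (e10'.symm.trans e10)
  subst hd
  have := List.all_eq_true.1 (List.all_eq_true.1 (List.all_eq_true.1 (List.all_eq_true.1 four_cert a ha') c hc') b
    (List.mem_finRange b)) 11 (by simp)
  simp only [F.real_nsing hm, h5', F.badIn_false (ms := [(a, b, c, b ^^^ 11)]) (by simpa using hm),
    Bool.not_true, Bool.or_false] at this
  exact absurd this (by decide)

/-- With the central involution conjugate to 2 and to none of 1, 10, 11: some element fixes it and moves 1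
into the class of 10 and 10 into that of 11, and 6 is conjugate to 1, not to the central involution. -/
theorem zb_facts (hb : F.Cj 5 2) (ha : ¬ F.Cj 5 1) (he : ¬ F.Cj 5 10) (hE : ¬ F.Cj 5 11) :
    (∃ m, F.Real m ∧ app m 5 = 5 ∧ (app m 1 = 10 ∨ app m 1 = 15) ∧ (app m 10 = 11 ∨ app m 10 = 14)) ∧
      F.Cj 6 1 ∧ ¬ F.Cj 5 6 := by
  obtain ⟨m, hm, hmr⟩ := F.mem_list zb_complete (show F.Cj 5 (iA 2) from hb)
  have hout : ∀ w, ([1, 4, 10, 15, 11, 14] : List (Fin 16)).contains (app (ev [mC, mF, m] w) 5) = false := by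
    intro w
    by_contra hc
    simp only [Bool.not_eq_false, List.contains_eq_mem, decide_eq_true_eq, List.mem_cons, List.not_mem_nil,
      or_false] at hc
    have h := F.cj_of_real (F.real_words (ms := [m]) (by simp [hmr]) w) (v := 5) rfl
    rcases hc with e | e | e | e | e | e <;> rw [e] at h
    · exact ha h
    · exact ha (IsConj.trans h (F.cj_same (by decide +kernel) (by decide +kernel)))
    · exact he h
    · exact he (IsConj.trans h (F.cj_e (Or.inr rfl)))
    · exact hE h
    · exact hE (IsConj.trans h (F.cj_E (Or.inr rfl)))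
  have h := List.all_eq_true.1 zb_cert m hm
  simp only [Bool.or_eq_true, List.any_eq_true, hout, Bool.false_eq_true, and_false, exists_false, false_or,
    Bool.and_eq_true, beq_iff_eq, List.contains_eq_mem, decide_eq_true_eq, List.mem_cons, List.not_mem_nil,
    or_false] at h
  obtain ⟨⟨w, -, ⟨h5, h1⟩, h10⟩, w', -, h6⟩ := h
  have hw' := F.cj_of_real (F.real_words (ms := [m]) (by simp [hmr]) w') (v := 6) rfl
  refine ⟨⟨_, F.real_words (ms := [m]) (by simp [hmr]) w, h5, h1, h10⟩, ?_, fun h6' => ?_⟩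
  · rcases h6 with e | e <;> rw [e] at hw'
    · exact hw'
    · exact IsConj.trans hw' (F.cj_same (by decide +kernel) (by decide +kernel))
  · obtain ⟨k, hk, hkr⟩ := F.mem_list zd_complete (show F.Cj 5 (iA 6) from h6')
    have h' := List.all_eq_true.1 zbd_cert m hm
    simp only [Bool.or_eq_true, List.any_eq_true, hout, Bool.false_eq_true, and_false, exists_false,
      false_or] at h'
    have h'' := List.all_eq_true.1 h' k hk
    rw [F.badIn_false (ms := [m, k]) (by simp [hmr, hkr])] at h''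
    exact absurd h'' (by decide)

end Frame

end Cfsg.Lib.AltEightSyl
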