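import Cfsg.Agent.Lib.Syl34.Th
import Cfsg.Agent.Lib.Sig.SSFT.Apply
import Cfsg.Agent.Lib.PNil.Balance

/-!
The subgroup generated by the signalizers `O(C(a))` of an elementary subgroup of order eight with solvable
centralisers.
-/

set_option autoImplicit false
set_option linter.style.haveILetI false

namespace Cfsg.Lib.AltEightSyl

open Subgroup Cfsg Cfsg.Lib

universe u

variable {G : Type u} [Group G]

/-- The subgroup generated by the signalizers. -/
def sigGen (E : Subgroup G) : Subgroup G := ⨆ a : {a : G // a ∈ E ∧ a ≠ 1}, Syl34.th (a : G)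

variable [Finite G]

/-- Balance into a solvable centraliser. -/
theorem th_inf_le {a b : G} (ha : orderOf a = 2) (hab : Commute a b)
    (hsol : Group.IsSolvable (centralizer ({b} : Set G))) :
    Syl34.th a ⊓ centralizer ({b} : Set G) ≤ Syl34.th b := by
  haveI := hsol
  intro x hx
  obtain ⟨h1, h2⟩ := Subgroup.mem_inf.1 hx
  exact ⟨⟨x, h2⟩, PNil.core_centralizer_le
    (a := (⟨a, mem_centralizer_singleton_iff.2 hab.eq⟩ : centralizer ({b} : Set G)))
    (by rw [Subgroup.orderOf_mk]; exact ha)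
    (Sig.LocalBalance.mem_core_of_injective (centralizer ({b} : Set G)).subtype_injective h1), rfl⟩

variable {E : Subgroup G} (hE : Nat.card E = 8) (hsq : ∀ a ∈ E, a * a = 1)
  (hsol : ∀ a ∈ E, a ≠ 1 → Group.IsSolvable (centralizer ({a} : Set G)))

omit [Finite G] in
include hsq in
theorem commute {a b : G} (ha : a ∈ E) (hb : b ∈ E) : Commute a b := by
  have h := hsq _ (mul_mem ha hb)
  calc a * b = a * (a * b * (a * b)) * b := by rw [h, mul_one]
    _ = a * a * (b * a) * (b * b) := by group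
    _ = b * a := by rw [hsq a ha, hsq b hb, one_mul, mul_one]

include hE hsq hsol

theorem setup : haveI : Fact (Nat.Prime 2) := ⟨Nat.prime_two⟩
    Sig.SSFT.Setup 2 E (fun a => Syl34.th a) := by
  haveI : Fact (Nat.Prime 2) := ⟨Nat.prime_two⟩
  have hAn : ∀ a ∈ E, E ≤ normalizer (Syl34.th a : Set G) := fun a ha x hx =>
    Syl34.cent_le_norm_th a (mem_centralizer_singleton_iff.2 (commute hsq hx ha).eq)
  refine ⟨⟨⟨⟨fun a b => Subtype.ext (commute hsq a.2 b.2)⟩⟩, fun a ha => by rw [sq]; exact hsq a ha⟩,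
    by rw [hE]; norm_num, ⟨fun a _ _ => Syl34.th_le a, fun a _ _ => ?_,
      fun a ha _ b hbA x hx => (mem_normalizer_iff.1 (hAn a ha hbA) x).1 hx,
      fun a ha ha1 b hbA hb1 => ?_⟩, fun a _ _ => Syl34.solvable_th a⟩
  · rw [← even_iff_two_dvd, Nat.not_even_iff_odd]; exact Syl34.odd_th a
  · exact th_inf_le (orderOf_eq_prime (by rw [sq]; exact hsq a ha) ha1) (commute hsq ha hbA)
      (hsol b hbA hb1)

theorem odd_sigGen : Odd (Nat.card (sigGen E)) := by
  haveI : Fact (Nat.Prime 2) := ⟨Nat.prime_two⟩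
  rw [← Nat.not_even_iff_odd, even_iff_two_dvd]
  exact (setup hE hsq hsol).closure_mem.2.1

theorem sigGen_inf_centralizer {a : G} (ha : a ∈ E) (h1 : a ≠ 1) :
    sigGen E ⊓ centralizer ({a} : Set G) = Syl34.th a := by
  haveI : Fact (Nat.Prime 2) := ⟨Nat.prime_two⟩
  exact (setup hE hsq hsol).closure_inf_centralizer ha h1

omit hE in
theorem th_le_sigGen {Z : Subgroup G} (hZ : Z ≤ E) (hZ4 : Nat.card Z = 4) {u : G} (hu : orderOf u = 2)
    (hc : ∀ a ∈ Z, Commute u a) : Syl34.th u ≤ sigGen E := by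
  haveI : Fact (Nat.Prime 2) := ⟨Nat.prime_two⟩
  haveI : IsMulCommutative Z := ⟨⟨fun a b => Subtype.ext (commute hsq (hZ a.2) (hZ b.2))⟩⟩
  refine (Coprime.le_iSup_centralizer_cocyclic (A := Z) (Syl34.th u)
    (fun a ha => Syl34.cent_le_norm_th u (mem_centralizer_singleton_iff.2 (hc a ha).symm.eq))
    (by rw [hZ4]; exact (Nat.coprime_two_left.2 (Syl34.odd_th u)).pow_left 2)).trans (iSup₂_le fun B hB => ?_)
  obtain ⟨b, hb, hb1⟩ := B.bot_or_exists_ne_one.resolve_left
    (Sig.SSFT.cocyclic_ne_bot (p := 2) (fun a ha => by rw [sq]; exact hsq a (hZ ha)) (by rw [hZ4]; norm_num) hB)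
  refine le_trans ?_ ((th_inf_le hu (hc b (hB.1 hb)) (hsol b (hZ (hB.1 hb)) hb1)).trans
    (le_iSup_of_le ⟨b, hZ (hB.1 hb), hb1⟩ le_rfl))
  exact inf_le_inf_left _ fun y hy =>
    mem_centralizer_singleton_iff.2 ((mem_centralizer_iff.1 hy) b hb).symm

theorem mem_normalizer_sigGen {Z : Subgroup G} (hZ : Z ≤ E) (hZ4 : Nat.card Z = 4) {g : G}
    (hg : ∀ a ∈ Z, a ≠ 1 → ∀ b ∈ Z, Commute (g * a * g⁻¹) b) : g ∈ normalizer (sigGen E : Set G) := by
  haveI : Fact (Nat.Prime 2) := ⟨Nat.prime_two⟩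
  refine mem_normalizer_fintype fun x hx => ?_
  have hle : (sigGen E).map (MulAut.conj g).toMonoidHom ≤ sigGen E := by
    conv_lhs => rw [sigGen, ← (setup hE hsq hsol).closure_eq hZ (by rw [hZ4]; norm_num)]
    rw [Subgroup.map_iSup]
    refine iSup_le fun a => ?_
    rintro _ ⟨c, hc, rfl⟩
    exact th_le_sigGen hsq hsol hZ hZ4 (by
      rw [Invol.orderOf_conj_eq]
      exact orderOf_eq_prime (by rw [sq]; exact hsq _ (hZ a.2.1)) a.2.2) (hg a a.2.1 a.2.2)
      (Syl34.th_conj g a hc)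
  exact hle ⟨x, hx, rfl⟩

end Cfsg.Lib.AltEightSyl
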