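import Cfsg.Agent.Lib.AltEightSyl.Cases
import Cfsg.Agent.Lib.AltEightSyl.SigGen
import Cfsg.Agent.Lib.EightThree.Core
import Cfsg.Agent.Lib.Syl34.Functor

/-!
# The subgroup generated by the signalizers and its normaliser

For the elementary group of order eight `E = {z, 1, 16}` let `W` be generated by the signalizers of its
involutions, and `M` be its normaliser. If `M` contains the centraliser of each involution then `W = 1`.
-/

set_option autoImplicit false
set_option linter.style.haveILetI false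
set_option linter.unusedSectionVars false
set_option maxRecDepth 100000

namespace Cfsg.Lib.AltEightSyl

open Cfsg Cfsg.Lib Subgroup Syl34

universe u

/-- The subgroup of order four of the central involution and the class of 1. -/
def inZ1 (i : Fin 64) : Bool := [0, 1, 4, 5].contains i

theorem z1_facts : inZ1 0 = true ∧ (∀ i j, inZ1 i = true → inZ1 j = true → inZ1 (aMul i j) = true) ∧
    (∀ i, inZ1 i = true → inZ1 (aInv i) = true) ∧ ((List.finRange 64).filter inZ1).length = 4 ∧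
    (∀ i, inZ1 i = true → inEc i = true ∧ inA i = true ∧ (i = 0 ∨ i = 5 ∨ aCl i = 1)) := by
  refine ⟨?_, ?_, ?_, ?_, ?_⟩ <;> decide +kernel

theorem solvable_cent_conj {G : Type u} [Group G] {g x y : G} (h : g * x * g⁻¹ = y)
    (hs : Group.IsSolvable (centralizer ({x} : Set G))) : Group.IsSolvable (centralizer ({y} : Set G)) := by
  haveI := hs
  have hmem : ∀ w : centralizer ({y} : Set G), g⁻¹ * (w : G) * g ∈ centralizer ({x} : Set G) := fun w => by
    have hw : Commute (w : G) y := mem_centralizer_singleton_iff.1 w.2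
    have h2 := hw.map (MulAut.conj g⁻¹).toMonoidHom
    rw [show (MulAut.conj g⁻¹).toMonoidHom y = x by rw [← h]; simp [mul_assoc]] at h2
    refine mem_centralizer_singleton_iff.2 ?_
    simpa using h2.eq
  refine Group.isSolvable_of_isSolvable_injective
    (f := ({ toFun := fun w => (⟨g⁻¹ * (w : G) * g, hmem w⟩ : centralizer ({x} : Set G))
             map_one' := Subtype.ext (by simp)
             map_mul' := fun a b => Subtype.ext (by simp [mul_assoc]) } :
      centralizer ({y} : Set G) →* centralizer ({x} : Set G))) fun a b e => Subtype.ext ?_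
  have := congrArg Subtype.val e
  exact mul_left_cancel (mul_right_cancel this)

/-- A subgroup containing a Sylow subgroup of `Y`, and all its elements of odd order, contains `Y`. -/
theorem le_of_odd_mem {G : Type u} [Group G] [Finite G] {Y A D H : Subgroup G} (hAY : A ≤ Y) (hDY : D ≤ Y)
    (hA : IsPGroup 2 A) (hmax : ∀ R : Subgroup G, R ≤ Y → IsPGroup 2 R → A ≤ R → R ≤ A)
    (hnorm : Y ≤ normalizer (D : Set G)) (hodd : ∀ g ∈ Y, Odd (orderOf g) → g ∈ D)
    (hAH : A ≤ H) (hDH : D ≤ H) : Y ≤ H := by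
  haveI : Fact (Nat.Prime 2) := ⟨Nat.prime_two⟩
  haveI hn : (D.subgroupOf Y).Normal := (normal_subgroupOf_iff_le_normalizer hDY).2 hnorm
  have h2 : ∃ n, D.relIndex Y = 2 ^ n := by
    have hq : IsPGroup 2 (Y ⧸ D.subgroupOf Y) := by
      intro q
      obtain ⟨⟨g, hg⟩, rfl⟩ := QuotientGroup.mk_surjective q
      obtain ⟨k, r, hr, e⟩ := Nat.exists_eq_pow_mul_and_not_dvd (orderOf_pos g).ne' 2 (by norm_num)
      refine ⟨k, ?_⟩
      rw [← QuotientGroup.mk_pow]
      refine (QuotientGroup.eq_one_iff _).2 (hodd _ (pow_mem hg _) ?_)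
      refine (Nat.not_even_iff_odd.1 (fun h => hr (even_iff_two_dvd.1 h))).of_dvd_nat
        (orderOf_dvd_of_pow_eq_one ?_)
      show (g ^ 2 ^ k) ^ r = 1
      rw [← pow_mul, ← e, pow_orderOf_eq_one]
    obtain ⟨n, hn⟩ := IsPGroup.iff_card.1 hq
    exact ⟨n, hn⟩
  obtain ⟨n, hn2⟩ := h2
  obtain ⟨S, hS⟩ := EightThree.exists_sylow_subgroupOf hAY hA hmax
  have hodd' : ¬ 2 ∣ A.relIndex Y := by
    show ¬ 2 ∣ (A.subgroupOf Y).index
    rw [← hS]; exact S.not_dvd_index
  refine relIndex_eq_one.1 ?_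
  have hd1 : H.relIndex Y ∣ 2 ^ n := hn2 ▸ relIndex_dvd_of_le_left Y hDH
  have hd2 : H.relIndex Y ∣ A.relIndex Y := relIndex_dvd_of_le_left Y hAH
  obtain ⟨m, -, hm⟩ := (Nat.dvd_prime_pow Nat.prime_two).1 hd1
  rcases Nat.eq_zero_or_pos m with rfl | hm0
  · simpa using hm
  · exact absurd (dvd_trans (hm ▸ dvd_pow_self 2 hm0.ne') hd2) hodd'

namespace Frame

variable {G : Type u} [Group G] (F : Frame G)

/-- The elementary subgroup of order eight. -/
def eGrp : Subgroup G := F.sub inEc ec_facts.1 ec_facts.2.1 ec_facts.2.2.1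

/-- Its subgroup of order four in the subgroup of order sixteen. -/
def z1Grp : Subgroup G := F.sub inZ1 z1_facts.1 z1_facts.2.1 z1_facts.2.2.1

theorem z1_le_eGrp : F.z1Grp ≤ F.eGrp := by
  rintro _ ⟨i, hi, rfl⟩
  exact ⟨i, (z1_facts.2.2.2.2 i hi).1, rfl⟩

theorem z1_le_aGrp : F.z1Grp ≤ F.aGrp := by
  rintro _ ⟨i, hi, rfl⟩
  exact F.f_mem_aGrp (z1_facts.2.2.2.2 i hi).2.1

theorem eGrp_sq : ∀ a ∈ F.eGrp, a * a = 1 := by
  rintro _ ⟨i, hi, rfl⟩
  exact (F.sq_iff i).2 (ec_facts.2.2.2.2 i hi).1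

theorem card_eGrp : Nat.card F.eGrp = 8 :=
  (F.card_of_pred inEc F.eGrp fun _ => Iff.rfl).trans ec_facts.2.2.2.1

theorem card_z1Grp : Nat.card F.z1Grp = 4 :=
  (F.card_of_pred inZ1 F.z1Grp fun _ => Iff.rfl).trans z1_facts.2.2.2.1

theorem z_mem_eGrp : F.z ∈ F.eGrp := ⟨5, by decide +kernel, rfl⟩

/-- The normaliser of the subgroup generated by the signalizers. -/
def big : Subgroup G := normalizer (sigGen F.eGrp : Set G)

/-- Frames agreeing on the indices of the elementary subgroup define the same subgroup. -/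
theorem big_congr {F' : Frame G} (h : ∀ i, inEc i = true → F'.f i = F.f i) : F'.big = F.big := by
  have he : F'.eGrp = F.eGrp := by
    ext g
    exact ⟨fun ⟨i, hi, e⟩ => ⟨i, hi, (h i hi).symm.trans e⟩, fun ⟨i, hi, e⟩ => ⟨i, hi, (h i hi).trans e⟩⟩
  rw [big, big, he]

variable [Finite G]

/-- The hypotheses on the frame for the signalizers. -/
structure Base : Prop where
  hG : Good F
  hs1 : Group.IsSolvable (centralizer ({F.f 1} : Set G))

namespace Base

variable {F}

theorem solvable_eGrp (hB : F.Base) : ∀ a ∈ F.eGrp, a ≠ 1 → Group.IsSolvable (centralizer ({a} : Set G)) := by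
  rintro _ ⟨i, hi, rfl⟩ h1
  rcases (ec_facts.2.2.2.2 i hi).2.2 with rfl | rfl | h | h
  · exact absurd F.fone h1
  · exact hB.hG.hsol
  all_goals
    have hc : F.Cj 1 i := by
      have h' := F.cj_cl (i := i) (by rw [h]; decide)
      rw [h] at h'
      first
        | exact h'
        | exact IsConj.trans (F.cj_anti hB.hG).1 h'
    obtain ⟨g, hg⟩ := isConj_iff.1 hc
    exact solvable_cent_conj hg hB.hs1

theorem odd_w (hB : F.Base) : Odd (Nat.card (sigGen F.eGrp)) :=
  odd_sigGen F.card_eGrp F.eGrp_sq hB.solvable_eGrp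

theorem th_le_w (hB : F.Base) {u : G} (hu : orderOf u = 2) (hc : ∀ a ∈ F.z1Grp, Commute u a) :
    th u ≤ sigGen F.eGrp :=
  th_le_sigGen F.eGrp_sq hB.solvable_eGrp F.z1_le_eGrp F.card_z1Grp hu hc

theorem th_le_w' (hB : F.Base) {v : Fin 64} (hv : inA v = true) (h0 : v ≠ 0) :
    th (F.f v) ≤ sigGen F.eGrp :=
  hB.th_le_w ((F.order_two_iff v).2 ((aCl_facts v).1.1 ⟨(sub_facts.1.2.2.1 v hv).2, h0⟩))
    fun _ ha => F.aGrp_comm (F.f_mem_aGrp hv) (F.z1_le_aGrp ha)

theorem th_z_le (_hB : F.Base) : th F.z ≤ sigGen F.eGrp :=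
  le_iSup_of_le (⟨F.z, F.z_mem_eGrp, Invol.ne_one F.orderOf_z⟩ : {a : G // a ∈ F.eGrp ∧ a ≠ 1}) le_rfl

theorem w_le_big (_hB : F.Base) : sigGen F.eGrp ≤ F.big := le_normalizer

theorem th_z_le_big (hB : F.Base) : th F.z ≤ F.big := hB.th_z_le.trans hB.w_le_big

theorem normA_le (hB : F.Base) : normalizer (F.aGrp : Set G) ≤ F.big := fun g hg =>
  mem_normalizer_sigGen F.card_eGrp F.eGrp_sq hB.solvable_eGrp F.z1_le_eGrp F.card_z1Grp
    fun a ha _ b hb => F.aGrp_comm (EightThree.conj_mem_of_mem_normalizer hg (F.z1_le_aGrp ha)) (F.z1_le_aGrp hb)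

theorem P_le (hB : F.Base) : (F.P : Subgroup G) ≤ F.big := F.P_le_normalizer.trans hB.normA_le

theorem f_mem_big (hB : F.Base) (i : Fin 64) : F.f i ∈ F.big := hB.P_le (F.f_mem i)

/-- A rotation in opposite senses normalises the elementary subgroup. -/
theorem mem_of_anti (hB : F.Base) {n : F.nq} {k : Fin 3 × Fin 3} (hn : F.perm n = rot k)
    (hk : k.1 + k.2 = 0) : (n : G) ∈ F.big := by
  refine mem_normalizer_sigGen F.card_eGrp F.eGrp_sq hB.solvable_eGrp F.z1_le_eGrp F.card_z1Grp ?_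
  rintro _ ⟨i, hi, rfl⟩ - b hb
  obtain ⟨l, hl, e⟩ := F.rot_ec hn hk (z1_facts.2.2.2.2 i hi).1
  rw [e]
  exact commute F.eGrp_sq ⟨l, hl, rfl⟩ (F.z1_le_eGrp hb)

/-- The centraliser of the central involution lies in `M` if all the realised rotations do. -/
theorem x_le (hB : F.Base) (hX : ∀ (n : F.nq) (k : Fin 3 × Fin 3), F.perm n = rot k → (n : G) ∈ F.big) :
    centralizer ({F.z} : Set G) ≤ F.big := by
  intro g hg
  obtain ⟨o, ho, n, hn, rfl⟩ := F.exists_acts hB.hG (mem_centralizer_singleton_iff.1 hg)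
  refine mul_mem (hB.th_z_le_big ho) ?_
  rcases F.perm_cases ⟨n, F.mem_nq.2 hn⟩ with ⟨k, hk⟩ | ⟨k, hk⟩
  · exact hX _ k hk
  · have h := hX (⟨F.f 2, F.nq_f 2⟩ * ⟨n, F.mem_nq.2 hn⟩) k
      (by rw [map_mul, F.perm_f, if_neg (by decide +kernel), hk])
    have h' := mul_mem (inv_mem (hB.f_mem_big 2)) h
    rwa [coe_mul, inv_mul_cancel_left] at h'

theorem conj_le (_hB : F.Base) {g x y : G} (hg : g ∈ F.big) (h : g * x * g⁻¹ = y)
    (hx : centralizer ({x} : Set G) ≤ F.big) : centralizer ({y} : Set G) ≤ F.big := by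
  intro w hw
  have hwy : Commute w y := mem_centralizer_singleton_iff.1 hw
  have h2 := hwy.map (MulAut.conj g⁻¹).toMonoidHom
  rw [show (MulAut.conj g⁻¹).toMonoidHom y = x by rw [← h]; simp [mul_assoc]] at h2
  have h3 : g⁻¹ * w * g ∈ F.big := hx (mem_centralizer_singleton_iff.2 (by simpa using h2.eq))
  have := mul_mem (mul_mem hg h3) (inv_mem hg)
  rwa [show g * (g⁻¹ * w * g) * g⁻¹ = w by group] at this

theorem cent_cls (hB : F.Base) {i r : Fin 64} (hi : aCl i = r) (hr : r ≠ 0)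
    (h : centralizer ({F.f r} : Set G) ≤ F.big) : centralizer ({F.f i} : Set G) ≤ F.big := by
  obtain ⟨c, -, hc⟩ := List.any_eq_true.1 (aCl_wit i (hi ▸ hr))
  rw [hi, beq_iff_eq] at hc
  exact hB.conj_le (hB.f_mem_big c) (by rw [← F.fconj, hc]) h

theorem cent_A (hB : F.Base) {i j : Fin 64} (hi : inA i = true) (hj : inA j = true) (hc : F.Cj i j)
    (h : centralizer ({F.f i} : Set G) ≤ F.big) : centralizer ({F.f j} : Set G) ≤ F.big := by
  obtain ⟨n, hn, e⟩ := F.fusion_one hi hj hc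
  exact hB.conj_le (hB.normA_le hn) e h

/-- If `M` contains the centralisers of 1, 2, 6, 10, 11 and of the central involution, the signalizer of
the central involution is trivial. -/
theorem th_eq_bot (hB : F.Base) (hX : centralizer ({F.z} : Set G) ≤ F.big)
    (h : ∀ r : Fin 64, r = 1 ∨ r = 2 ∨ r = 6 ∨ r = 10 ∨ r = 11 → centralizer ({F.f r} : Set G) ≤ F.big)
    {v : Fin 64} (hv : aCl v ≠ 0) (hnv : ¬ F.Cj 5 v) : th F.z = ⊥ := by
  haveI : Fact (Nat.Prime 2) := ⟨Nat.prime_two⟩
  obtain ⟨n, hn, hnc⟩ := F.exists_anti hB.hG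
  have hnM : n ∈ F.big := hX (mem_centralizer_singleton_iff.2 hn.1.eq)
  have hout : ∀ r t : Fin 64, r = 1 ∨ r = 10 ∨ r = 11 → rotCls (1, 2) r = t → t ≠ 0 →
      centralizer ({F.f t} : Set G) ≤ F.big := by
    intro r t hr ht ht0
    obtain ⟨l, e, hl⟩ := hnc r hr
    rw [ht] at hl
    have hl' := hB.conj_le hnM e (h r (by tauto))
    obtain ⟨c, -, hc⟩ := List.any_eq_true.1 (aCl_wit l (hl ▸ ht0))
    rw [hl, beq_iff_eq] at hc
    exact hB.conj_le (inv_mem (hB.f_mem_big c)) (by rw [← hc, F.fconj]; group) hl'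
  have hall : ∀ i : Fin 64, aCl i ≠ 0 → centralizer ({F.f i} : Set G) ≤ F.big := by
    intro i hi
    rcases ((aCl_facts i).2 hi).1 with e | e | e | e | e | e | e | e | e
    · rw [(aCl_list i).1.1 e]; exact hX
    · exact hB.cent_cls e (by decide) (h 1 (Or.inl rfl))
    · exact hB.cent_cls e (by decide) (h 2 (Or.inr (Or.inl rfl)))
    · exact hB.cent_cls e (by decide) (h 6 (Or.inr (Or.inr (Or.inl rfl))))
    · exact hB.cent_cls e (by decide) (h 10 (Or.inr (Or.inr (Or.inr (Or.inl rfl)))))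
    · exact hB.cent_cls e (by decide) (h 11 (Or.inr (Or.inr (Or.inr (Or.inr rfl)))))
    · exact hB.cent_cls e (by decide) (hout 1 16 (Or.inl rfl) antidiag_facts.1 (by decide))
    · exact hB.cent_cls e (by decide) (hout 10 32 (Or.inr (Or.inl rfl)) antidiag_facts.2.1 (by decide))
    · exact hB.cent_cls e (by decide) (hout 11 48 (Or.inr (Or.inr rfl)) antidiag_facts.2.2.1 (by decide))
  have htop : F.big = ⊤ := by
    by_contra hM
    have hN : normalizer ((F.P : Subgroup G) : Set G) ≤ F.big := fun g hg => by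
      have hz : g * F.z * g⁻¹ = F.z := by
        refine F.z_unique (EightThree.conj_mem_of_mem_normalizer hg F.z_mem) (fun s hs => ?_)
          (by rw [Invol.orderOf_conj_eq]; exact F.orderOf_z)
        have hs' : g⁻¹ * s * g ∈ (F.P : Subgroup G) := by
          have := EightThree.conj_mem_of_mem_normalizer (inv_mem hg) hs
          rwa [inv_inv] at this
        obtain ⟨j, hj⟩ := (F.mem_iff _).1 hs'
        have hc := ((F.comm_z j).symm.map (MulAut.conj g).toMonoidHom).eq
        rw [hj] at hc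
        simpa [mul_assoc] using hc
      exact hX (mem_centralizer_singleton_iff.2 (mul_inv_eq_iff_eq_mul.1 hz))
    have heven : Even (Nat.card F.big) := even_iff_two_dvd.2 (by
      have := Subgroup.orderOf_dvd_natCard F.big (hB.f_mem_big 5)
      rwa [show F.f 5 = F.z from rfl, F.orderOf_z] at this)
    have hse := EightThree.stronglyEmbedded_of_centralizers hM F.P hB.P_le hN heven fun t ht ht2 => by
      obtain ⟨m, hm⟩ := Invol.exists_conj_mem_sylow (F.P.subtype hB.P_le)
        (K := zpowers (⟨t, ht⟩ : F.big)) (IsPGroup.of_card (n := 1) (by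
          rw [Nat.card_zpowers, Subgroup.orderOf_mk, ht2, pow_one]))
      obtain ⟨i, hi, hi0⟩ := F.exists_idx (g := (m : G) * t * (m : G)⁻¹) (hm _ (mem_zpowers _))
        (by rw [Invol.orderOf_conj_eq, ht2])
      exact hB.conj_le (inv_mem m.2) (by rw [hi]; group) (hall i hi0)
    exact hnv (isConj_of_stronglyEmbedded hse F.orderOf_z ((F.order_two_iff v).2 hv))
  have hWn : (sigGen F.eGrp).Normal := normalizer_eq_top_iff.1 htop
  have hW : sigGen F.eGrp = ⊥ := by
    refine le_bot_iff.1 ((le_of_le_of_eq ?_ hB.hG.hodd))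
    exact Core.le_pPrimeCore' hWn hB.odd_w.coprime_two_right
  exact le_bot_iff.1 (hB.th_z_le.trans hW.le)

end Base

end Frame

end Cfsg.Lib.AltEightSyl
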