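import Cfsg.Agent.Lib.AltEightSyl.OnePair
import Cfsg.Agent.Lib.AltEightSyl.FourCover

/-!
# The signalizer of the central involution when it is conjugate to 1
-/

set_option autoImplicit false
set_option linter.style.haveILetI false
set_option linter.unusedSectionVars false
set_option maxRecDepth 100000

namespace Cfsg.Lib.AltEightSyl

open Cfsg Cfsg.Lib Subgroup Syl34

universe u

theorem one_facts :
    (∀ i : Fin 64, inZ1 i = true → i ≠ 0 → aCl i = 5 ∨ aCl i = 1) ∧
    (∀ i, inEc i = true → eEAlpha (bdAlpha i) = i) ∧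
    (∀ i j, eEAlpha (bdAlpha (aMul i j)) = aMul (eEAlpha (bdAlpha i)) (eEAlpha (bdAlpha j))) ∧
    (eEAlpha (bdAlpha 5) = 5 ∧ eEAlpha (bdAlpha 1) = 1 ∧ eEAlpha (bdAlpha 2) = 6 ∧
      aCl (eEAlpha (bdAlpha 10)) = 11) := by
  refine ⟨?_, ?_, ?_, ?_, ?_, ?_, ?_⟩ <;> decide +kernel

namespace Frame

variable {G : Type u} [Group G] (F : Frame G) [Finite G]

namespace CaseOne

variable {F}

theorem x_le (h : F.CaseOne) (hG : Good F) : centralizer ({F.z} : Set G) ≤ F.big :=
  (h.base hG).x_le fun n k hn => (h.base hG).mem_of_anti hn (h.rot_zero hG k ⟨n, hn⟩)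

/-- The four-group is covered. -/
theorem inf_le_big (h : F.CaseOne) (hG : Good F) :
    centralizer ({F.f 10} : Set G) ⊓ centralizer ({F.f 2} : Set G) ≤ F.big := by
  have hB := h.base hG
  obtain ⟨h210, h102, -, -, -, hA10, hA2, hA8, -⟩ := u_facts.2.2.2.2.1
  have hux : F.f 10 * F.f 2 = F.f 8 := by rw [← F.fmul, h102]
  have tri : ∀ w : G, (w = F.f 10 ∨ w = F.f 2 ∨ w = F.f 10 * F.f 2) ↔ ∃ i, inT3 i = true ∧ w = F.f i := by
    intro w
    rw [hux]
    refine ⟨?_, ?_⟩
    · rintro (e | e | e)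
      exacts [⟨10, by decide +kernel, e⟩, ⟨2, by decide +kernel, e⟩, ⟨8, by decide +kernel, e⟩]
    · rintro ⟨i, hi, e⟩
      rcases (inT3_iff i).1 hi with rfl | rfl | rfl
      exacts [Or.inl e, Or.inr (Or.inl e), Or.inr (Or.inr e)]
  refine inf_centralizer_le (sigGen F.eGrp) F.aGrp F.z1Grp (F.f 10) (F.f 2) hB.odd_w (fun a ha => F.aGrp_sq ha)
    F.card_aGrp (F.aGrp_le.trans hB.P_le) (F.f_mem_aGrp hA10) (F.f_mem_aGrp hA2)
    (fun e => absurd ((F.eq_one_iff 10).1 e) (by decide)) (fun e => absurd ((F.eq_one_iff 2).1 e) (by decide))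
    (fun e => absurd (F.inj _ _ e) (by decide)) (h.max_aGrp hG) F.z1_le_aGrp F.card_z1Grp ?_ ?_ ?_ ?_
  · rintro _ ⟨i, hi, rfl⟩ hw
    obtain ⟨j, hj, e⟩ := (tri _).1 hw
    exact z1_not_t3 i hi (F.inj _ _ e ▸ hj)
  · rintro _ ⟨i, hi, rfl⟩ hi1
    have hi0 : i ≠ 0 := fun e => hi1 (e ▸ F.fone)
    have hiA := (z1_facts.2.2.2.2 i hi).2.1
    -- an element of the normaliser carrying the central involution to the given one
    have hc5 : F.Cj 5 i := by
      rcases one_facts.1 i hi hi0 with e | e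
      · rw [(aCl_list i).1.1 e]; exact IsConj.refl _
      · exact IsConj.trans h.1 (by have h' := F.cj_cl (i := i) (by rw [e]; decide); rwa [e] at h')
    obtain ⟨m, hm, em⟩ := F.fusion_one (by decide +kernel) hiA hc5
    set Y := centralizer ({F.f i} : Set G) ⊓ (centralizer ({F.f 10} : Set G) ⊓ centralizer ({F.f 2} : Set G)) with hY
    have hAY : F.aGrp ≤ Y := le_inf (F.aGrp_le_centralizer (F.f_mem_aGrp hiA))
      (le_inf (F.aGrp_le_centralizer (F.f_mem_aGrp hA10)) (F.aGrp_le_centralizer (F.f_mem_aGrp hA2)))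
    refine le_of_odd_mem (A := F.aGrp) (D := th (F.f i) ⊓ Y) hAY inf_le_right (F.P.isPGroup'.to_le F.aGrp_le)
      (fun R hR => h.max_aGrp hG R (hR.trans inf_le_right)) ?_ ?_ le_sup_left ?_
    · intro y hy
      refine EightThree.mem_normalizer_of_forall fun w hw => ?_
      exact mem_inf.2 ⟨EightThree.conj_mem_of_mem_normalizer (cent_le_norm_th _ (mem_inf.1 hy).1) (mem_inf.1 hw).1,
        Y.mul_mem (Y.mul_mem hy (mem_inf.1 hw).2) (Y.inv_mem hy)⟩
    · intro g hg hgo
      refine mem_inf.2 ⟨?_, hg⟩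
      obtain ⟨hgt, hg10, -⟩ := mem_inf.1 hg
      obtain ⟨v, hv, ev⟩ := F.exists_normalizer_idx (inv_mem hm) hA10
      have hvU := h.mem_u hG hv (F.cj_of_conj ev)
      have hv0 : v ≠ 0 ∧ v ≠ 5 := by
        constructor <;> (rintro rfl; exact absurd hvU (by decide +kernel))
      have hcz : Commute (m⁻¹ * g * m⁻¹⁻¹) F.z := by
        have := Commute.map (mem_centralizer_singleton_iff.1 hgt : Commute g (F.f i)) (MulAut.conj m⁻¹).toMonoidHom
        rw [show (MulAut.conj m⁻¹).toMonoidHom (F.f i) = F.z by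
          rw [← em]; show m⁻¹ * (m * F.f 5 * m⁻¹) * m⁻¹⁻¹ = F.f 5; group] at this
        exact this
      have hcv : Commute (m⁻¹ * g * m⁻¹⁻¹) (F.f v) := by
        have := Commute.map (mem_centralizer_singleton_iff.1 hg10 : Commute g (F.f 10)) (MulAut.conj m⁻¹).toMonoidHom
        rw [show (MulAut.conj m⁻¹).toMonoidHom (F.f 10) = F.f v from ev] at this
        exact this
      have := th_conj m _ (F.odd_mem_th hG (h.rot_zero hG) hcz
        (by rwa [show orderOf (m⁻¹ * g * m⁻¹⁻¹) = orderOf g from orderOf_injective (MulAut.conj m⁻¹).toMonoidHom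
          (MulAut.conj m⁻¹).injective g]) hv hv0.1 hv0.2 hcv)
      rwa [show m * (m⁻¹ * g * m⁻¹⁻¹) * m⁻¹ = g by group, show m * F.z * m⁻¹ = F.f i from em] at this
    · refine le_sup_of_le_right (le_inf (inf_le_left.trans ?_) (inf_le_right.trans inf_le_right))
      exact le_iSup_of_le (⟨F.f i, F.z1_le_eGrp ⟨i, hi, rfl⟩, hi1⟩ : {a : G // a ∈ F.eGrp ∧ a ≠ 1}) le_rfl
  · intro v hv
    obtain ⟨i, hi, rfl⟩ := (tri v).1 hv
    exact hB.th_le_w' (u_facts.2.2.2.2.2 i hi).1 (u_facts.2.2.2.2.2 i hi).2.1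
  · intro v hv g hg
    obtain ⟨i, hi, rfl⟩ := (tri v).1 hv
    obtain ⟨o, ho, n, hn, e, hn3⟩ := h.cover hG hi g hg
    refine ⟨o, ho, n, hn, e, fun w hw => ?_⟩
    obtain ⟨j, hj, rfl⟩ := (tri w).1 hw
    obtain ⟨j', hj', ej⟩ := hn3 j hj
    rw [ej]
    exact (tri _).2 ⟨j', hj', rfl⟩

/-- The centraliser of 10 lies in `M`. -/
theorem cent_ten_le (h : F.CaseOne) (hG : Good F) : centralizer ({F.f 10} : Set G) ≤ F.big := by
  have hB := h.base hG
  obtain ⟨h210, h102, h32, h328, h10c, hA10, hA2, hA8, -⟩ := u_facts.2.2.2.2.1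
  intro g hg
  obtain ⟨o, ho, n, hn, rfl, hn3⟩ := h.cover hG (v := 10) (by decide +kernel) g hg
  refine mul_mem (hB.w_le_big (hB.th_le_w' hA10 (by decide) ho)) ?_
  have hn10 : Commute n (F.f 10) := mem_centralizer_singleton_iff.1 hn
  obtain ⟨w, hw, ew⟩ := hn3 2 (by decide +kernel)
  rcases (inT3_iff w).1 hw with rfl | rfl | rfl
  · refine absurd (F.inj 2 10 ?_) (by decide)
    have : n * F.f 2 * n⁻¹ = n * F.f 10 * n⁻¹ := by rw [ew, hn10.eq, mul_inv_cancel_right]
    exact mul_left_cancel (mul_right_cancel this)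
  · exact h.inf_le_big hG (mem_inf.2 ⟨hn, mem_centralizer_singleton_iff.2 (mul_inv_eq_iff_eq_mul.1 ew)⟩)
  · have hs : F.f 32 * n ∈ centralizer ({F.f 10} : Set G) ⊓ centralizer ({F.f 2} : Set G) :=
      mem_inf.2 ⟨mem_centralizer_singleton_iff.2 (((F.comm_iff 10 32).2 h32).symm.mul_left hn10).eq,
        mem_centralizer_singleton_iff.2 (mul_inv_eq_iff_eq_mul.1 (by
          rw [show F.f 32 * n * F.f 2 * (F.f 32 * n)⁻¹ = F.f 32 * (n * F.f 2 * n⁻¹) * (F.f 32)⁻¹ by group, ew,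
            ← F.fconj, h328]))⟩
    have := mul_mem (inv_mem (hB.f_mem_big 32)) (h.inf_le_big hG hs)
    rwa [inv_mul_cancel_left] at this

theorem th_eq_bot (h : F.CaseOne) (hG : Good F) : th F.z = ⊥ := by
  have hB := h.base hG
  have hx := h.x_le hG
  obtain ⟨-, hfix, hm, h5, h1, h2, h10⟩ := one_facts
  have h5M : centralizer ({F.f 5} : Set G) ≤ F.big := hx
  have c1 : centralizer ({F.f 1} : Set G) ≤ F.big :=
    hB.cent_A (by decide +kernel) (by decide +kernel) h.1 h5M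
  have c10 := h.cent_ten_le hG
  have c11 : centralizer ({F.f 11} : Set G) ≤ F.big := by
    by_cases h11 : F.Cj 5 11
    · exact hB.cent_A (by decide +kernel) (by decide +kernel) h11 h5M
    have hi : Function.Injective fun i => eEAlpha (bdAlpha i) :=
      (Function.Involutive.injective alpha_facts.2.2.2.1).comp (Function.Involutive.injective bdAlpha_facts.2.1)
    set α := fun i => eEAlpha (bdAlpha i) with hα
    have hG' : Good (F.precomp α hm hi) := F.good_precomp hG α hm hi h5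
    have hc11 : F.Cj 11 (α 10) := by
      have h' := F.cj_cl (i := α 10) (by show aCl (eEAlpha (bdAlpha 10)) ≠ 0; rw [h10]; decide)
      rwa [show aCl (α 10) = 11 from h10] at h'
    have hcase : (F.precomp α hm hi).CaseOne := by
      refine ⟨?_, ?_, ?_⟩
      · show F.Cj (eEAlpha (bdAlpha 5)) (eEAlpha (bdAlpha 1)); rw [h5, h1]; exact h.1
      · show ¬ F.Cj (eEAlpha (bdAlpha 5)) (α 10)
        rw [h5]
        exact fun hh => h11 (IsConj.trans hh hc11.symm)
      · show F.Cj (eEAlpha (bdAlpha 2)) (α 10)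
        rw [h2]
        exact IsConj.trans h.cj_six hc11
    have key := hcase.cent_ten_le hG'
    rw [F.big_congr (F' := F.precomp α hm hi) fun i hi' => congrArg F.f (hfix i hi')] at key
    obtain ⟨c, -, hc⟩ := List.any_eq_true.1 (aCl_wit (α 10) (by show aCl (eEAlpha (bdAlpha 10)) ≠ 0; rw [h10]; decide))
    rw [show aCl (α 10) = 11 from h10, beq_iff_eq] at hc
    exact hB.conj_le (inv_mem (hB.f_mem_big c))
      (by show (F.f c)⁻¹ * F.f (α 10) * (F.f c)⁻¹⁻¹ = F.f 11; rw [← hc, F.fconj]; group) key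
  refine hB.th_eq_bot hx ?_ (v := 10) (by decide +kernel) h.2.1
  rintro r (rfl | rfl | rfl | rfl | rfl)
  exacts [c1, hB.cent_A (by decide +kernel) (by decide +kernel) h.2.2.symm c10,
    hB.cent_A (by decide +kernel) (by decide +kernel) h.cj_six.symm c11, c10, c11]

end CaseOne

end Frame

end Cfsg.Lib.AltEightSyl
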