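import Cfsg.Agent.Lib.AltEightSyl.SigBase
import Cfsg.Agent.Lib.AltEightSyl.PairIso

/-!
# The signalizer of the central involution when it is conjugate to 2 only
-/

set_option autoImplicit false
set_option linter.style.haveILetI false
set_option linter.unusedSectionVars false
set_option maxRecDepth 100000

namespace Cfsg.Lib.AltEightSyl

open Cfsg Cfsg.Lib Subgroup Syl34

universe u

theorem pair_two_facts :
    (∀ j : Fin 64, (j = 5 ∨ aCl j = 2) → aCm 1 j = true →
      (aMul j 1 = 5 ∨ aCl (aMul j 1) = 2) → j = 2 ∨ j = 3) ∧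
    aMul 2 1 = 3 ∧ aCm 1 2 = true ∧ aCm 1 16 = true ∧ aConj 16 2 = 3 ∧ aConj 16 3 = 2 ∧
    aCl 3 = 2 ∧ inA 2 = true ∧ inA 1 = true := by
  refine ⟨?_, ?_, ?_, ?_, ?_, ?_, ?_, ?_, ?_⟩ <;> decide +kernel

namespace Frame

variable {G : Type u} [Group G] (F : Frame G) [Finite G]

namespace CaseTwo

variable {F}

theorem huniq (h : F.CaseTwo) (hG : Good F) {g : G} (hg : g ∈ centralizer ({F.f 1} : Set G))
    (hgS : g * F.f 2 * g⁻¹ ∈ F.centS 1) :
    g * F.f 2 * g⁻¹ = F.f 2 ∨ g * F.f 2 * g⁻¹ = F.f 2 * F.f 1 := by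
  obtain ⟨huni, h21, -, -, -, -, h3, -, -⟩ := pair_two_facts
  obtain ⟨j, hj, e⟩ := (F.mem_centS 1 _).1 hgS
  have hgc : Commute g (F.f 1) := mem_centralizer_singleton_iff.1 hg
  have h5j : F.Cj 5 j := IsConj.trans h.1 (F.cj_of_conj e.symm)
  have h5k : F.Cj 5 (aMul j 1) := by
    refine IsConj.trans (IsConj.trans h.1 (F.cj_same (i := 2) (j := aMul 2 1) (by decide +kernel)
      (by rw [h21, h3]; decide +kernel))) (F.cj_of_conj (g := g) ?_)
    rw [F.fmul, F.fmul, e]
    calc g * (F.f 2 * F.f 1) * g⁻¹ = g * F.f 2 * g⁻¹ * (g * F.f 1 * g⁻¹) := by group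
      _ = g * F.f 2 * g⁻¹ * F.f 1 := by rw [hgc.eq, mul_inv_cancel_right]
  rcases huni j (h.z_class hG h5j) hj (h.z_class hG h5k) with rfl | rfl
  · exact Or.inl e.symm
  · exact Or.inr (by rw [← e, ← F.fmul, h21])

theorem cent_max (h : F.CaseTwo) : ∀ R : Subgroup G, R ≤ centralizer ({F.f 1} : Set G) → IsPGroup 2 R →
    F.centS 1 ≤ R → R ≤ F.centS 1 := by
  intro R hR hRp hle
  refine (eq_of_le_of_card_ge hle ?_).ge
  have h32 : Nat.card (F.centS 1) = 32 :=
    (F.card_centS 1).trans ((card_cent 1 (by decide +kernel)).2.1 (by decide +kernel))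
  rw [h32]
  refine F.exists_cent_max (fun j hj => ?_) hRp hR
  have hj0 : aCl j ≠ 0 := F.cl_of_cj hj (by decide +kernel)
  have hc := card_cent j hj0
  rw [F.card_centS]
  rcases ((aCl_facts j).2 hj0).1 with e | e | e | e | e | e | e | e | e
  · rw [(aCl_list j).1.1 e] at hj
    exact absurd hj.symm h.2.1
  · rw [hc.2.1 (Or.inl e)]
  · exact le_trans (le_of_eq (F.card_centS j).symm) ((F.card_centS_le hj0 (by rw [e]; decide)).trans (by norm_num))
  · exact le_trans (le_of_eq (F.card_centS j).symm) ((F.card_centS_le hj0 (by rw [e]; decide)).trans (by norm_num))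
  · rw [hc.2.1 (Or.inr (Or.inl e))]
  · rw [hc.2.1 (Or.inr (Or.inr e))]
  all_goals
    exact le_trans (le_of_eq (F.card_centS j).symm) ((F.card_centS_le hj0 (by rw [e]; decide)).trans (by norm_num))

theorem base (h : F.CaseTwo) (hG : Good F) : F.Base := by
  refine ⟨hG, ?_⟩
  obtain ⟨-, -, h12, -, -, -, -, h2A, h1A⟩ := pair_two_facts
  refine solvable_of_pair (S := F.centS 1) (x := F.f 2) inf_le_right
    (F.P.isPGroup'.to_le inf_le_left) h.cent_max
    ((F.mem_centS 1 _).2 ⟨1, by decide +kernel, rfl⟩) ((F.order_two_iff 1).2 (by decide +kernel))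
    (fun g hg => mem_centralizer_singleton_iff.1 hg)
    ((F.mem_centS 1 _).2 ⟨2, h12, rfl⟩) ((F.order_two_iff 2).2 (by decide +kernel))
    (fun e => absurd (F.inj _ _ e) (by decide)) (fun g hg hgS => h.huniq hG hg hgS) ?_
  obtain ⟨g, hg⟩ := isConj_iff.1 h.1
  haveI := solvable_cent_conj hg hG.hsol
  exact Group.isSolvable_of_isSolvable_injective
    (f := inclusion (inf_le_right : centralizer ({F.f 1} : Set G) ⊓ centralizer ({F.f 2} : Set G) ≤
      centralizer ({F.f 2} : Set G))) (inclusion_injective _)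

theorem th_eq_bot (h : F.CaseTwo) (hG : Good F) : th F.z = ⊥ := by
  have hB := h.base hG
  obtain ⟨-, h21, h12, h116, h162, h163, h3, h2A, h1A⟩ := pair_two_facts
  obtain ⟨r, hr, hrM⟩ := h.rot_diag hG
  have hrM' : (r : G) ∈ F.big := hrM F.big hB.th_z_le_big hB.normA_le
  -- every rotation lies in `M`
  have hX : ∀ (n : F.nq) (k : Fin 3 × Fin 3), F.perm n = rot k → (n : G) ∈ F.big := by
    intro n k hn
    have hi : ∀ i : Fin 3, ∃ m : F.nq, F.perm m = rot (i, i) ∧ (m : G) ∈ F.big := by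
      intro i
      fin_cases i
      · exact ⟨1, by rw [map_one]; exact (rot_facts.2.2.1 (0, 0)).2.2.symm, one_mem _⟩
      · exact ⟨r, hr, hrM'⟩
      · exact ⟨r * r, by rw [map_mul, hr, (rot_facts.2.1 _ _).1]; rfl, mul_mem hrM' hrM'⟩
    obtain ⟨m, hm, hmM⟩ := hi (k.1 + k.2)
    have hmem := hB.mem_of_anti (n := n * m) (k := (k.1 + (k.1 + k.2), k.2 + (k.1 + k.2)))
      (by rw [map_mul, hn, hm, (rot_facts.2.1 _ _).1]) (three k)
    have h' := mul_mem hmem (inv_mem hmM)
    rwa [coe_mul, mul_inv_cancel_right] at h'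
  have hx := hB.x_le hX
  have h5 : centralizer ({F.f 5} : Set G) ≤ F.big := hx
  have c2 : centralizer ({F.f 2} : Set G) ≤ F.big := hB.cent_A (by decide +kernel) h2A h.1 h5
  have c3 : centralizer ({F.f 3} : Set G) ≤ F.big := hB.cent_cls h3 (by decide) c2
  have c1 : centralizer ({F.f 1} : Set G) ≤ F.big := by
    intro g hg
    obtain ⟨o, ho, n, hn, rfl, hnx⟩ := cover_pair (S := F.centS 1) (x := F.f 2) inf_le_right
      (F.P.isPGroup'.to_le inf_le_left) h.cent_max
      ((F.mem_centS 1 _).2 ⟨1, by decide +kernel, rfl⟩) ((F.order_two_iff 1).2 (by decide +kernel))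
      (fun g hg => mem_centralizer_singleton_iff.1 hg)
      ((F.mem_centS 1 _).2 ⟨2, h12, rfl⟩) ((F.order_two_iff 2).2 (by decide +kernel))
      (fun e => absurd (F.inj _ _ e) (by decide)) (fun g hg hgS => h.huniq hG hg hgS) g hg
    refine mul_mem (hB.w_le_big (hB.th_le_w' h1A (by decide) ho)) ?_
    rcases hnx with e | e
    · exact c2 (mem_centralizer_singleton_iff.2 (mul_inv_eq_iff_eq_mul.1 e))
    · rw [← F.fmul, h21] at e
      have hs : F.f 16 * n ∈ centralizer ({F.f 2} : Set G) := mem_centralizer_singleton_iff.2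
        (mul_inv_eq_iff_eq_mul.1 (show F.f 16 * n * F.f 2 * (F.f 16 * n)⁻¹ = F.f 2 by
          rw [show F.f 16 * n * F.f 2 * (F.f 16 * n)⁻¹ = F.f 16 * (n * F.f 2 * n⁻¹) * (F.f 16)⁻¹ by group, e,
            ← F.fconj, h163]))
      have := mul_mem (inv_mem (hB.f_mem_big 16)) (c2 hs)
      rwa [inv_mul_cancel_left] at this
  obtain ⟨n, hn, -, j, j', ej, hj, ej', hj'⟩ := h.exists_diag
  have cj : centralizer ({F.f j} : Set G) ≤ F.big := hB.conj_le (hB.normA_le hn) ej c1
  have hrep : ∀ i r : Fin 64, aCl i = r → r ≠ 0 → centralizer ({F.f i} : Set G) ≤ F.big →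
      centralizer ({F.f r} : Set G) ≤ F.big := by
    intro i r hi hr hc
    obtain ⟨c, -, hc'⟩ := List.any_eq_true.1 (aCl_wit i (hi ▸ hr))
    rw [hi, beq_iff_eq] at hc'
    exact hB.conj_le (inv_mem (hB.f_mem_big c)) (by rw [← hc', F.fconj]; group) hc
  have c10 := hrep j 10 hj (by decide) cj
  have c11 := hrep j' 11 hj' (by decide) (hB.conj_le (hB.normA_le hn) ej' c10)
  refine hB.th_eq_bot hx ?_ (v := 1) (by decide +kernel) h.2.1
  rintro r (rfl | rfl | rfl | rfl | rfl)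
  exacts [c1, c2, hB.cent_A h1A (by decide +kernel) h.cj_six.symm c1, c10, c11]
where
  three : ∀ k : Fin 3 × Fin 3, k.1 + (k.1 + k.2) + (k.2 + (k.1 + k.2)) = 0 := by decide +kernel

end CaseTwo

end Frame

end Cfsg.Lib.AltEightSyl
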