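import Cfsg.Agent.Lib.AltEightSyl.Quat
import Mathlib.GroupTheory.NoncommCoprod
import Mathlib.GroupTheory.OrderOfElement

/-!
# Two commuting quaternion groups exchanged by an involution, inside an involution centraliser
-/

set_option autoImplicit false

namespace Cfsg.Lib.AltEightSyl

open Subgroup Quat

/-- The centraliser of `t` has a normal, self-centralising central product of two quaternion groups
whose factors are exchanged by the involution `s`. -/
structure Wreath {G : Type*} [Group G] (t : G) where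
  /-- The first factor. -/
  Q1 : Subgroup G
  /-- The second factor. -/
  Q2 : Subgroup G
  /-- The first factor is a quaternion group. -/
  e1 : Q1 ≃* QuaternionGroup 2
  ht : orderOf t = 2
  htQ : t ∈ Q1
  hcomm : ∀ x ∈ Q1, ∀ y ∈ Q2, x * y = y * x
  hinf : Q1 ⊓ Q2 = zpowers t
  hle : Q1 ⊔ Q2 ≤ centralizer ({t} : Set G)
  /-- The exchanging involution. -/
  s : G
  hs : orderOf s = 2
  hst : s * t = t * s
  hswap : ∀ x, x ∈ Q1 ↔ s * x * s⁻¹ ∈ Q2
  hnorm : ∀ g ∈ centralizer ({t} : Set G), ∀ x ∈ Q1 ⊔ Q2, g * x * g⁻¹ ∈ Q1 ⊔ Q2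
  hcent : centralizer ({t} : Set G) ⊓ centralizer ((Q1 ⊔ Q2 : Subgroup G) : Set G) ≤ Q1 ⊔ Q2

namespace Wreath

variable {G : Type*} [Group G] {t : G} (W : Wreath t)

include W in
theorem t_ne : t ≠ 1 := fun h => by have := W.ht; rw [h, orderOf_one] at this; omega

include W in
theorem t_sq : t * t = 1 := by rw [← sq, ← W.ht, pow_orderOf_eq_one]

theorem s_sq : W.s * W.s = 1 := by rw [← sq, ← W.hs, pow_orderOf_eq_one]

theorem s_inv : W.s⁻¹ = W.s := inv_eq_of_mul_eq_one_right W.s_sq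

theorem s_mem : W.s ∈ centralizer ({t} : Set G) := mem_centralizer_singleton_iff.2 W.hst

include W in
theorem mem_inf_cases {x : G} (h1 : x ∈ W.Q1) (h2 : x ∈ W.Q2) : x = 1 ∨ x = t := by
  obtain ⟨k, rfl⟩ := mem_zpowers_iff.1 (W.hinf ▸ mem_inf.2 ⟨h1, h2⟩ : x ∈ zpowers t)
  rcases Int.even_or_odd k with ⟨j, rfl⟩ | ⟨j, rfl⟩
  · left; rw [zpow_add, ← Commute.mul_zpow (Commute.refl t), W.t_sq, one_zpow]
  · right
    rw [zpow_add, zpow_one, two_mul, zpow_add, ← Commute.mul_zpow (Commute.refl t), W.t_sq, one_zpow, one_mul]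

/-- The first factor in coordinates. -/
def ι : Q8 →* G := W.Q1.subtype.comp W.e1.symm.toMonoidHom

theorem ι_mem (p : Q8) : W.ι p ∈ W.Q1 := (W.e1.symm p).2

theorem ι_inj : Function.Injective W.ι := fun p q h => W.e1.symm.injective (Subtype.ext h)

theorem ι_surj {x : G} (hx : x ∈ W.Q1) : ∃ p, W.ι p = x :=
  ⟨W.e1 ⟨x, hx⟩, by simp [ι]⟩

theorem ι_z : W.ι z = t := by
  obtain ⟨p, hp⟩ := W.ι_surj W.htQ
  have h : p * p = 1 := W.ι_inj (by rw [map_mul, map_one, hp, W.t_sq])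
  rcases ((sq_cases p).2).1 h with rfl | rfl
  · exact absurd (hp.symm.trans (map_one _)) W.t_ne
  · exact hp

/-- The second factor in coordinates. -/
def ι₂ : Q8 →* G := (MulAut.conj W.s).toMonoidHom.comp W.ι

theorem ι₂_apply (p : Q8) : W.ι₂ p = W.s * W.ι p * W.s⁻¹ := rfl

theorem ι₂_mem (p : Q8) : W.ι₂ p ∈ W.Q2 := (W.hswap _).1 (W.ι_mem p)

theorem ι₂_inj : Function.Injective W.ι₂ := (MulAut.conj W.s).injective.comp W.ι_inj

theorem ι₂_surj {x : G} (hx : x ∈ W.Q2) : ∃ p, W.ι₂ p = x := by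
  obtain ⟨p, hp⟩ := W.ι_surj ((W.hswap (W.s⁻¹ * x * W.s)).2 (by group; exact hx))
  exact ⟨p, by rw [ι₂_apply, hp]; group⟩

theorem ι₂_z : W.ι₂ z = t := by rw [ι₂_apply, W.ι_z, W.hst, mul_inv_cancel_right]

theorem comm_ι (p q : Q8) : Commute (W.ι p) (W.ι₂ q) := W.hcomm _ (W.ι_mem p) _ (W.ι₂_mem q)

/-- The product of the factors in coordinates. -/
def Φ : Q8 × Q8 →* G := MonoidHom.noncommCoprod W.ι W.ι₂ W.comm_ι

theorem Φ_apply (x : Q8 × Q8) : W.Φ x = W.ι x.1 * W.ι₂ x.2 := rfl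

theorem range_Φ : W.Φ.range = W.Q1 ⊔ W.Q2 := by
  rw [Φ, MonoidHom.noncommCoprod_range]
  congr 1 <;> ext x
  · exact ⟨fun ⟨p, h⟩ => h ▸ W.ι_mem p, fun h => W.ι_surj h⟩
  · exact ⟨fun ⟨p, h⟩ => h ▸ W.ι₂_mem p, fun h => W.ι₂_surj h⟩

theorem exists_pair {x : G} (hx : x ∈ W.Q1 ⊔ W.Q2) : ∃ p q, x = W.ι p * W.ι₂ q := by
  obtain ⟨⟨p, q⟩, h⟩ := (W.range_Φ.symm ▸ hx : x ∈ W.Φ.range)
  exact ⟨p, q, h.symm⟩

theorem pair_mem (p q : Q8) : W.ι p * W.ι₂ q ∈ W.Q1 ⊔ W.Q2 :=
  mul_mem (mem_sup_left (W.ι_mem p)) (mem_sup_right (W.ι₂_mem q))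

theorem ι_cent (p : Q8) : W.ι p ∈ centralizer ({t} : Set G) := W.hle (mem_sup_left (W.ι_mem p))

theorem pair_eq_one {p q : Q8} (h : W.ι p * W.ι₂ q = 1) : p = 1 ∧ q = 1 ∨ p = z ∧ q = z := by
  have e : W.ι₂ q = (W.ι p)⁻¹ := eq_inv_of_mul_eq_one_right h
  rcases W.mem_inf_cases (inv_mem (W.ι_mem p)) (e ▸ W.ι₂_mem q) with h1 | h1
  · left
    exact ⟨W.ι_inj (by rw [map_one, ← inv_eq_one, h1]), W.ι₂_inj (by rw [map_one, e, h1])⟩
  · right
    refine ⟨W.ι_inj ?_, W.ι₂_inj (by rw [W.ι₂_z, e, h1])⟩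
    rw [W.ι_z, ← inv_inj, h1, inv_eq_of_mul_eq_one_right W.t_sq]

/-- Only the identity and `t` in the product commute with both factors. -/
theorem central_cases {c : G} (hc : c ∈ centralizer ({t} : Set G)) (h1 : ∀ p, Commute c (W.ι p))
    (h2 : ∀ p, Commute c (W.ι₂ p)) : c = 1 ∨ c = t := by
  have hC : c ∈ centralizer ((W.Q1 ⊔ W.Q2 : Subgroup G) : Set G) := by
    rw [mem_centralizer_iff]
    intro x hx
    obtain ⟨p, q, rfl⟩ := W.exists_pair hx
    exact ((h1 p).mul_right (h2 q)).eq.symm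
  obtain ⟨u, v, rfl⟩ := W.exists_pair (W.hcent ⟨hc, hC⟩)
  have hu : u = 1 ∨ u = z := central u fun x => W.ι_inj (by
    rw [map_mul, map_mul]
    have h := (h1 x).mul_left ((W.comm_ι x v).symm.inv_left)
    rw [mul_inv_cancel_right] at h
    exact h.eq)
  have hv : v = 1 ∨ v = z := central v fun x => W.ι₂_inj (by
    rw [map_mul, map_mul]
    have h := ((W.comm_ι u x).inv_left).mul_left (h2 x)
    rw [inv_mul_cancel_left] at h
    exact h.eq)
  rcases hu with rfl | rfl <;> rcases hv with rfl | rfl <;>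
    simp [W.ι_z, W.ι₂_z, W.t_sq]

theorem eq_one_of_odd {c : G} (hc : c ∈ centralizer ({t} : Set G)) (ho : Odd (orderOf c))
    (h1 : ∀ p, Commute c (W.ι p)) (h2 : ∀ p, Commute c (W.ι₂ p)) : c = 1 := by
  refine (W.central_cases hc h1 h2).resolve_right fun h => ?_
  rw [h, W.ht] at ho
  exact absurd ho (by decide)

/-- An element of the centraliser sends the first factor to a factor. -/
theorem side {c : G} (hc : c ∈ centralizer ({t} : Set G)) :
    (∀ p, c * W.ι p * c⁻¹ ∈ W.Q1) ∨ ∀ p, c * W.ι p * c⁻¹ ∈ W.Q2 := by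
  have hct : c * t * c⁻¹ = t := mul_inv_eq_iff_eq_mul.2 (mem_centralizer_singleton_iff.1 hc)
  have hone : ∀ p, c * W.ι p * c⁻¹ ∈ W.Q1 ∨ c * W.ι p * c⁻¹ ∈ W.Q2 := by
    intro p
    obtain ⟨u, v, e⟩ := W.exists_pair (W.hnorm c hc _ (mem_sup_left (W.ι_mem p)))
    rcases (sq_cases p).1 with h | h
    · left
      rcases ((sq_cases p).2).1 h with rfl | rfl
      · simp [map_one, one_mem]
      · rw [W.ι_z, hct]; exact W.htQ
    · rcases (sq_cases v).1 with hv | hv
      · left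
        rw [e]
        rcases ((sq_cases v).2).1 hv with rfl | rfl
        · rw [map_one, mul_one]; exact W.ι_mem u
        · rw [W.ι₂_z]; exact mul_mem (W.ι_mem u) W.htQ
      · right
        have htQ2 : t ∈ W.Q2 := (W.hinf.symm ▸ mem_zpowers t : t ∈ W.Q1 ⊓ W.Q2).2
        rcases (sq_cases u).1 with hu | hu
        · rw [e]
          rcases ((sq_cases u).2).1 hu with rfl | rfl
          · rw [map_one, one_mul]; exact W.ι₂_mem v
          · rw [W.ι_z]; exact mul_mem htQ2 (W.ι₂_mem v)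
        · exfalso
          have := congrArg (fun y => y * y) e
          rw [show c * W.ι p * c⁻¹ * (c * W.ι p * c⁻¹) = c * W.ι (p * p) * c⁻¹ by rw [map_mul]; group, h,
            W.ι_z, hct, (W.comm_ι u v).symm.mul_mul_mul_comm, ← map_mul, ← map_mul, hu, hv, W.ι_z, W.ι₂_z,
            W.t_sq] at this
          exact W.t_ne this
  by_contra hh
  push Not at hh
  obtain ⟨⟨p, hp⟩, q, hq⟩ := hh
  have hp2 := (hone p).resolve_left hp
  have hq1 := (hone q).resolve_right hq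
  have hsq : ∀ r, ¬ (c * W.ι r * c⁻¹ ∈ W.Q1 ∧ c * W.ι r * c⁻¹ ∈ W.Q2) → r * r = z := by
    intro r hr
    refine (sq_cases r).1.resolve_left fun h => hr ?_
    rcases ((sq_cases r).2).1 h with rfl | rfl
    · simp [map_one, one_mem]
    · rw [W.ι_z, hct]
      exact (W.hinf.symm ▸ mem_zpowers t : t ∈ W.Q1 ⊓ W.Q2)
  have hcm : p * q = q * p := W.ι_inj (by
    rw [map_mul, map_mul]
    exact (Commute.conj_iff (h := c)).1 (W.hcomm _ hq1 _ hp2).symm)
  rcases comm_sq p q (hsq p fun h => hp h.1) (hsq q fun h => hq h.2) hcm with rfl | rfl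
  · exact hp hq1
  · refine hq ?_
    rw [map_mul, W.ι_z, show c * (W.ι p * t) * c⁻¹ = c * W.ι p * c⁻¹ * (c * t * c⁻¹) by group, hct]
    exact mul_mem hp2 (W.hinf.symm ▸ mem_zpowers t : t ∈ W.Q1 ⊓ W.Q2).2

/-- Elements of the centraliser mapping the first factor to itself. -/
def Fix (c : G) : Prop := ∀ p, c * W.ι p * c⁻¹ ∈ W.Q1

theorem Fix.mul {c d : G} (hc : W.Fix c) (hd : W.Fix d) : W.Fix (c * d) := fun p => by
  obtain ⟨q, hq⟩ := W.ι_surj (hd p)
  have := hc q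
  rw [hq] at this
  rwa [show c * d * W.ι p * (c * d)⁻¹ = c * (d * W.ι p * d⁻¹) * c⁻¹ by group]

theorem Fix.pow {c : G} (hc : W.Fix c) : ∀ n : ℕ, W.Fix (c ^ n)
  | 0 => fun p => by simpa using W.ι_mem p
  | n + 1 => by rw [pow_succ]; exact Fix.mul W (Fix.pow hc n) hc

theorem fix_of_odd [Finite G] {c : G} (hc : c ∈ centralizer ({t} : Set G)) (ho : Odd (orderOf c)) : W.Fix c := by
  rcases W.side hc with h | h
  · exact h
  have hsc : c * W.s ∈ centralizer ({t} : Set G) := mul_mem hc W.s_mem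
  have h2 : ∀ p, c * W.ι₂ p * c⁻¹ ∈ W.Q1 := by
    intro p
    rcases W.side hsc with h' | h'
    · have := h' p
      rwa [show c * W.s * W.ι p * (c * W.s)⁻¹ = c * W.ι₂ p * c⁻¹ by rw [ι₂_apply]; group] at this
    · exfalso
      -- both factors would go into the second one
      let f : Q8 → Q8 := fun r => Classical.choose (W.ι₂_surj (h r))
      have hf : ∀ r, W.ι₂ (f r) = c * W.ι r * c⁻¹ := fun r => Classical.choose_spec (W.ι₂_surj (h r))
      have hfi : Function.Injective f := fun r r' e => W.ι_inj (by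
        have := congrArg W.ι₂ e
        rw [hf, hf] at this
        exact mul_left_cancel (mul_right_cancel this))
      obtain ⟨q, hq⟩ := W.ι₂_surj (h' (QuaternionGroup.a 1))
      obtain ⟨r, rfl⟩ := Finite.injective_iff_surjective.1 hfi q
      rw [hf, show c * W.s * W.ι (QuaternionGroup.a 1) * (c * W.s)⁻¹ =
        c * W.ι₂ (QuaternionGroup.a 1) * c⁻¹ by rw [ι₂_apply]; group] at hq
      have e : W.ι r = W.ι₂ (QuaternionGroup.a 1) := mul_left_cancel (mul_right_cancel hq)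
      rcases W.mem_inf_cases (W.ι_mem r) (e ▸ W.ι₂_mem _) with h1 | h1 <;> rw [e] at h1
      · exact absurd (W.ι₂_inj (h1.trans (map_one _).symm)) (by decide)
      · exact absurd (W.ι₂_inj (h1.trans W.ι₂_z.symm)) (by decide)
  have hsq : W.Fix (c * c) := fun p => by
    obtain ⟨q, hq⟩ := W.ι₂_surj (h p)
    have := h2 q
    rw [hq] at this
    rwa [show c * c * W.ι p * (c * c)⁻¹ = c * (c * W.ι p * c⁻¹) * c⁻¹ by group]
  obtain ⟨m, hm⟩ := ho
  have e : c = (c * c) ^ (m + 1) := by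
    rw [← sq, ← pow_mul, show 2 * (m + 1) = orderOf c + 1 by omega, pow_succ, pow_orderOf_eq_one, one_mul]
  rw [e]
  exact Fix.pow W hsq _

/-- The action on the first factor in coordinates. -/
noncomputable def act {c : G} (h : W.Fix c) : Q8 →* Q8 where
  toFun p := W.e1 ⟨c * W.ι p * c⁻¹, h p⟩
  map_one' := by
    convert map_one W.e1
    simp [map_one]
  map_mul' p q := by
    rw [← map_mul]
    refine congrArg W.e1 (Subtype.ext ?_)
    simp [map_mul, mul_assoc]

theorem ι_act {c : G} (h : W.Fix c) (p : Q8) : W.ι (W.act h p) = c * W.ι p * c⁻¹ := by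
  simp [act, ι]

theorem ι_act_iter {c : G} (h : W.Fix c) (p : Q8) (k : ℕ) :
    W.ι ((⇑(W.act h))^[k] p) = c ^ k * W.ι p * (c ^ k)⁻¹ := by
  induction k with
  | zero => simp
  | succ k ih =>
    rw [Function.iterate_succ_apply', W.ι_act, ih, pow_succ']
    group

/-- An element acting trivially on the first factor. -/
theorem comm_of_act {c : G} (h : W.Fix c) (hid : ∀ p, W.act h p = p) (p : Q8) : Commute c (W.ι p) :=
  mul_inv_eq_iff_eq_mul.1 (by rw [← W.ι_act h, hid])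

theorem orderOf_swap (c : G) : orderOf (W.s * c * W.s⁻¹) = orderOf c :=
  MulEquiv.orderOf_eq (MulAut.conj W.s) c

theorem swap_mem {c : G} (hc : c ∈ centralizer ({t} : Set G)) : W.s * c * W.s⁻¹ ∈ centralizer ({t} : Set G) :=
  mul_mem (mul_mem W.s_mem hc) (inv_mem W.s_mem)

/-- The action of the conjugate on the first factor is the action on the second. -/
theorem comm_swap_iff {c : G} (p : Q8) : Commute (W.s * c * W.s⁻¹) (W.ι p) ↔ Commute c (W.ι₂ p) := by
  rw [show W.ι p = W.s * W.ι₂ p * W.s⁻¹ by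
    rw [ι₂_apply]; conv_rhs => rw [W.s_inv]
    calc W.ι p = W.s * W.s * W.ι p * (W.s * W.s) := by rw [W.s_sq, one_mul, mul_one]
      _ = _ := by group, Commute.conj_iff]

theorem cube_act [Finite G] {c : G} (h : W.Fix c) (h9 : c ^ 9 = 1) : ∀ p, W.act h (W.act h (W.act h p)) = p :=
  cube_of_nine fun p => W.ι_inj (by rw [W.ι_act_iter h p 9, h9]; simp)

end Wreath

end Cfsg.Lib.AltEightSyl
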