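import Cfsg.Agent.Lib.AltEightSyl.Factors
import Cfsg.Agent.Lib.AltEightSyl.Wreath

/-!
# The centraliser of the central involution when its odd core is trivial

The extraspecial subgroup is then a normal, self-centralising central product of two quaternion groups
exchanged by an involution, and the centraliser has order 192 or 576.
-/

set_option autoImplicit false
set_option linter.style.haveILetI false
set_option linter.unusedSectionVars false
set_option maxRecDepth 100000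

namespace Cfsg.Lib.AltEightSyl

open Cfsg Cfsg.Lib Subgroup
open Cfsg.Lib.Syl34 (th th_le odd_th commute_of_mem_th cent_le_norm_th odd_of_mem_th)

universe u

/-- The first quaternion factor. -/
def inQA (i : Fin 64) : Bool := [0, 5, 27, 30, 33, 36, 58, 63].contains i

/-- The second quaternion factor. -/
def inQB (i : Fin 64) : Bool := [0, 5, 26, 31, 43, 46, 49, 52].contains i

/-- The indices of the first factor in coordinates. -/
def qIdx : QuaternionGroup 2 → Fin 64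
  | .a i => [0, 27, aMul 27 27, aMul (aMul 27 27) 27].getD i.val 0
  | .xa i => aMul 33 ([0, 27, aMul 27 27, aMul (aMul 27 27) 27].getD i.val 0)

theorem factor_facts :
    (inQA 0 = true ∧ (∀ i j, inQA i = true → inQA j = true → inQA (aMul i j) = true) ∧
      (∀ i, inQA i = true → inQA (aInv i) = true)) ∧
    (inQB 0 = true ∧ (∀ i j, inQB i = true → inQB j = true → inQB (aMul i j) = true) ∧
      (∀ i, inQB i = true → inQB (aInv i) = true)) ∧
    (∀ i j, inQA i = true → inQB j = true → aCm i j = true) ∧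
    (∀ i, inQA i = true → inQ i = true) ∧ (∀ i, inQB i = true → inQ i = true) ∧
    (∀ i, inQA i = true → inQB i = true → i = 0 ∨ i = 5) ∧
    inQA 5 = true ∧ inQB 5 = true ∧
    (∀ i, inQB (aConj 2 i) = inQA i ∧ inQA (aConj 2 i) = inQB i) ∧ aInv 2 = 2 ∧ aCl 2 ≠ 0 := by
  refine ⟨⟨?_, ?_, ?_⟩, ⟨?_, ?_, ?_⟩, ?_, ?_, ?_, ?_, ?_, ?_, ?_, ?_, ?_⟩ <;> decide +kernel

theorem q_factor : ∀ i : Fin 64, inQ i = true →
    (List.finRange 64).any (fun a => inQA a &&
      (List.finRange 64).any fun b => inQB b && aMul a b == i) = true := by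
  decide +kernel

theorem qIdx_facts :
    (∀ x y : QuaternionGroup 2, qIdx (x * y) = aMul (qIdx x) (qIdx y)) ∧
    (∀ x y : QuaternionGroup 2, qIdx x = qIdx y → x = y) ∧
    (∀ x : QuaternionGroup 2, inQA (qIdx x) = true) ∧
    (∀ i : Fin 64, inQA i = true → ∃ x : QuaternionGroup 2, qIdx x = i) := by
  refine ⟨?_, ?_, ?_, ?_⟩ <;> decide +kernel

theorem range_facts :
    (∀ k l : Fin 3 × Fin 3, sig * rot k ≠ rot l) ∧ (sig ≠ 1) ∧
    (rot (1, 2) * sig * (rot (1, 2))⁻¹ * sig⁻¹ ≠ 1) ∧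
    (∀ k : Fin 3 × Fin 3, k.1 + k.2 = 0 → k = (0, 0) ∨ k = (1, 2) ∨ k = (2, 1)) ∧
    Fintype.card {k : Fin 3 × Fin 3 // k.1 + k.2 = 0} = 3 := by
  refine ⟨?_, ?_, ?_, ?_, ?_⟩ <;> decide +kernel

namespace Frame

variable {G : Type u} [Group G] (F : Frame G)

/-- The first quaternion factor. -/
def qaGrp : Subgroup G := F.sub inQA factor_facts.1.1 factor_facts.1.2.1 factor_facts.1.2.2

/-- The second quaternion factor. -/
def qbGrp : Subgroup G := F.sub inQB factor_facts.2.1.1 factor_facts.2.1.2.1 factor_facts.2.1.2.2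

theorem qa_sup_qb : F.qaGrp ⊔ F.qbGrp = F.qGrp := by
  refine le_antisymm (sup_le ?_ ?_) ?_
  · rintro _ ⟨i, hi, rfl⟩
    exact F.f_mem_qGrp (factor_facts.2.2.2.1 i hi)
  · rintro _ ⟨i, hi, rfl⟩
    exact F.f_mem_qGrp (factor_facts.2.2.2.2.1 i hi)
  · rintro _ ⟨i, hi, rfl⟩
    obtain ⟨a, -, ha'⟩ := List.any_eq_true.1 (q_factor i hi)
    simp only [Bool.and_eq_true, List.any_eq_true, beq_iff_eq] at ha'
    obtain ⟨ha, b, -, hb, rfl⟩ := ha'
    rw [F.fmul]
    exact mul_mem (mem_sup_left ⟨a, ha, rfl⟩) (mem_sup_right ⟨b, hb, rfl⟩)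

/-- The first factor is a quaternion group. -/
noncomputable def qaEquiv : F.qaGrp ≃* QuaternionGroup 2 :=
  (MulEquiv.ofBijective
    (MonoidHom.mk' (fun x : QuaternionGroup 2 => (⟨F.f (qIdx x), qIdx x, qIdx_facts.2.2.1 x, rfl⟩ : F.qaGrp))
      fun x y => Subtype.ext (show F.f (qIdx (x * y)) = F.f (qIdx x) * F.f (qIdx y) by rw [qIdx_facts.1, F.fmul]))
    ⟨fun x y e => qIdx_facts.2.1 x y (F.inj _ _ (congrArg Subtype.val e)), by
      rintro ⟨_, i, hi, rfl⟩
      obtain ⟨x, rfl⟩ := qIdx_facts.2.2.2 i hi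
      exact ⟨x, rfl⟩⟩).symm

variable [Finite G]

/-- With trivial odd core the centraliser of the central involution acts. -/
theorem acts_of_cent (hG : Good F) (hth : th F.z = ⊥) {g : G} (hg : g ∈ centralizer ({F.z} : Set G)) :
    F.Acts g := by
  obtain ⟨o, ho, n, hn, rfl⟩ := F.exists_acts hG (g := g) (mem_centralizer_singleton_iff.1 hg)
  rw [hth, mem_bot] at ho
  rwa [ho, one_mul]

theorem nq_eq (hG : Good F) (hth : th F.z = ⊥) : F.nq = centralizer ({F.z} : Set G) :=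
  le_antisymm inf_le_left fun g hg => F.mem_nq.2 (F.acts_of_cent hG hth hg)

/-- A 2-element of the group acting is conjugate into the Sylow subgroup. -/
theorem nq_two {s : G} (hs : s ∈ F.nq) (h2 : IsPGroup 2 (zpowers s)) :
    ∃ g ∈ F.nq, ∃ i, F.f i = g * s * g⁻¹ := by
  obtain ⟨c, hc, hcP⟩ := EightThree.exists_conj_le (C := F.nq) (P := (F.P : Subgroup G))
    (fun x hx => by obtain ⟨i, rfl⟩ := (F.mem_iff x).1 hx; exact F.nq_f i) F.P.isPGroup'
    (fun R _ hR hle => (F.P.3 hR hle).le) (zpowers_le.2 hs) h2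
  exact ⟨c, hc, (F.mem_iff _).1 (hcP _ (mem_zpowers _))⟩

/-- The elements centralising the extraspecial subgroup lie in it. -/
theorem cent_le_qGrp (hG : Good F) (hth : th F.z = ⊥) :
    centralizer ({F.z} : Set G) ⊓ centralizer (F.qGrp : Set G) ≤ F.qGrp := by
  intro c hc
  obtain ⟨s, hs, t, ht, e, hs2, hto⟩ := EightThree.exists_parts c
  have hsC := zpowers_le.2 hc hs
  have htC := zpowers_le.2 hc ht
  have hcomm : ∀ {y : G}, y ∈ centralizer (F.qGrp : Set G) → ∀ i, inQ i = true → Commute y (F.f i) :=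
    fun hy i hi => (mem_centralizer_iff.1 hy _ (F.f_mem_qGrp hi)).symm
  have ht1 : t = 1 := by
    have h := F.cent_q hG (mem_centralizer_singleton_iff.1 htC.1) (fun i hi => by
      rw [(hcomm htC.2 i hi).eq, mul_inv_cancel_right]
      exact F.md_refl _) hto
    rwa [hth, mem_bot] at h
  rw [e, ht1, mul_one]
  obtain ⟨g, hg, i, hi⟩ := F.nq_two (F.mem_nq.2 (F.acts_of_cent hG hth hsC.1)) hs2
  have hgQ := (F.mem_nq.1 hg).2
  have hQi : inQ i = true := core_facts.2.2.2.2.2.2 i fun j hj => by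
    obtain ⟨k, hk, ek⟩ := F.acts_idx (F.acts_inv (F.mem_nq.1 hg)) hj
    refine (F.comm_iff i j).1 ?_
    have h := hcomm hsC.2 k hk
    rw [← ek] at h
    rw [hi, show F.f j = g * (g⁻¹ * F.f j * g⁻¹⁻¹) * g⁻¹ by group, Commute.conj_iff]
    exact h
  refine (mem_normalizer_iff.1 hgQ s).2 ?_
  rw [← hi]
  exact F.f_mem_qGrp hQi

/-- The extraspecial subgroup as a central product of two quaternion groups exchanged by an involution. -/
theorem exists_wreath (hG : Good F) (hth : th F.z = ⊥) :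
    ∃ W : Wreath F.z, W.s = F.f 2 ∧ W.Q1 ⊔ W.Q2 = F.qGrp := by
  refine ⟨{
    Q1 := F.qaGrp
    Q2 := F.qbGrp
    e1 := F.qaEquiv
    ht := F.orderOf_z
    htQ := ⟨5, factor_facts.2.2.2.2.2.2.1, rfl⟩
    hcomm := ?_
    hinf := ?_
    hle := F.qa_sup_qb.le.trans F.qGrp_le_centralizer
    s := F.f 2
    hs := (F.order_two_iff 2).2 factor_facts.2.2.2.2.2.2.2.2.2.2
    hst := (F.comm_z 2).symm.eq
    hswap := ?_
    hnorm := ?_
    hcent := ?_ }, rfl, F.qa_sup_qb⟩
  · rintro _ ⟨i, hi, rfl⟩ _ ⟨j, hj, rfl⟩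
    exact ((F.comm_iff i j).2 (factor_facts.2.2.1 i j hi hj)).eq
  · refine le_antisymm ?_ (zpowers_le.2 ⟨⟨5, factor_facts.2.2.2.2.2.2.1, rfl⟩,
      ⟨5, factor_facts.2.2.2.2.2.2.2.1, rfl⟩⟩)
    rintro _ ⟨⟨i, hi, rfl⟩, j, hj, e⟩
    rw [F.inj _ _ e] at hj
    rcases factor_facts.2.2.2.2.2.1 i hi hj with rfl | rfl
    · rw [F.fone]; exact one_mem _
    · exact mem_zpowers F.z
  · intro x
    constructor
    · rintro ⟨i, hi, rfl⟩
      exact ⟨aConj 2 i, by rw [(factor_facts.2.2.2.2.2.2.2.2.1 i).1]; exact hi, F.fconj 2 i⟩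
    · rintro ⟨j, hj, e⟩
      refine ⟨aConj 2 j, by rw [(factor_facts.2.2.2.2.2.2.2.2.1 j).2]; exact hj, ?_⟩
      have hinv : (F.f 2)⁻¹ = F.f 2 := by rw [← F.finv, factor_facts.2.2.2.2.2.2.2.2.2.1]
      rw [F.fconj, e, hinv]
      have h2 : F.f 2 * F.f 2 = 1 := by nth_rw 1 [← hinv]; rw [inv_mul_cancel]
      calc F.f 2 * (F.f 2 * x * F.f 2) * F.f 2 = F.f 2 * F.f 2 * x * (F.f 2 * F.f 2) := by simp only [mul_assoc]
        _ = x := by rw [h2, one_mul, mul_one]
  · rw [F.qa_sup_qb]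
    exact fun g hg x hx => (mem_normalizer_iff.1 (F.acts_of_cent hG hth hg).2 x).1 hx
  · rw [F.qa_sup_qb]
    exact F.cent_le_qGrp hG hth

theorem mem_qGrp_of_perm (hG : Good F) (hth : th F.z = ⊥) {n : F.nq} (hn : F.perm n = 1) : (n : G) ∈ F.qGrp := by
  obtain ⟨s, hs, t, ht, e, hs2, hto⟩ := EightThree.exists_parts (n : G)
  have hmap : ∀ y (hy : y ∈ zpowers (n : G)), F.perm ⟨y, zpowers_le.2 n.2 hy⟩ = 1 := fun y hy => by
    obtain ⟨j, rfl⟩ := mem_zpowers_iff.1 hy
    rw [show (⟨(n : G) ^ j, _⟩ : F.nq) = n ^ j from Subtype.ext (by rw [SubgroupClass.coe_zpow]), map_zpow, hn,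
      one_zpow]
  have ht1 : t = 1 := by
    have h := F.mem_th_of_perm hG (hmap t ht) hto
    rwa [hth, mem_bot] at h
  rw [e, ht1, mul_one]
  obtain ⟨g, hg, i, hi⟩ := F.nq_two (zpowers_le.2 n.2 hs) hs2
  have h := F.perm_f i
  rw [show (⟨F.f i, F.nq_f i⟩ : F.nq) = ⟨g, hg⟩ * ⟨s, zpowers_le.2 n.2 hs⟩ * (⟨g, hg⟩ : F.nq)⁻¹ from
    Subtype.ext hi, map_mul, map_mul, map_inv, hmap s hs, mul_one, mul_inv_cancel] at h
  have hQi : inQ i = true := by
    by_contra hne
    rw [if_neg hne] at h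
    exact range_facts.2.1 h.symm
  refine (mem_normalizer_iff.1 (F.mem_nq.1 hg).2 s).2 ?_
  rw [← hi]
  exact F.f_mem_qGrp hQi

theorem perm_qGrp {n : F.nq} (h : (n : G) ∈ F.qGrp) : F.perm n = 1 := by
  obtain ⟨i, hi, e⟩ := h
  rw [show n = ⟨F.f i, F.nq_f i⟩ from Subtype.ext e.symm, F.perm_f, if_pos hi]

/-- The group acting has order 64 times the number of realised rotations. -/
theorem card_nq (hG : Good F) (hth : th F.z = ⊥) :
    Nat.card F.nq = 64 * Nat.card {k : Fin 3 × Fin 3 // F.Rot k} := by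
  classical
  have hker : Nat.card F.perm.ker = 32 := by
    refine (Nat.card_congr ?_).trans F.card_qGrp
    exact {
      toFun := fun n => ⟨(n.1 : G), F.mem_qGrp_of_perm hG hth (MonoidHom.mem_ker.1 n.2)⟩
      invFun := fun q => ⟨⟨q.1, by obtain ⟨i, -, e⟩ := q.2; exact e ▸ F.nq_f i⟩,
        MonoidHom.mem_ker.2 (F.perm_qGrp q.2)⟩
      left_inv := fun _ => rfl
      right_inv := fun _ => rfl }
  have h2 : F.perm ⟨F.f 2, F.nq_f 2⟩ = sig := by rw [F.perm_f, if_neg (by decide +kernel)]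
  let φ : Bool × {k : Fin 3 × Fin 3 // F.Rot k} → F.perm.range := fun p =>
    ⟨(if p.1 then sig else 1) * rot p.2.1, by
      obtain ⟨n, hn⟩ := p.2.2
      rw [← hn]
      by_cases hp : p.1 = true
      · rw [if_pos hp, ← h2]; exact mul_mem ⟨_, rfl⟩ ⟨_, rfl⟩
      · rw [if_neg hp, one_mul]; exact ⟨_, rfl⟩⟩
  have hφ : Function.Bijective φ := by
    constructor
    · rintro ⟨e, k, hk⟩ ⟨e', k', hk'⟩ h
      have h' := congrArg Subtype.val h
      cases e <;> cases e' <;>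
        simp only [φ, Bool.false_eq_true, if_false, if_true, one_mul, mul_right_inj] at h'
      · exact Prod.ext rfl (Subtype.ext ((rot_facts.2.1 k k').2 h'))
      · exact absurd h'.symm (range_facts.1 k' k)
      · exact absurd h' (range_facts.1 k k')
      · exact Prod.ext rfl (Subtype.ext ((rot_facts.2.1 k k').2 h'))
    · rintro ⟨_, n, rfl⟩
      rcases F.perm_cases n with ⟨k, hk⟩ | ⟨k, hk⟩
      · exact ⟨(false, ⟨k, n, hk⟩), Subtype.ext (by simp [φ, hk])⟩
      · refine ⟨(true, ⟨k, ⟨F.f 2, F.nq_f 2⟩ * n, by rw [map_mul, h2, hk]⟩), Subtype.ext ?_⟩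
        simp [φ, ← hk, ← mul_assoc, rot_facts.2.2.2.2]
  have hr : Nat.card F.perm.range = 2 * Nat.card {k : Fin 3 × Fin 3 // F.Rot k} := by
    rw [← Nat.card_eq_of_bijective φ hφ, Nat.card_prod, Nat.card_eq_fintype_card (α := Bool), Fintype.card_bool]
  rw [card_eq_card_quotient_mul_card_subgroup F.perm.ker, hker,
    Nat.card_congr (QuotientGroup.quotientKerEquivRange F.perm).toEquiv, hr]
  omega

theorem rot_zero : F.Rot (0, 0) := ⟨1, by rw [map_one, (rot_facts.2.2.1 (0, 0)).2.2]⟩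

/-- Only rotations in opposite senses: the centraliser has order 192. -/
theorem card_cent_one (hG : Good F) (hth : th F.z = ⊥) (h : ∀ k, F.Rot k → k.1 + k.2 = 0) :
    Nat.card (centralizer ({F.z} : Set G)) = 192 ∧
      ∃ g ∈ centralizer ({F.z} : Set G), g * F.f 2 * g⁻¹ * (F.f 2)⁻¹ ∉ F.qGrp := by
  classical
  constructor
  · have e : {k : Fin 3 × Fin 3 // F.Rot k} ≃ {k : Fin 3 × Fin 3 // k.1 + k.2 = 0} :=
      Equiv.subtypeEquivRight fun k => ⟨h k, fun hk => by
        rcases range_facts.2.2.2.1 k hk with rfl | rfl | rfl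
        · exact F.rot_zero
        · exact F.rot_anti hG
        · exact F.rot_mul (F.rot_anti hG) (F.rot_anti hG)⟩
    rw [← F.nq_eq hG hth, F.card_nq hG hth, Nat.card_congr e, Nat.card_eq_fintype_card, range_facts.2.2.2.2]
  · obtain ⟨n, hn⟩ := F.rot_anti hG
    refine ⟨n, n.2.1, fun hq => range_facts.2.2.1 ?_⟩
    have := F.perm_qGrp (n := n * ⟨F.f 2, F.nq_f 2⟩ * n⁻¹ * (⟨F.f 2, F.nq_f 2⟩ : F.nq)⁻¹) hq
    rwa [map_mul, map_mul, map_mul, map_inv, map_inv, hn, F.perm_f, if_neg (by decide +kernel)] at this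

/-- A rotation in the same sense: the centraliser has order 576. -/
theorem card_cent_two (hG : Good F) (hth : th F.z = ⊥) (h : F.Rot (1, 1)) :
    Nat.card (centralizer ({F.z} : Set G)) = 576 := by
  classical
  have h20 : F.Rot (2, 0) := F.rot_mul h (F.rot_anti hG)
  have h10 : F.Rot (1, 0) := F.rot_mul h20 h20
  have h02 : F.Rot (0, 2) := F.rot_swap h20
  have h01 : F.Rot (0, 1) := F.rot_swap h10
  have hall : ∀ k, F.Rot k := by
    rintro ⟨a, b⟩
    have hb : F.Rot (0, b) := by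
      fin_cases b
      exacts [F.rot_zero, h01, h02]
    have ha : F.Rot (a, 0) := by
      fin_cases a
      exacts [F.rot_zero, h10, h20]
    have := F.rot_mul ha hb
    simpa using this
  rw [← F.nq_eq hG hth, F.card_nq hG hth, Nat.card_congr (Equiv.subtypeUnivEquiv hall), Nat.card_prod,
    Nat.card_fin]

end Frame

end Cfsg.Lib.AltEightSyl
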